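import Cfsg.Agent.Lib.Golay.M24

/-!
Orders and transitivity of the dodecad stabiliser M12, its point stabiliser M11, and the point
stabilisers M23 and M22; transport to arbitrary points, octads and dodecads.
-/

set_option autoImplicit false

namespace CfsgLib.Golay

open Cfsg
open scoped Pointwise

/-! ### General transport -/

theorem perm_inv_apply (g : Equiv.Perm GolayPt) (x : GolayPt) : g⁻¹ (g x) = x := by
  rw [← Equiv.Perm.mul_apply, inv_mul_cancel, Equiv.Perm.one_apply]

theorem perm_apply_inv (g : Equiv.Perm GolayPt) (x : GolayPt) : g (g⁻¹ x) = x := by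
  rw [← Equiv.Perm.mul_apply, mul_inv_cancel, Equiv.Perm.one_apply]

theorem map_conj_eq {H L : Subgroup (Equiv.Perm GolayPt)} {g : Equiv.Perm GolayPt}
    (h : ∀ x, g * x * g⁻¹ ∈ L ↔ x ∈ H) : H.map (MulAut.conj g).toMonoidHom = L := by
  ext y
  rw [Subgroup.mem_map]
  constructor
  · rintro ⟨x, hx, rfl⟩
    exact (h x).2 hx
  · intro hy
    refine ⟨g⁻¹ * y * g, (h _).1 ?_, ?_⟩
    · simpa [mul_assoc] using hy
    · simp [MulAut.conj_apply, mul_assoc]

/-- Conjugation by `g` as an isomorphism between the pointwise stabilisers. -/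
noncomputable def fixPtsConj {H : Subgroup (Equiv.Perm GolayPt)} {g : Equiv.Perm GolayPt}
    (hg : g ∈ H) {l l' : List GolayPt} (hl : l.map g = l') : fixPts H l ≃* fixPts H l' :=
  (MulEquiv.subgroupMap (MulAut.conj g) (fixPts H l)).trans <| MulEquiv.subgroupCongr <|
    map_conj_eq (g := g) fun x => by
      subst hl
      simp only [mem_fixPts, List.forall_mem_map, Equiv.Perm.mul_apply, perm_inv_apply,
        g.injective.eq_iff, Subgroup.mul_mem_cancel_right H (H.inv_mem hg),
        Subgroup.mul_mem_cancel_left H hg]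

/-- A subgroup of `M24` and a subgroup of the symmetric group with the same elements. -/
noncomputable def subgroupEquiv {G : Subgroup (Equiv.Perm GolayPt)} {K : Subgroup G}
    {L : Subgroup (Equiv.Perm GolayPt)} (hle : L ≤ G)
    (h : ∀ g : G, g ∈ K ↔ (g : Equiv.Perm GolayPt) ∈ L) : K ≃* L :=
  (MulEquiv.subgroupCongr (Subgroup.ext fun g => (h g).trans Subgroup.mem_subgroupOf.symm)).trans
    (Subgroup.subgroupOfEquivOfLe hle)

theorem fixPts_le (H : Subgroup (Equiv.Perm GolayPt)) (l : List GolayPt) : fixPts H l ≤ H :=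
  fun _ hg => hg.1

theorem fixPts_congr (H : Subgroup (Equiv.Perm GolayPt)) {l l' : List GolayPt}
    (h : ∀ x, x ∈ l ↔ x ∈ l') : fixPts H l = fixPts H l' := by
  ext g; simp [mem_fixPts, h]

/-- A point stabiliser in `M24` is isomorphic to the stabiliser of the extra point. -/
theorem nonempty_stab_point (p : GolayPt) :
    Nonempty (MulAction.stabilizer M24 p ≃* fixPts M24 [none]) := by
  obtain ⟨g, hg, hgm⟩ := exists_map_M24 (xs := [p]) (ys := [none]) (by simp) (by simp) rfl (by simp)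
  refine ⟨(subgroupEquiv (fixPts_le M24 [p]) fun h => ?_).trans (fixPtsConj hg hgm)⟩
  simp [mem_fixPts, MulAction.mem_stabilizer_iff, Subgroup.smul_def]

/-- A two-point stabiliser in `M24` is isomorphic to that of the extra point and zero. -/
theorem nonempty_stab_two {p q : GolayPt} (hpq : p ≠ q) :
    Nonempty (↥(MulAction.stabilizer M24 p ⊓ MulAction.stabilizer M24 q) ≃*
      fixPts M24 [some 0, none]) := by
  obtain ⟨g, hg, hgm⟩ := exists_map_M24 (xs := [p, q]) (ys := [some 0, none]) (by simp [hpq])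
    (by simp) rfl (by simp)
  refine ⟨(subgroupEquiv (fixPts_le M24 [p, q]) fun h => ?_).trans (fixPtsConj hg hgm)⟩
  simp [mem_fixPts, MulAction.mem_stabilizer_iff, Subgroup.smul_def]

/-- A three-point stabiliser in `M24` is isomorphic to that of the extra point, zero and one. -/
theorem nonempty_stab_three {p q r : GolayPt} (hpq : p ≠ q) (hpr : p ≠ r) (hqr : q ≠ r) :
    Nonempty (↥(MulAction.stabilizer M24 p ⊓ MulAction.stabilizer M24 q ⊓
      MulAction.stabilizer M24 r) ≃* fixPts M24 [some 1, some 0, none]) := by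
  obtain ⟨g, hg, hgm⟩ := exists_map_M24 (xs := [p, q, r]) (ys := [some 1, some 0, none])
    (by simp [hpq, hpr, hqr]) (by decide) rfl (by simp)
  refine ⟨(subgroupEquiv (fixPts_le M24 [p, q, r]) fun h => ?_).trans (fixPtsConj hg hgm)⟩
  simp [mem_fixPts, MulAction.mem_stabilizer_iff, Subgroup.smul_def, and_assoc]

theorem card_stab_point (p : GolayPt) : Nat.card (MulAction.stabilizer M24 p) = 10200960 := by
  obtain ⟨e⟩ := nonempty_stab_point p
  rw [Nat.card_congr e.toEquiv, card_fix1]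

theorem card_stab_two {p q : GolayPt} (hpq : p ≠ q) :
    Nat.card ↥(MulAction.stabilizer M24 p ⊓ MulAction.stabilizer M24 q) = 443520 := by
  obtain ⟨e⟩ := nonempty_stab_two hpq
  rw [Nat.card_congr e.toEquiv, card_fix2]

theorem spor_M23_eq : Spor.M23 = fixPts M24 [none] := by
  rw [fixPts_cons, fixPts_nil]; rfl

theorem spor_M22_eq : Spor.M22 = fixPts M24 [some 0, none] := by
  rw [fixPts_cons, ← spor_M23_eq]; rfl

theorem card_M23 : Nat.card Spor.M23 = 10200960 := by rw [spor_M23_eq, card_fix1]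

theorem card_M22 : Nat.card Spor.M22 = 443520 := by rw [spor_M22_eq, card_fix2]

/-! ### The pointwise stabiliser of an octad -/

/-- The code of the identity. -/
def idCode : ℕ := 566073426779046459040877649791461066728553822781039575296

theorem idCode_spec : ∀ p : GolayPt, app idCode (bit p) = bit p := by decide +kernel

theorem octad_check :
    levelCheck (fun c => Nat.beq (app c 14) 14 && Nat.beq (app c 17) 17 && isMul idCode c c)
      [some 5, some 3, some 2, some 1, some 0, none] (some 4) 8241104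
      (Data.trans24.getD 6 []) = true := by
  decide +kernel

theorem octad0_fix {g : Equiv.Perm GolayPt}
    (hg : g ∈ fixPts M24 [some 5, some 3, some 2, some 1, some 0, none]) :
    (∀ x ∈ octad0, g x = x) ∧ g * g = 1 := by
  obtain ⟨σ, c, hσ, hc, hextra, hfix, hb⟩ := levelCheck_spec octad_check (up6 hg)
  have h1 : σ⁻¹ * g ∈ fixPts M24 [some 4, some 5, some 3, some 2, some 1, some 0, none] := by
    refine mem_fixPts.2 ⟨mul_mem (inv_mem (genGroup_le hσ)) hg.1, List.forall_mem_cons.2 ⟨?_, ?_⟩⟩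
    · rw [Equiv.Perm.mul_apply, ← hb, perm_inv_apply]
    · intro x hx
      rw [Equiv.Perm.mul_apply, hg.2 x hx]
      conv_lhs => rw [← hfix x hx]
      rw [perm_inv_apply]
  rw [fixPts_base7, Subgroup.mem_bot] at h1
  obtain rfl : σ = g := inv_mul_eq_one.1 h1
  simp only [Bool.and_eq_true, Nat.beq_eq] at hextra
  refine ⟨fun x hx => ?_, ?_⟩
  · rcases (by decide +kernel : ∀ y ∈ octad0,
        y ∈ [some 5, some 3, some 2, some 1, some 0, (none : GolayPt)] ∨ bit y = 14 ∨ bit y = 17) x hx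
      with h | h | h
    · exact hfix x h
    · exact bit_injective (by rw [← hc x, h, hextra.1.1])
    · exact bit_injective (by rw [← hc x, h, hextra.1.2])
  · exact IsPermOf.unique (hc.mul hc hextra.2) (fun p => idCode_spec p)

theorem octad0_pointwise :
    M24 ⊓ fixingSubgroup (Equiv.Perm GolayPt) (octad0 : Set GolayPt) =
      fixPts M24 [some 5, some 3, some 2, some 1, some 0, none] := by
  ext g
  simp only [Subgroup.mem_inf, mem_fixingSubgroup_iff, Finset.mem_coe, Equiv.Perm.smul_def]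
  constructor
  · rintro ⟨hg, h⟩
    exact ⟨hg, fun x hx => h x ((by decide +kernel : ∀ y : GolayPt,
      y ∈ [some 5, some 3, some 2, some 1, some 0, (none : GolayPt)] → y ∈ octad0) x hx)⟩
  · intro hg
    exact ⟨hg.1, fun x hx => (octad0_fix hg).1 x hx⟩

theorem octad_pointwise {o : Finset GolayPt} (ho : o ∈ octads) :
    Nat.card ↥(M24 ⊓ fixingSubgroup (Equiv.Perm GolayPt) (o : Set GolayPt)) = 16 ∧
      ∀ g ∈ M24 ⊓ fixingSubgroup (Equiv.Perm GolayPt) (o : Set GolayPt), g * g = 1 := by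
  obtain ⟨s, hs, rfl⟩ := exists_smul_octad octad0_mem ho
  have hmap : (fixPts M24 [some 5, some 3, some 2, some 1, some 0, none]).map
      (MulAut.conj s).toMonoidHom =
      M24 ⊓ fixingSubgroup (Equiv.Perm GolayPt) ((s • octad0 : Finset GolayPt) : Set GolayPt) := by
    rw [← octad0_pointwise]
    refine map_conj_eq fun x => ?_
    simp only [Subgroup.mem_inf, mem_fixingSubgroup_iff, Finset.mem_coe, Equiv.Perm.smul_def,
      Subgroup.mul_mem_cancel_right M24 (inv_mem hs), Subgroup.mul_mem_cancel_left M24 hs,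
      Equiv.Perm.mul_apply]
    refine and_congr_right fun _ => ⟨fun h y hy => ?_, fun h y hy => ?_⟩
    · have := h (s y) (Finset.smul_mem_smul_finset hy)
      rwa [perm_inv_apply, s.injective.eq_iff] at this
    · rw [h (s⁻¹ y) (Finset.inv_smul_mem_iff.2 hy), perm_apply_inv]
  rw [← hmap]
  refine ⟨?_, ?_⟩
  · rw [Subgroup.card_map_of_injective (MulEquiv.injective (MulAut.conj s))]
    exact card_fix6
  · rintro _ ⟨g, hg, rfl⟩
    rw [← map_mul, (octad0_fix hg).2, map_one]

/-! ### Dodecads -/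

theorem octad_inter_dodecad {o d : Finset GolayPt} (ho : o ∈ octads) (hd : d ∈ dodecads) :
    (o ∩ d).card = 2 ∨ (o ∩ d).card = 4 ∨ (o ∩ d).card = 6 := by
  have h1 := Finset.card_sdiff_add_card_inter o d
  have h2 := Finset.card_sdiff_add_card_inter d o
  rw [ho.2] at h1
  rw [hd.2, Finset.inter_comm d o] at h2
  have h3 : (symmDiff o d).card = (o \ d).card + (d \ o).card :=
    Finset.card_union_of_disjoint disjoint_sdiff_sdiff
  have := supports_card (supports_symmDiff ho.1 hd.1)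
  omega

theorem squareDodecad_eq : Spor.squareDodecad = toSet 340831 := by decide +kernel

theorem squareDodecad_mem : Spor.squareDodecad ∈ dodecads := by
  rw [squareDodecad_eq]
  exact mem_wordsOfWeight_iff.2 ⟨863, by norm_num, by decide +kernel, by
    rw [show comb 863 = 340831 by decide +kernel]⟩

theorem mem_M12 {g : Equiv.Perm GolayPt} :
    g ∈ Spor.M12 ↔ g ∈ M24 ∧ g • Spor.squareDodecad = Spor.squareDodecad := Iff.rfl

theorem M12_apply_mem {g : Equiv.Perm GolayPt} (hg : g ∈ Spor.M12) (x : GolayPt) :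
    g x ∈ Spor.squareDodecad ↔ x ∈ Spor.squareDodecad := by
  conv_lhs => rw [← (mem_M12.1 hg).2]
  exact Finset.smul_mem_smul_finset_iff g

theorem card_M12_mul : 2576 * Nat.card Spor.M12 = 244823040 := by
  have horb : MulAction.orbit M24 Spor.squareDodecad = dodecads := by
    ext d
    constructor
    · rintro ⟨⟨g, hg⟩, rfl⟩
      exact (M24_smul_mem_dodecads hg).2 squareDodecad_mem
    · intro hd
      obtain ⟨g, hg, h⟩ := exists_smul_dodecad squareDodecad_mem hd
      exact ⟨⟨g, hg⟩, h⟩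
  have e := subgroupEquiv (K := MulAction.stabilizer M24 Spor.squareDodecad) (L := Spor.M12)
    (fun g hg => (mem_M12.1 hg).1) fun g => ⟨fun h => mem_M12.2 ⟨g.2, h⟩, fun h => (mem_M12.1 h).2⟩
  have h := Subgroup.card_mul_index (MulAction.stabilizer M24 Spor.squareDodecad)
  have h2 : (MulAction.stabilizer M24 Spor.squareDodecad).index = 2576 := by
    rw [MulAction.index_stabilizer, horb, ncard_dodecads]
  exact (Nat.mul_comm _ _).trans
    ((congrArg₂ (· * ·) (Nat.card_congr e.toEquiv).symm h2.symm).trans (h.trans card_M24))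

theorem card_M12 : Nat.card Spor.M12 = 95040 :=
  Nat.eq_of_mul_eq_mul_left (by norm_num) (card_M12_mul.trans (by norm_num))

/-- The test that a code stabilises the dodecad of squares. -/
noncomputable def keeps12 (c : ℕ) : Bool := Nat.beq (push c 340831) 340831

theorem level12_checks :
    levelCheck keeps12 [] (some 0) 340831 (Data.trans12.getD 0 []) = true ∧
    levelCheck keeps12 [some 0] (some 1) 340830 (Data.trans12.getD 1 []) = true ∧
    levelCheck keeps12 [some 1, some 0] (some 2) 340828 (Data.trans12.getD 2 []) = true ∧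
    levelCheck keeps12 [some 2, some 1, some 0] (some 3) 340824 (Data.trans12.getD 3 []) = true ∧
    levelCheck keeps12 [some 3, some 2, some 1, some 0] (some 4) 340816
      (Data.trans12.getD 4 []) = true ∧
    levelCheck keeps12 [some 0] none 16436384 (Data.trans11.getD 0 []) = true ∧
    levelCheck keeps12 [none, some 0] (some 5) 8047776 (Data.trans11.getD 1 []) = true ∧
    levelCheck keeps12 [some 5, none, some 0] (some 7) 8047744 (Data.trans11.getD 2 []) = true := by
  decide +kernel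

theorem mask12_eqs :
    toSet 340831 = Spor.squareDodecad.filter (· ∉ ([] : List GolayPt)) ∧
    toSet 340830 = Spor.squareDodecad.filter (· ∉ [(some 0 : GolayPt)]) ∧
    toSet 340828 = Spor.squareDodecad.filter (· ∉ [(some 1 : GolayPt), some 0]) ∧
    toSet 340824 = Spor.squareDodecad.filter (· ∉ [(some 2 : GolayPt), some 1, some 0]) ∧
    toSet 340816 = Spor.squareDodecad.filter (· ∉ [(some 3 : GolayPt), some 2, some 1, some 0]) ∧
    toSet 16436384 = Spor.squareDodecadᶜ.filter (· ∉ [(some 0 : GolayPt)]) ∧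
    toSet 8047776 = Spor.squareDodecadᶜ.filter (· ∉ [(none : GolayPt), some 0]) ∧
    toSet 8047744 = Spor.squareDodecadᶜ.filter (· ∉ [(some 5 : GolayPt), none, some 0]) := by
  decide +kernel

theorem low12 {fixed : List GolayPt} {b : GolayPt} {Δ : ℕ} {idx : List ℕ}
    (h : levelCheck keeps12 fixed b Δ idx = true) :
    ∀ x ∈ toSet Δ, ∃ t, t ∈ fixPts Spor.M12 fixed ∧ t b = x := fun x hx => by
  obtain ⟨σ, c, hσ, hc, hk, hfix, hb⟩ := levelCheck_spec h hx
  refine ⟨σ, ⟨mem_M12.2 ⟨genGroup_le hσ, ?_⟩, hfix⟩, hb⟩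
  rw [squareDodecad_eq, ← toSet_push hc, Nat.eq_of_beq_eq_true hk]

theorem up12 {l : List GolayPt} {b : GolayPt} {Δ : ℕ}
    (hΔ : toSet Δ = Spor.squareDodecad.filter (· ∉ l)) (hb : b ∈ Spor.squareDodecad ∧ b ∉ l) :
    ∀ g ∈ fixPts Spor.M12 l, g b ∈ toSet Δ := fun g hg => by
  rw [hΔ, Finset.mem_filter]
  exact ⟨(M12_apply_mem hg.1 b).2 hb.1, apply_not_mem hb.2 hg⟩

theorem up12c {l : List GolayPt} {b : GolayPt} {Δ : ℕ}
    (hΔ : toSet Δ = Spor.squareDodecadᶜ.filter (· ∉ l)) (hb : b ∉ Spor.squareDodecad ∧ b ∉ l) :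
    ∀ g ∈ fixPts Spor.M12 l, g b ∈ toSet Δ := fun g hg => by
  rw [hΔ, Finset.mem_filter, Finset.mem_compl]
  exact ⟨fun h => hb.1 ((M12_apply_mem hg.1 b).1 h), apply_not_mem hb.2 hg⟩

theorem card12_steps :
    Nat.card Spor.M12 = 12 * Nat.card (fixPts Spor.M12 [some 0]) ∧
    Nat.card (fixPts Spor.M12 [some 0]) =
      7920 * Nat.card (fixPts Spor.M12 [some 4, some 3, some 2, some 1, some 0]) := by
  obtain ⟨c0, c1, c2, c3, c4, -⟩ := level12_checks
  obtain ⟨m0, m1, m2, m3, m4, -⟩ := mask12_eqs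
  have e0 := card_fixPts_step (up12 (b := some 0) m0 (by decide +kernel)) (low12 c0)
  have e1 := card_fixPts_step (up12 (b := some 1) m1 (by decide +kernel)) (low12 c1)
  have e2 := card_fixPts_step (up12 (b := some 2) m2 (by decide +kernel)) (low12 c2)
  have e3 := card_fixPts_step (up12 (b := some 3) m3 (by decide +kernel)) (low12 c3)
  have e4 := card_fixPts_step (up12 (b := some 4) m4 (by decide +kernel)) (low12 c4)
  rw [fixPts_nil, card_toSet, ← pc24_eq, show pc24 340831 = 12 by decide +kernel] at e0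
  rw [card_toSet, ← pc24_eq, show pc24 340830 = 11 by decide +kernel] at e1
  rw [card_toSet, ← pc24_eq, show pc24 340828 = 10 by decide +kernel] at e2
  rw [card_toSet, ← pc24_eq, show pc24 340824 = 9 by decide +kernel] at e3
  rw [card_toSet, ← pc24_eq, show pc24 340816 = 8 by decide +kernel] at e4
  omega

theorem fixPts_base12 : fixPts Spor.M12 [some 4, some 3, some 2, some 1, some 0] = ⊥ := by
  refine Subgroup.eq_bot_of_card_eq _ ?_
  have := card12_steps
  rw [card_M12] at this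
  omega

theorem spor_M11_eq : Spor.M11 = fixPts Spor.M12 [some 0] := by
  rw [fixPts_cons, fixPts_nil]; rfl

theorem card_M11 : Nat.card Spor.M11 = 7920 := by
  have := card12_steps
  rw [card_M12] at this
  rw [spor_M11_eq]
  omega

/-- The five base points of `M12`. -/
def base12 : List GolayPt := [some 0, some 1, some 2, some 3, some 4]

theorem exists_map_base12 (xs : List GolayPt) (hn : xs.Nodup) (hlen : xs.length = 5)
    (hD : ∀ x ∈ xs, x ∈ Spor.squareDodecad) : ∃ g ∈ Spor.M12, base12.map g = xs := by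
  obtain ⟨c0, c1, c2, c3, c4, -⟩ := level12_checks
  obtain ⟨m0, m1, m2, m3, m4, -⟩ := mask12_eqs
  suffices hlev : ∀ (i : ℕ) (hi : i < base12.length), ∀ x ∈ Spor.squareDodecad,
      x ∉ ([] : List GolayPt) → x ∉ base12.take i →
      ∃ t ∈ fixPts Spor.M12 ([] ++ base12.take i), t base12[i] = x by
    obtain ⟨g, hg, hgm⟩ := exists_map_eq (fun g hg x => M12_apply_mem hg x) base12 [] xs hlev
      (by rw [hlen]; rfl) hn (fun x hx => ⟨hD x hx, by simp⟩)
    exact ⟨g, hg.1, hgm⟩
  · intro i hi x hxD _ hx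
    have hi5 : i < 5 := hi
    have go : ∀ {l : List GolayPt} {b : GolayPt} {Δ : ℕ} {idx : List ℕ},
        levelCheck keeps12 l b Δ idx = true → toSet Δ = Spor.squareDodecad.filter (· ∉ l) →
        (∀ y, y ∈ l ↔ y ∈ [] ++ base12.take i) → base12[i] = b →
        ∃ t ∈ fixPts Spor.M12 ([] ++ base12.take i), t base12[i] = x := by
      intro l b Δ idx hc hm hl hb
      obtain ⟨t, ht, htb⟩ := low12 hc x (by
        rw [hm, Finset.mem_filter]; exact ⟨hxD, by rw [hl]; simpa using hx⟩)
      exact ⟨t, ⟨ht.1, fun y hy => ht.2 y ((hl y).2 hy)⟩, by rw [hb]; exact htb⟩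
    interval_cases i
    exacts [go c0 m0 (by decide) rfl, go c1 m1 (by decide) rfl, go c2 m2 (by decide) rfl,
      go c3 m3 (by decide) rfl, go c4 m4 (by decide) rfl]

/-- M12 is sharply five-fold transitive on the dodecad of squares. -/
theorem M12_sharp {xs ys : List GolayPt} (hx : xs.Nodup) (hy : ys.Nodup) (hlx : xs.length = 5)
    (hly : ys.length = 5) (hxD : ∀ x ∈ xs, x ∈ Spor.squareDodecad)
    (hyD : ∀ y ∈ ys, y ∈ Spor.squareDodecad) : ∃! g, g ∈ Spor.M12 ∧ xs.map g = ys := by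
  obtain ⟨a, ha, ham⟩ := exists_map_base12 xs hx hlx hxD
  obtain ⟨b, hb, hbm⟩ := exists_map_base12 ys hy hly hyD
  have hba : xs.map ⇑(b * a⁻¹) = ys := by
    rw [← ham, ← hbm, List.map_map]
    exact List.map_congr_left fun z _ => by
      rw [Function.comp_apply, Equiv.Perm.mul_apply, perm_inv_apply]
  refine ⟨b * a⁻¹, ⟨mul_mem hb (inv_mem ha), hba⟩, ?_⟩
  rintro h ⟨hh, hhm⟩
  have hfix : b⁻¹ * h * a ∈ fixPts Spor.M12 [some 4, some 3, some 2, some 1, some 0] := by
    refine mem_fixPts.2 ⟨mul_mem (mul_mem (inv_mem hb) hh) ha, fun z hz => ?_⟩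
    have hz' : z ∈ base12 := (by decide : ∀ w : GolayPt,
      w ∈ [(some 4 : GolayPt), some 3, some 2, some 1, some 0] → w ∈ base12) z hz
    have hmap : base12.map (fun w => h (a w)) = base12.map b := by
      rw [hbm, ← hhm, ← ham, List.map_map]; rfl
    have := List.map_inj_left.1 hmap z hz'
    rw [Equiv.Perm.mul_apply, Equiv.Perm.mul_apply, this, perm_inv_apply]
  rw [fixPts_base12, Subgroup.mem_bot] at hfix
  rw [← mul_one (b * a⁻¹), ← one_mul h]
  calc 1 * h = b * (b⁻¹ * h * a) * a⁻¹ := by group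
    _ = b * a⁻¹ * 1 := by rw [hfix]; group

theorem exists_map_base11 (xs : List GolayPt) (hn : xs.Nodup) (hlen : xs.length = 3)
    (hD : ∀ x ∈ xs, x ∉ Spor.squareDodecad) :
    ∃ g ∈ fixPts Spor.M12 [some 0], [(none : GolayPt), some 5, some 7].map g = xs := by
  obtain ⟨-, -, -, -, -, c0, c1, c2⟩ := level12_checks
  obtain ⟨-, -, -, -, -, m0, m1, m2⟩ := mask12_eqs
  refine exists_map_eq (D := Spor.squareDodecadᶜ)
    (fun g hg x => by simp [M12_apply_mem hg x]) _ [some 0] xs
    (fun i hi x hxD hx0 hx => ?_) (by rw [hlen]; rfl) hn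
    (fun x hx => ⟨Finset.mem_compl.2 (hD x hx), fun h => hD x hx ?_⟩)
  · have hi3 : i < 3 := hi
    have go : ∀ {l : List GolayPt} {b : GolayPt} {Δ : ℕ} {idx : List ℕ},
        levelCheck keeps12 l b Δ idx = true → toSet Δ = Spor.squareDodecadᶜ.filter (· ∉ l) →
        (∀ y, y ∈ l ↔ y ∈ [some 0] ++ [(none : GolayPt), some 5, some 7].take i) →
        [(none : GolayPt), some 5, some 7][i] = b →
        ∃ t ∈ fixPts Spor.M12 ([some 0] ++ [(none : GolayPt), some 5, some 7].take i),
          t [(none : GolayPt), some 5, some 7][i] = x := by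
      intro l b Δ idx hc hm hl hb
      obtain ⟨t, ht, htb⟩ := low12 hc x (by
        rw [hm, Finset.mem_filter]
        exact ⟨hxD, by rw [hl, List.mem_append]; push Not; exact ⟨hx0, hx⟩⟩)
      exact ⟨t, ⟨ht.1, fun y hy => ht.2 y ((hl y).2 hy)⟩, by rw [hb]; exact htb⟩
    interval_cases i
    exacts [go c0 m0 (by decide) rfl, go c1 m1 (by decide) rfl, go c2 m2 (by decide) rfl]
  · rw [List.mem_singleton] at h
    rw [h]
    decide +kernel

/-- The stabiliser of a dodecad. -/
abbrev dodStab (d : Finset GolayPt) : Subgroup (Equiv.Perm GolayPt) :=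
  M24 ⊓ MulAction.stabilizer (Equiv.Perm GolayPt) d

theorem conj_dodStab {d : Finset GolayPt} {g : Equiv.Perm GolayPt} (hg : g ∈ M24)
    (hgd : g • Spor.squareDodecad = d) (x : Equiv.Perm GolayPt) :
    g * x * g⁻¹ ∈ dodStab d ↔ x ∈ Spor.M12 := by
  subst hgd
  have h1 : g * x * g⁻¹ ∈ M24 ↔ x ∈ M24 := by
    rw [Subgroup.mul_mem_cancel_right M24 (inv_mem hg), Subgroup.mul_mem_cancel_left M24 hg]
  have h2 : (g * x * g⁻¹) • (g • Spor.squareDodecad) = g • Spor.squareDodecad ↔
      x • Spor.squareDodecad = Spor.squareDodecad := by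
    rw [mul_smul, inv_smul_smul, mul_smul, smul_left_cancel_iff]
  exact ⟨fun h => mem_M12.2 ⟨h1.1 h.1, h2.1 h.2⟩, fun h => ⟨h1.2 (mem_M12.1 h).1, h2.2 (mem_M12.1 h).2⟩⟩

theorem nonempty_stab_dodecad {d : Finset GolayPt} (hd : d ∈ dodecads) :
    Nonempty (MulAction.stabilizer M24 d ≃* Spor.M12) := by
  obtain ⟨g, hg, hgd⟩ := exists_smul_dodecad squareDodecad_mem hd
  exact ⟨(subgroupEquiv (L := dodStab d) inf_le_left fun h =>
    ⟨fun hh => ⟨h.2, hh⟩, fun hh => hh.2⟩).trans
    ((MulEquiv.subgroupMap (MulAut.conj g) Spor.M12).trans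
      (MulEquiv.subgroupCongr (map_conj_eq (conj_dodStab hg hgd)))).symm⟩

theorem exists_smul_dodecad_point {d : Finset GolayPt} (hd : d ∈ dodecads) {p : GolayPt}
    (hp : p ∈ d) : ∃ g ∈ M24, g • Spor.squareDodecad = d ∧ g (some 0) = p := by
  obtain ⟨g, hg, hgd⟩ := exists_smul_dodecad squareDodecad_mem hd
  have hp' : g⁻¹ p ∈ Spor.squareDodecad := by
    rw [← hgd] at hp; exact Finset.inv_smul_mem_iff.2 hp
  obtain ⟨t, ht, htb⟩ := low12 level12_checks.1 (g⁻¹ p) (by
    rw [mask12_eqs.1]; simpa using hp')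
  exact ⟨g * t, mul_mem hg (mem_M12.1 ht.1).1, by rw [mul_smul, (mem_M12.1 ht.1).2, hgd],
    by rw [Equiv.Perm.mul_apply, htb, perm_apply_inv]⟩

theorem conj_stab11 {d : Finset GolayPt} {p : GolayPt} {g : Equiv.Perm GolayPt} (hg : g ∈ M24)
    (hgd : g • Spor.squareDodecad = d) (hgp : g (some 0) = p) (x : Equiv.Perm GolayPt) :
    g * x * g⁻¹ ∈ fixPts (dodStab d) [p] ↔ x ∈ fixPts Spor.M12 [some 0] := by
  subst hgp
  simp only [mem_fixPts, List.forall_mem_singleton, Equiv.Perm.mul_apply, perm_inv_apply,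
    g.injective.eq_iff, conj_dodStab hg hgd]

theorem nonempty_stab_dodecad_point {d : Finset GolayPt} (hd : d ∈ dodecads) {p : GolayPt}
    (hp : p ∈ d) :
    Nonempty (↥(MulAction.stabilizer M24 d ⊓ MulAction.stabilizer M24 p) ≃* Spor.M11) := by
  obtain ⟨g, hg, hgd, hgp⟩ := exists_smul_dodecad_point hd hp
  refine ⟨(subgroupEquiv (L := fixPts (dodStab d) [p]) (fun h hh => hh.1.1) fun h => ?_).trans
    (((MulEquiv.subgroupCongr spor_M11_eq).trans
      ((MulEquiv.subgroupMap (MulAut.conj g) _).trans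
        (MulEquiv.subgroupCongr (map_conj_eq (conj_stab11 hg hgd hgp)))))).symm⟩
  simp only [mem_fixPts, Subgroup.mem_inf, MulAction.mem_stabilizer_iff, List.forall_mem_singleton]
  exact ⟨fun hh => ⟨⟨h.2, hh.1⟩, hh.2⟩, fun hh => ⟨hh.1.2, hh.2⟩⟩

theorem card_stab_dodecad {d : Finset GolayPt} (hd : d ∈ dodecads) :
    Nat.card (MulAction.stabilizer M24 d) = 95040 := by
  obtain ⟨e⟩ := nonempty_stab_dodecad hd
  rw [Nat.card_congr e.toEquiv, card_M12]

theorem card_stab_dodecad_point {d : Finset GolayPt} (hd : d ∈ dodecads) {p : GolayPt}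
    (hp : p ∈ d) :
    Nat.card ↥(MulAction.stabilizer M24 d ⊓ MulAction.stabilizer M24 p) = 7920 := by
  obtain ⟨e⟩ := nonempty_stab_dodecad_point hd hp
  rw [Nat.card_congr e.toEquiv, card_M11]

theorem stab_dodecad_sharp {d : Finset GolayPt} (hd : d ∈ dodecads) (x y : Fin 5 ↪ GolayPt)
    (hx : ∀ i, x i ∈ d) (hy : ∀ i, y i ∈ d) :
    ∃! g : MulAction.stabilizer M24 d, ∀ i, ((g : M24) : Equiv.Perm GolayPt) (x i) = y i := by
  obtain ⟨s, hs, hsd⟩ := exists_smul_dodecad squareDodecad_mem hd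
  have hmem : ∀ z : Fin 5 ↪ GolayPt, (∀ i, z i ∈ d) →
      ∀ w ∈ List.ofFn (fun i => s⁻¹ (z i)), w ∈ Spor.squareDodecad := by
    intro z hz w hw
    obtain ⟨i, rfl⟩ := List.mem_ofFn.1 hw
    exact Finset.inv_smul_mem_iff.2 (hsd ▸ hz i)
  obtain ⟨h, ⟨hh, hhm⟩, huniq⟩ := M12_sharp (xs := List.ofFn fun i => s⁻¹ (x i))
    (ys := List.ofFn fun i => s⁻¹ (y i))
    (List.nodup_ofFn.2 fun i j hij => x.injective (s⁻¹.injective hij))
    (List.nodup_ofFn.2 fun i j hij => y.injective (s⁻¹.injective hij))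
    (by simp) (by simp) (hmem x hx) (hmem y hy)
  rw [List.map_ofFn, List.ofFn_inj] at hhm
  have hg := (conj_dodStab hs hsd h).2 hh
  refine ⟨⟨⟨s * h * s⁻¹, hg.1⟩, hg.2⟩, fun i => ?_, ?_⟩
  · have := congrFun hhm i
    simp only [Function.comp_apply] at this
    show (s * h * s⁻¹) (x i) = y i
    rw [Equiv.Perm.mul_apply, Equiv.Perm.mul_apply, this, perm_apply_inv]
  · rintro ⟨⟨g, hgM⟩, hgd⟩ hgi
    have h1 : s⁻¹ * g * s ∈ Spor.M12 := by
      refine (conj_dodStab hs hsd _).1 ?_
      rw [show s * (s⁻¹ * g * s) * s⁻¹ = g by group]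
      exact ⟨hgM, hgd⟩
    have h2 := huniq (s⁻¹ * g * s) ⟨h1, by
      rw [List.map_ofFn, List.ofFn_inj]
      funext i
      simp only [Function.comp_apply, Equiv.Perm.mul_apply, perm_apply_inv]
      exact congrArg _ (hgi i)⟩
    refine Subtype.ext (Subtype.ext ?_)
    show g = s * h * s⁻¹
    rw [← h2]; group

theorem stab_dodecad_point_three {d : Finset GolayPt} (hd : d ∈ dodecads) {p : GolayPt}
    (hp : p ∈ d) (x y : Fin 3 ↪ GolayPt) (hx : ∀ i, x i ∉ d) (hy : ∀ i, y i ∉ d) :
    ∃ g ∈ MulAction.stabilizer M24 d ⊓ MulAction.stabilizer M24 p,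
      ∀ i, (g : Equiv.Perm GolayPt) (x i) = y i := by
  obtain ⟨s, hs, hsd, hsp⟩ := exists_smul_dodecad_point hd hp
  have key : ∀ z : Fin 3 ↪ GolayPt, (∀ i, z i ∉ d) → ∃ g ∈ fixPts Spor.M12 [some 0],
      [(none : GolayPt), some 5, some 7].map g = List.ofFn fun i => s⁻¹ (z i) := by
    intro z hz
    refine exists_map_base11 _ (List.nodup_ofFn.2 fun i j hij => z.injective (s⁻¹.injective hij))
      (by simp) fun w hw => ?_
    obtain ⟨i, rfl⟩ := List.mem_ofFn.1 hw
    exact fun h => hz i (hsd ▸ Finset.inv_smul_mem_iff.1 h)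
  obtain ⟨a, ha, ham⟩ := key x hx
  obtain ⟨b, hb, hbm⟩ := key y hy
  have hm := (conj_stab11 hs hsd hsp (b * a⁻¹)).2 (mul_mem hb (inv_mem ha))
  refine ⟨⟨_, hm.1.1⟩, ⟨hm.1.2, hm.2 p (List.mem_singleton_self p)⟩, fun i => ?_⟩
  have hax := congrArg (fun l => l.map (fun w => s (b (a⁻¹ w)))) ham
  simp only [List.map_map, List.map_ofFn] at hax
  have hby := congrArg (fun l => l.map s) hbm
  simp only [List.map_map, List.map_ofFn] at hby
  have e : List.ofFn (fun i => s (b (a⁻¹ (s⁻¹ (x i))))) = List.ofFn fun i => y i := by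
    refine hax.symm.trans ?_
    refine Eq.trans ?_ (hby.trans ?_)
    · exact List.map_congr_left fun w _ => by simp only [Function.comp_apply, perm_inv_apply]
    · exact congrArg _ (funext fun i => perm_apply_inv s (y i))
  exact congrFun (List.ofFn_inj.1 e) i

/-! ### Hexads -/

theorem hexads_steiner {d : Finset GolayPt} (hd : d ∈ dodecads) :
    IsSteinerSystem 5 6 {h : Finset {p : GolayPt // p ∈ d} | ∃ o ∈ octads, (o ∩ d).card = 6 ∧
      h = Finset.subtype (fun p => p ∈ d) o} := by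
  constructor
  · rintro _ ⟨o, -, h6, rfl⟩
    rw [Finset.card_subtype, Finset.filter_mem_eq_inter, h6]
  intro s hs
  obtain ⟨o, ⟨ho, hso⟩, huniq⟩ := octads_steiner.2 (s.map (Function.Embedding.subtype _))
    (by rw [Finset.card_map, hs])
  have hsub : s.map (Function.Embedding.subtype _) ⊆ o ∩ d := fun x hx => by
    obtain ⟨x', hx', rfl⟩ := Finset.mem_map.1 hx
    exact Finset.mem_inter.2 ⟨hso (Finset.mem_map_of_mem _ hx'), x'.2⟩
  have h6 : (o ∩ d).card = 6 := by
    have h5 := Finset.card_le_card hsub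
    rw [Finset.card_map, hs] at h5
    rcases octad_inter_dodecad ho hd with h | h | h <;> omega
  refine ⟨Finset.subtype _ o, ⟨⟨o, ho, h6, rfl⟩, fun x hx => Finset.mem_subtype.2
    (hso (Finset.mem_map_of_mem (Function.Embedding.subtype _) hx))⟩, ?_⟩
  rintro _ ⟨⟨o', ho', -, rfl⟩, hso'⟩
  rw [huniq o' ⟨ho', fun x hx => ?_⟩]
  obtain ⟨x', hx', rfl⟩ := Finset.mem_map.1 hx
  exact Finset.mem_subtype.1 (hso' hx')

theorem hexad_count_checks :
    countR (fun x => let c := comb x; Nat.beq (pc24 c) 8 &&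
      (fun n => Nat.beq (pc24 (n &&& 340831)) 6) c) 12 0 = 132 ∧
    countR (fun x => let c := comb x; Nat.beq (pc24 c) 8 &&
      (fun n => Nat.beq (pc24 (n &&& 340831)) 2) c) 12 0 = 132 ∧
    countR (fun x => let c := comb x; Nat.beq (pc24 c) 8 &&
      (fun n => Nat.beq (pc24 (n &&& 340831)) 4) c) 12 0 = 495 := by
  decide +kernel

theorem octads_meeting_count {d : Finset GolayPt} (hd : d ∈ dodecads) (j : ℕ) :
    {o | o ∈ octads ∧ (o ∩ d).card = j}.ncard =
      countR (fun x => let c := comb x; Nat.beq (pc24 c) 8 &&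
        (fun n => Nat.beq (pc24 (n &&& 340831)) j) c) 12 0 := by
  obtain ⟨g, hg, rfl⟩ := exists_smul_dodecad squareDodecad_mem hd
  rw [← ncard_filter_weight 8 (fun n => Nat.beq (pc24 (n &&& 340831)) j)
    (fun o => (o ∩ Spor.squareDodecad).card = j) fun n _ => by
      rw [Nat.beq_eq, pc24_eq, ← card_toSet, toSet_and, squareDodecad_eq]]
  refine (Set.ncard_congr (fun o _ => g • o) (fun o ho => ?_) (fun a b _ _ h => ?_) fun o ho => ?_).symm
  · refine ⟨(M24_smul_mem_octads hg).2 ho.1, ?_⟩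
    rw [← Finset.smul_finset_inter, Finset.card_smul_finset]; exact ho.2
  · exact MulAction.injective g h
  · refine ⟨g⁻¹ • o, ⟨(M24_smul_mem_octads (inv_mem hg)).2 ho.1, ?_⟩, smul_inv_smul g o⟩
    have h := ho.2
    rw [← smul_inv_smul g o, ← Finset.smul_finset_inter, Finset.card_smul_finset] at h
    exact h

end CfsgLib.Golay
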