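import Cfsg.Agent.Lib.Golay.M24

/-!
The automorphisms of the octad system and multiplication by squares.
-/

set_option autoImplicit false

namespace CfsgLib.Golay

open Cfsg
open scoped Pointwise

theorem basis_octad_check :
    (basis.all fun b => Nat.beq (pc24 b) 8 && Nat.blt b 16777216 && memb b) = true := by
  decide +kernel

theorem basis_octad {b : ℕ} (hb : b ∈ basis) : toSet b ∈ octads := by
  have h := List.all_eq_true.1 basis_octad_check b hb
  simp only [Bool.and_eq_true, Nat.beq_eq, Nat.blt_eq, pc24_eq] at h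
  exact ⟨(toSet_mem_supports h.1.2).2 h.2, by rw [card_toSet]; exact h.1.1⟩

theorem M24_eq_setSystemAut_octads : M24 = setSystemAut octads := by
  refine le_antisymm (fun σ hσ => ?_) (fun σ hσ => ?_)
  · refine MulAction.mem_stabilizer_iff.2 (Set.ext fun s => ?_)
    rw [Set.mem_smul_set_iff_inv_smul_mem, M24_smul_mem_octads (inv_mem hσ)]
  · refine mem_M24_of_comp fun w hw => ?_
    obtain ⟨x, -, hx⟩ := mem_golay_iff.1 hw
    have hM : ∀ b ∈ basis,
        toWord b ∈ golayCode.comap (LinearMap.funLeft (ZMod 2) (ZMod 2) σ) := fun b hb => by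
      rw [Submodule.mem_comap, funLeft_word, ← support₂_mem_supports, support₂_comp,
        support₂_toWord]
      have h : σ⁻¹ • toSet b ∈ σ⁻¹ • octads := Set.smul_mem_smul_set (basis_octad hb)
      rw [MulAction.mem_stabilizer_iff.1 (inv_mem hσ)] at h
      exact h.1
    have key := toWord_comb_mem_of hM x
    rw [Submodule.mem_comap, hx, funLeft_word] at key
    exact key

/-- The code of a function on the points. -/
noncomputable def codeOf (f : GolayPt → GolayPt) : ℕ :=
  Nat.rec 0 (fun j ih => Nat.lor ih (Nat.shiftLeft (bit (f (pt j))) (Nat.mul 8 j))) 24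

theorem mulSquare_check : ∀ r : ZMod 23,
    r = 0 ∨ (inM24 (codeOf fun p => p.map fun x => r * r * x) = true ∧
      ∀ p : GolayPt, app (codeOf fun q => q.map fun x => r * r * x) (bit p)
        = bit (p.map fun x => r * r * x)) := by
  decide +kernel

theorem mulSquare_mem_M24 {u : (ZMod 23)ˣ} (hu : IsSquare u) :
    Equiv.optionCongr (Units.mulLeft u) ∈ M24 := by
  obtain ⟨v, rfl⟩ := hu
  have : Fact (1 < 23) := ⟨by norm_num⟩
  rcases mulSquare_check (v : ZMod 23) with h | ⟨h1, h2⟩
  · exact absurd h v.ne_zero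
  refine mem_M24_of_inM24 (fun p => ?_) h1
  rw [h2]
  cases p <;> simp [Units.val_mul]

end CfsgLib.Golay
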