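import Cfsg.Prelude.Def_Sporadic_a

/-!
The length-24 code of `Def_Sporadic_a` as a list of 24-bit masks, for computations in the kernel.
The point `some x` sits at bit `x.val`, the extra point `none` at bit 23.
-/

set_option autoImplicit false

namespace CfsgLib.Golay

open Cfsg

/-! ### Points, sets and words as bit masks -/

/-- The bit position of a point. -/
def bit : GolayPt → ℕ := fun p => p.elim 23 fun x => x.val

/-- The point at a bit position. -/
def pt (n : ℕ) : GolayPt := if n < 23 then some (n : ZMod 23) else none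

theorem bit_lt (p : GolayPt) : bit p < 24 := by
  revert p; decide

theorem pt_bit (p : GolayPt) : pt (bit p) = p := by
  revert p; decide

theorem bit_pt {n : ℕ} (h : n < 24) : bit (pt n) = n := by
  revert n; decide

theorem bit_injective : Function.Injective bit := fun p q h => by
  rw [← pt_bit p, h, pt_bit]

/-- The number with bits `f i`, `i < k`. -/
def bitsOf (f : ℕ → Bool) : ℕ → ℕ
  | 0 => 0
  | k + 1 => bitsOf f k ||| (bif f k then 2 ^ k else 0)

theorem testBit_bitsOf (f : ℕ → Bool) (k i : ℕ) :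
    (bitsOf f k).testBit i = (decide (i < k) && f i) := by
  induction k with
  | zero => simp [bitsOf]
  | succ k ih =>
    rw [bitsOf, Nat.testBit_or, ih]
    rcases lt_trichotomy i k with h | h | h
    · cases hf : f k <;> simp [h, Nat.lt_succ_of_lt h, h.ne']
    · subst h; cases hf : f i <;> simp
    · cases hf : f k <;> simp [h.ne, not_lt.2 h.le, not_lt.2 (Nat.succ_le_of_lt h)]

theorem bitsOf_lt (f : ℕ → Bool) (k : ℕ) : bitsOf f k < 2 ^ k :=
  Nat.lt_pow_two_of_testBit _ fun i hi => by simp [testBit_bitsOf, not_lt.2 hi]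

/-- The set of points at the bits of a mask. -/
def toSet (n : ℕ) : Finset GolayPt := Finset.univ.filter fun p => n.testBit (bit p)

/-- The word with the given mask. -/
def toWord (n : ℕ) : GolayPt → ZMod 2 := fun p => if n.testBit (bit p) then 1 else 0

/-- The mask of a word. -/
def ofWord (w : GolayPt → ZMod 2) : ℕ := bitsOf (fun i => decide (w (pt i) ≠ 0)) 24

/-- The mask of a set of points. -/
def ofSet (s : Finset GolayPt) : ℕ := bitsOf (fun i => decide (pt i ∈ s)) 24

theorem mem_toSet {n : ℕ} {p : GolayPt} : p ∈ toSet n ↔ n.testBit (bit p) = true := by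
  simp [toSet]

theorem zmod_two_cases (a : ZMod 2) : a = 0 ∨ a = 1 := by
  revert a; decide

theorem toWord_ne_zero {n : ℕ} {p : GolayPt} : toWord n p ≠ 0 ↔ n.testBit (bit p) = true := by
  unfold toWord
  split <;> simp_all

theorem toWord_ofWord (w : GolayPt → ZMod 2) : toWord (ofWord w) = w := by
  funext p
  rcases zmod_two_cases (w p) with h | h <;>
    simp [toWord, ofWord, testBit_bitsOf, bit_lt, pt_bit, h]

theorem toSet_ofSet (s : Finset GolayPt) : toSet (ofSet s) = s := by
  ext p
  simp [mem_toSet, ofSet, testBit_bitsOf, bit_lt, pt_bit]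

theorem toWord_zero : toWord 0 = 0 := by
  funext p; simp [toWord]

theorem toWord_xor (m n : ℕ) : toWord (m ^^^ n) = toWord m + toWord n := by
  funext p
  simp only [toWord, Pi.add_apply, Nat.testBit_xor]
  cases m.testBit (bit p) <;> cases n.testBit (bit p) <;> decide

theorem eq_of_testBit_bit {m n : ℕ} (hm : m < 2 ^ 24) (hn : n < 2 ^ 24)
    (h : ∀ p : GolayPt, m.testBit (bit p) = n.testBit (bit p)) : m = n := by
  refine Nat.eq_of_testBit_eq fun i => ?_
  rcases lt_or_ge i 24 with hi | hi
  · have := h (pt i); rwa [bit_pt hi] at this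
  · rw [Nat.testBit_lt_two_pow (lt_of_lt_of_le hm (Nat.pow_le_pow_right two_pos hi)),
      Nat.testBit_lt_two_pow (lt_of_lt_of_le hn (Nat.pow_le_pow_right two_pos hi))]

theorem toSet_inj {m n : ℕ} (hm : m < 2 ^ 24) (hn : n < 2 ^ 24) (h : toSet m = toSet n) : m = n :=
  eq_of_testBit_bit hm hn fun p => by
    rw [Bool.eq_iff_iff, ← mem_toSet, ← mem_toSet, h]

theorem toWord_inj {m n : ℕ} (hm : m < 2 ^ 24) (hn : n < 2 ^ 24) (h : toWord m = toWord n) :
    m = n :=
  eq_of_testBit_bit hm hn fun p => by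
    rw [Bool.eq_iff_iff, ← toWord_ne_zero, ← toWord_ne_zero, h]

theorem ofSet_toSet {n : ℕ} (hn : n < 2 ^ 24) : ofSet (toSet n) = n :=
  toSet_inj (bitsOf_lt _ _) hn (toSet_ofSet _)

theorem ofWord_toWord {n : ℕ} (hn : n < 2 ^ 24) : ofWord (toWord n) = n :=
  toWord_inj (bitsOf_lt _ _) hn (toWord_ofWord _)

theorem support₂_toWord (n : ℕ) : support₂ (toWord n) = toSet n := by
  ext p
  simp [support₂, mem_toSet, toWord_ne_zero]

theorem toSet_and (m n : ℕ) : toSet (m &&& n) = toSet m ∩ toSet n := by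
  ext p; simp [mem_toSet]

theorem toSet_or (m n : ℕ) : toSet (m ||| n) = toSet m ∪ toSet n := by
  ext p; simp [mem_toSet]

theorem toSet_xor (m n : ℕ) : toSet (m ^^^ n) = symmDiff (toSet m) (toSet n) := by
  ext p
  simp only [mem_toSet, Finset.mem_symmDiff, Nat.testBit_xor]
  cases m.testBit (bit p) <;> cases n.testBit (bit p) <;> simp

/-- Number of ones among the lowest `k` bits. -/
def pc : ℕ → ℕ → ℕ
  | 0, _ => 0
  | k + 1, n => n % 2 + pc k (n / 2)

theorem pc_eq_card (k n : ℕ) :
    pc k n = ((Finset.range k).filter fun i => n.testBit i = true).card := by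
  induction k generalizing n with
  | zero => simp [pc]
  | succ k ih =>
    rw [pc, ih, Finset.card_filter, Finset.card_filter, Finset.sum_range_succ' _ k]
    simp only [Nat.testBit_succ, Nat.testBit_zero, decide_eq_true_eq]
    rcases Nat.mod_two_eq_zero_or_one n with h | h <;> rw [h] <;> simp [Nat.add_comm]

theorem card_toSet (n : ℕ) : (toSet n).card = pc 24 n := by
  rw [pc_eq_card]
  refine Finset.card_nbij bit (fun p hp => ?_) (bit_injective.injOn) fun i hi => ?_
  · simp_all [bit_lt, mem_toSet]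
  · simp only [Finset.coe_filter, Finset.mem_range, Set.mem_ofPred_eq] at hi
    exact ⟨pt i, by simp [mem_toSet, bit_pt hi.1, hi.2], bit_pt hi.1⟩

theorem hammingNorm_toWord (n : ℕ) : hammingNorm (toWord n) = pc 24 n := by
  rw [← card_toSet, ← support₂_toWord]
  rfl

/-- The table of the number of ones of all bytes, four bits each. -/
def pcTable : ℕ := 0x8776766576656554766565546554544376656554655454436554544354434332766565546554544365545443544343326554544354434332544343324332322176656554655454436554544354434332655454435443433254434332433232216554544354434332544343324332322154434332433232214332322132212110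

/-- A fast form of `pc 24`. -/
def pc24 (n : ℕ) : ℕ :=
  Nat.land (Nat.shiftRight pcTable (Nat.mul 4 (Nat.land n 255))) 15 +
    Nat.land (Nat.shiftRight pcTable (Nat.mul 4 (Nat.land (Nat.shiftRight n 8) 255))) 15 +
    Nat.land (Nat.shiftRight pcTable (Nat.mul 4 (Nat.land (Nat.shiftRight n 16) 255))) 15

theorem pc_add : ∀ a b n : ℕ, pc (a + b) n = pc a n + pc b (n / 2 ^ a)
  | 0, b, n => by simp [pc]
  | a + 1, b, n => by
    rw [Nat.add_right_comm, pc, pc, pc_add a b, Nat.div_div_eq_div_mul, Nat.pow_succ']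
    omega

theorem pc_mod : ∀ a n : ℕ, pc a n = pc a (n % 2 ^ a)
  | 0, n => rfl
  | a + 1, n => by
    rw [pc, pc, pc_mod a, pow_succ', Nat.mod_mul_right_mod, Nat.mod_mul_right_div_self]

theorem pcTable_spec : ∀ m < 256, pc 8 m = (pcTable >>> (4 * m)) &&& 15 := by
  decide +kernel

theorem pc24_eq (n : ℕ) : pc24 n = pc 24 n := by
  have h : ∀ m, (pcTable >>> (4 * (m &&& 255))) &&& 15 = pc 8 m := fun m => by
    have hm : m &&& 255 = m % 2 ^ 8 := Nat.and_two_pow_sub_one_eq_mod m 8
    rw [pc_mod 8 m, pcTable_spec (m % 2 ^ 8) (Nat.mod_lt _ (by norm_num)), hm]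
  show ((pcTable >>> (4 * (n &&& 255))) &&& 15) + ((pcTable >>> (4 * ((n >>> 8) &&& 255))) &&& 15) +
      ((pcTable >>> (4 * ((n >>> 16) &&& 255))) &&& 15) = _
  rw [h, h, h, show (24 : ℕ) = 8 + (8 + 8) from rfl, pc_add, pc_add, Nat.div_div_eq_div_mul,
    Nat.shiftRight_eq_div_pow, Nat.shiftRight_eq_div_pow, add_assoc, ← pow_add]

/-! ### Checks over ranges of length `2 ^ k`, with recursion of depth `k` -/

/-- `f` holds on `[lo, lo + 2 ^ k)`. -/
def allR (f : ℕ → Bool) : ℕ → ℕ → Bool
  | 0, lo => f lo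
  | k + 1, lo => allR f k lo && allR f k (lo + 2 ^ k)

theorem allR_spec {f : ℕ → Bool} : ∀ {k lo : ℕ}, allR f k lo = true →
    ∀ x, lo ≤ x → x < lo + 2 ^ k → f x = true
  | 0, lo, h, x, h₁, h₂ => by
    obtain rfl : x = lo := by simp at h₂; omega
    exact h
  | k + 1, lo, h, x, h₁, h₂ => by
    simp only [allR, Bool.and_eq_true] at h
    rcases lt_or_ge x (lo + 2 ^ k) with hx | hx
    · exact allR_spec h.1 x h₁ hx
    · exact allR_spec h.2 x hx (by rw [pow_succ] at h₂; omega)

/-- The number of `x` in `[lo, lo + 2 ^ k)` with `f x`. -/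
def countR (f : ℕ → Bool) : ℕ → ℕ → ℕ
  | 0, lo => bif f lo then 1 else 0
  | k + 1, lo => countR f k lo + countR f k (lo + 2 ^ k)

theorem countR_spec (f : ℕ → Bool) : ∀ k lo : ℕ,
    countR f k lo = ((Finset.Ico lo (lo + 2 ^ k)).filter fun x => f x = true).card
  | 0, lo => by
    simp only [countR, pow_zero, Nat.Ico_succ_singleton, Finset.filter_singleton]
    cases f lo <;> simp
  | k + 1, lo => by
    have hpos := Nat.two_pow_pos k
    rw [countR, countR_spec f k lo, countR_spec f k (lo + 2 ^ k),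
      ← Finset.card_union_of_disjoint, ← Finset.filter_union,
      Finset.Ico_union_Ico_eq_Ico (by omega) (by omega), pow_succ]
    · congr 3; omega
    · exact Finset.disjoint_filter_filter (Finset.Ico_disjoint_Ico_consecutive _ _ _)

/-! ### The code -/

/-- A systematic basis of the code (the lowest 12 bits form the identity matrix). -/
def basis : List ℕ :=
  [13062145, 4845570, 13938692, 7221256, 10170384, 11952160, 15515712, 2019456, 4038912, 8077824,
    11654144, 14919680]

/-- `b` when bit `i` of `x` is set, and `0` otherwise. -/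
def term (i b x : ℕ) : ℕ := Nat.mul (Nat.land (Nat.shiftRight x i) 1) b

/-- The `x`-th code word: the combination of the basis given by the bits of `x`. -/
def comb (x : ℕ) : ℕ :=
    term 0 13062145 x ^^^
    term 1 4845570 x ^^^
    term 2 13938692 x ^^^
    term 3 7221256 x ^^^
    term 4 10170384 x ^^^
    term 5 11952160 x ^^^
    term 6 15515712 x ^^^
    term 7 2019456 x ^^^
    term 8 4038912 x ^^^
    term 9 8077824 x ^^^
    term 10 11654144 x ^^^
    term 11 14919680 x

/-- Membership test of the code, on masks. -/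
def memb (n : ℕ) : Bool := comb (n &&& 4095) == n

theorem term_eq (i b x : ℕ) : term i b x = bif x.testBit i then b else 0 := by
  show ((x >>> i) &&& 1) * b = _
  rw [Nat.and_one_is_mod, Nat.testBit_eq_decide_div_mod_eq, ← Nat.shiftRight_eq_div_pow]
  rcases Nat.mod_two_eq_zero_or_one (x >>> i) with h | h <;> simp [h]

theorem term_xor (i b x y : ℕ) : term i b (x ^^^ y) = term i b x ^^^ term i b y := by
  simp only [term_eq, Nat.testBit_xor]
  cases x.testBit i <;> cases y.testBit i <;> simp

theorem term_zero (i b : ℕ) : term i b 0 = 0 := by simp [term_eq]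

theorem comb_xor (x y : ℕ) : comb (x ^^^ y) = comb x ^^^ comb y := by
  simp only [comb, term_xor]
  ac_rfl

theorem comb_zero : comb 0 = 0 := by
  simp only [comb, term_zero, Nat.xor_zero]

theorem toWord_comb_mem_of {M : Submodule (ZMod 2) (GolayPt → ZMod 2)}
    (h : ∀ b ∈ basis, toWord b ∈ M) (x : ℕ) : toWord (comb x) ∈ M := by
  have ht : ∀ i b, b ∈ basis → toWord (term i b x) ∈ M := fun i b hb => by
    rw [term_eq]
    cases x.testBit i
    · simp [toWord_zero]
    · exact h b hb
  simp only [comb, toWord_xor]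
  repeat' apply add_mem
  all_goals exact ht _ _ (by decide)

/-- The masks of the generators of the code: the translates of the squares and the full mask. -/
def genMasks : List ℕ :=
  (List.range 23).map (fun t => ofWord (qrWord (t : ZMod 23))) ++ [16777215]

/-- For each basis word, the generators it is the sum of. -/
def basisExpr : List (List ℕ) :=
  [[0, 3, 5, 7, 9, 10, 23], [3, 4, 8], [0, 3, 4, 7, 10, 23], [3, 4, 5, 6, 8, 10],
    [1, 3, 4, 5, 7, 9, 10, 23], [0, 1, 2, 4, 7, 8, 9, 10, 23], [0, 2, 3, 6, 7, 8, 10, 23],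
    [4, 6, 7, 8, 9, 10], [0, 1, 6, 8, 10], [0, 2, 5, 6], [0, 1, 5, 6, 9, 10, 23],
    [0, 2, 5, 9, 10, 23]]

theorem qrMask_checks :
    ((List.range 23).all fun t => memb (ofWord (qrWord (t : ZMod 23)))) = true ∧
      memb 16777215 = true ∧
      (basisExpr.map fun e => (e.map fun i => genMasks.getD i 0).foldr (· ^^^ ·) 0) = basis := by
  decide +kernel

theorem toWord_ones : toWord 16777215 = 1 := by
  funext p; revert p; decide +kernel

theorem genMasks_mem {n : ℕ} (hn : n ∈ genMasks) : toWord n ∈ golayCode := by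
  apply Submodule.subset_span
  simp only [genMasks, List.mem_append, List.mem_map, List.mem_singleton] at hn
  rcases hn with ⟨t, -, rfl⟩ | rfl
  · exact Or.inl ⟨_, (toWord_ofWord _).symm⟩
  · exact Or.inr toWord_ones

theorem basis_mem {b : ℕ} (hb : b ∈ basis) : toWord b ∈ golayCode := by
  rw [← qrMask_checks.2.2, List.mem_map] at hb
  obtain ⟨e, -, rfl⟩ := hb
  induction e with
  | nil => simp [toWord_zero]
  | cons i is ih =>
    simp only [List.map_cons, List.foldr_cons, toWord_xor]
    refine add_mem ?_ ih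
    rcases lt_or_ge i genMasks.length with hi | hi
    · rw [List.getD_eq_getElem _ _ hi]; exact genMasks_mem (List.getElem_mem hi)
    · rw [List.getD_eq_default _ _ hi, toWord_zero]; exact zero_mem _

theorem toWord_comb_mem (x : ℕ) : toWord (comb x) ∈ golayCode :=
  toWord_comb_mem_of (fun _ => basis_mem) x

/-- The words of the form `comb x`, as a submodule. -/
def combSub : Submodule (ZMod 2) (GolayPt → ZMod 2) where
  carrier := {w | ∃ x < 2 ^ 12, toWord (comb x) = w}
  zero_mem' := ⟨0, by norm_num, by rw [comb_zero, toWord_zero]⟩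
  add_mem' := by
    rintro _ _ ⟨x, hx, rfl⟩ ⟨y, hy, rfl⟩
    exact ⟨x ^^^ y, Nat.xor_lt_two_pow hx hy, by rw [comb_xor, toWord_xor]⟩
  smul_mem' := by
    rintro c _ ⟨x, hx, rfl⟩
    rcases zmod_two_cases c with rfl | rfl
    · exact ⟨0, by norm_num, by rw [comb_zero, toWord_zero, zero_smul]⟩
    · exact ⟨x, hx, (one_smul _ _).symm⟩

theorem golayCode_eq_combSub : golayCode = combSub := by
  apply le_antisymm
  · rw [golayCode, Submodule.span_le]
    have key : ∀ n, memb n = true → toWord n ∈ combSub := fun n hn =>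
      ⟨n &&& 4095, lt_of_le_of_lt Nat.and_le_right (by norm_num), by
        rw [memb, beq_iff_eq] at hn; rw [hn]⟩
    intro w hw
    rcases hw with ⟨t, rfl⟩ | hw
    · have h := key (ofWord (qrWord ((t.val : ℕ) : ZMod 23)))
        (List.all_eq_true.1 qrMask_checks.1 t.val (List.mem_range.2 (ZMod.val_lt t)))
      rwa [toWord_ofWord, ZMod.natCast_zmod_val] at h
    · rw [Set.mem_singleton_iff.1 hw, ← toWord_ones]
      exact key _ qrMask_checks.2.1
  · rintro _ ⟨x, -, rfl⟩; exact toWord_comb_mem x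

theorem mem_golay_iff {w : GolayPt → ZMod 2} :
    w ∈ golayCode ↔ ∃ x < 2 ^ 12, toWord (comb x) = w := by
  rw [golayCode_eq_combSub]; rfl

theorem comb_checks :
    allR (fun x => let c := comb x; let k := pc24 c;
      Nat.blt c 16777216 && Nat.beq (Nat.land c 4095) x &&
        (Nat.beq k 0 || Nat.beq k 8 || Nat.beq k 12 || Nat.beq k 16 || Nat.beq k 24)) 12 0 = true := by
  decide +kernel

theorem comb_spec {x : ℕ} (hx : x < 2 ^ 12) :
    comb x < 2 ^ 24 ∧ comb x &&& 4095 = x ∧
      (pc 24 (comb x) = 0 ∨ pc 24 (comb x) = 8 ∨ pc 24 (comb x) = 12 ∨ pc 24 (comb x) = 16 ∨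
        pc 24 (comb x) = 24) := by
  have h := allR_spec comb_checks x (Nat.zero_le _) (by simpa using hx)
  simp only [Bool.and_eq_true, Bool.or_eq_true, Nat.blt_eq, Nat.beq_eq, pc24_eq, or_assoc] at h
  exact ⟨h.1.1, h.1.2, h.2⟩

theorem comb_lt {x : ℕ} (hx : x < 2 ^ 12) : comb x < 2 ^ 24 := (comb_spec hx).1

theorem memb_comb {x : ℕ} (hx : x < 2 ^ 12) : memb (comb x) = true := by
  rw [memb, beq_iff_eq, (comb_spec hx).2.1]

theorem toWord_mem_iff {n : ℕ} (hn : n < 2 ^ 24) : toWord n ∈ golayCode ↔ memb n = true := by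
  refine ⟨fun h => ?_, fun h => ?_⟩
  · obtain ⟨x, hx, hxw⟩ := mem_golay_iff.1 h
    exact toWord_inj (comb_lt hx) hn hxw ▸ memb_comb hx
  · rw [memb, beq_iff_eq] at h
    exact h ▸ toWord_comb_mem _

/-- To prove a property of all code words, check it on the 4096 masks. -/
theorem forall_codeword (f : ℕ → Bool) (h : allR (fun x => f (comb x)) 12 0 = true)
    {w : GolayPt → ZMod 2} (hw : w ∈ golayCode) : ∃ n < 2 ^ 24, toWord n = w ∧ f n = true := by
  obtain ⟨x, hx, rfl⟩ := mem_golay_iff.1 hw
  exact ⟨comb x, comb_lt hx, rfl, allR_spec h x (Nat.zero_le _) (by simpa using hx)⟩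

theorem one_mem_golay : (1 : GolayPt → ZMod 2) ∈ golayCode :=
  Submodule.subset_span (Or.inr rfl)

theorem weight_cases {w : GolayPt → ZMod 2} (hw : w ∈ golayCode) :
    hammingNorm w = 0 ∨ hammingNorm w = 8 ∨ hammingNorm w = 12 ∨ hammingNorm w = 16 ∨
      hammingNorm w = 24 := by
  obtain ⟨x, hx, rfl⟩ := mem_golay_iff.1 hw
  rw [hammingNorm_toWord]
  exact (comb_spec hx).2.2

/-! ### Supports -/

theorem support₂_injective : Function.Injective (support₂ (α := GolayPt)) := fun v w h => by
  funext p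
  have h' := Finset.ext_iff.1 h p
  simp only [support₂, Finset.mem_filter, Finset.mem_univ, true_and] at h'
  rcases zmod_two_cases (v p) with hv | hv <;> rcases zmod_two_cases (w p) with hw | hw <;>
    simp_all

theorem support₂_mem_supports {w : GolayPt → ZMod 2} :
    support₂ w ∈ supports (golayCode : Set (GolayPt → ZMod 2)) ↔ w ∈ golayCode :=
  support₂_injective.mem_set_image

theorem toSet_mem_supports {n : ℕ} (hn : n < 2 ^ 24) :
    toSet n ∈ supports (golayCode : Set (GolayPt → ZMod 2)) ↔ memb n = true := by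
  rw [← support₂_toWord, support₂_mem_supports, toWord_mem_iff hn]

theorem mem_supports_iff {s : Finset GolayPt} :
    s ∈ supports (golayCode : Set (GolayPt → ZMod 2)) ↔ ∃ x < 2 ^ 12, toSet (comb x) = s := by
  refine ⟨?_, ?_⟩
  · rintro ⟨w, hw, rfl⟩
    obtain ⟨x, hx, rfl⟩ := mem_golay_iff.1 hw
    exact ⟨x, hx, (support₂_toWord _).symm⟩
  · rintro ⟨x, -, rfl⟩
    exact ⟨_, toWord_comb_mem x, support₂_toWord _⟩

theorem mem_wordsOfWeight_iff {k : ℕ} {s : Finset GolayPt} :
    s ∈ wordsOfWeight (golayCode : Set (GolayPt → ZMod 2)) k ↔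
      ∃ x < 2 ^ 12, pc 24 (comb x) = k ∧ toSet (comb x) = s := by
  simp only [wordsOfWeight, Set.mem_ofPred_eq, mem_supports_iff]
  constructor
  · rintro ⟨⟨x, hx, rfl⟩, h⟩
    exact ⟨x, hx, by rwa [← card_toSet], rfl⟩
  · rintro ⟨x, hx, h, rfl⟩
    exact ⟨⟨x, hx, rfl⟩, by rwa [card_toSet]⟩

theorem comb_injOn : Set.InjOn comb {x | x < 2 ^ 12} := fun x hx y hy h => by
  rw [← (comb_spec hx).2.1, h, (comb_spec hy).2.1]

/-- The code words of weight `k` satisfying `q`, counted over the masks. -/
theorem ncard_filter_weight (k : ℕ) (q : ℕ → Bool) (P : Finset GolayPt → Prop)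
    (hq : ∀ n < 2 ^ 24, q n = true ↔ P (toSet n)) :
    {s | s ∈ wordsOfWeight (golayCode : Set (GolayPt → ZMod 2)) k ∧ P s}.ncard =
      countR (fun x => let c := comb x; Nat.beq (pc24 c) k && q c) 12 0 := by
  rw [countR_spec, Nat.zero_add, ← Set.ncard_coe_finset]
  refine (Set.ncard_congr (fun x _ => toSet (comb x)) ?_ ?_ ?_).symm
  · intro x hx
    simp only [Finset.coe_filter, Finset.mem_Ico, Set.mem_ofPred_eq, Bool.and_eq_true,
      Nat.beq_eq, pc24_eq] at hx
    exact ⟨mem_wordsOfWeight_iff.2 ⟨x, hx.1.2, hx.2.1, rfl⟩,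
      (hq _ (comb_lt hx.1.2)).1 hx.2.2⟩
  · intro x y hx hy h
    simp only [Finset.coe_filter, Finset.mem_Ico, Set.mem_ofPred_eq] at hx hy
    exact comb_injOn hx.1.2 hy.1.2 (toSet_inj (comb_lt hx.1.2) (comb_lt hy.1.2) h)
  · rintro s ⟨hs, hP⟩
    obtain ⟨x, hx, hxk, rfl⟩ := mem_wordsOfWeight_iff.1 hs
    refine ⟨x, ?_, rfl⟩
    simp only [Finset.coe_filter, Finset.mem_Ico, Set.mem_ofPred_eq, Bool.and_eq_true, Nat.beq_eq, pc24_eq]
    exact ⟨⟨Nat.zero_le _, hx⟩, hxk, (hq _ (comb_lt hx)).2 hP⟩

end CfsgLib.Golay
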