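import Cfsg.Agent.Lib.Golay.Perm
import Cfsg.Agent.Lib.Golay.Data
import Cfsg.Prelude.Def_Spor_Mathieu

/-!
The group of the code: generators, order, five-fold transitivity, transitivity on octads and dodecads,
the dodecad stabiliser and its point stabiliser.
-/

set_option autoImplicit false

namespace CfsgLib.Golay

open Cfsg
open scoped Pointwise

/-- The subgroup generated by translation, the map `x ↦ -1/x` and the twist. -/
abbrev genGroup : Subgroup (Equiv.Perm GolayPt) :=
  Subgroup.closure {Equiv.optionCongr (Equiv.addRight (1 : ZMod 23)), Cfsg.projInv, Cfsg.cubeTwist}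

/-- The `k`-th entry of the straight-line program. -/
def slpAt (k : ℕ) : ℕ := (Data.slpTable.getD (k / 24) []).getD (k % 24) 0

theorem gen_codes :
    (∀ p, app (slpAt 0) (bit p) = bit (Equiv.optionCongr (Equiv.addRight (1 : ZMod 23)) p)) ∧
      (∀ p, app (slpAt 1) (bit p) = bit (Cfsg.projInv p)) ∧
      (∀ p, app (slpAt 2) (bit p) = bit (Cfsg.cubeTwist p)) := by
  decide +kernel

theorem gen_inM24 : inM24 (slpAt 0) = true ∧ inM24 (slpAt 1) = true ∧ inM24 (slpAt 2) = true := by
  decide +kernel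

theorem addOne_mem_M24 : Equiv.optionCongr (Equiv.addRight (1 : ZMod 23)) ∈ M24 :=
  mem_M24_of_inM24 gen_codes.1 gen_inM24.1

theorem projInv_mem_M24 : Cfsg.projInv ∈ M24 := mem_M24_of_inM24 gen_codes.2.1 gen_inM24.2.1

theorem cubeTwist_mem_M24 : Cfsg.cubeTwist ∈ M24 := mem_M24_of_inM24 gen_codes.2.2 gen_inM24.2.2

theorem genGroup_le : genGroup ≤ M24 := by
  rw [Subgroup.closure_le]
  rintro g (rfl | rfl | rfl)
  exacts [addOne_mem_M24, projInv_mem_M24, cubeTwist_mem_M24]

theorem slp_check : (allLt 533 fun k =>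
    let s := (Data.slpSteps.getD (k / 24) []).getD (k % 24) (0, 0)
    Nat.blt s.1 (k + 3) && Nat.blt s.2 (k + 3) &&
      isMul (slpAt (k + 3)) (slpAt s.1) (slpAt s.2)) = true := by
  decide +kernel

theorem exists_perm_slpAt : ∀ k < 536, ∃ σ ∈ genGroup, IsPermOf σ (slpAt k) := by
  intro k
  induction k using Nat.strong_induction_on with
  | _ k ih =>
    intro hk
    match k, hk, ih with
    | 0, _, _ => exact ⟨_, Subgroup.subset_closure (by simp), gen_codes.1⟩
    | 1, _, _ => exact ⟨_, Subgroup.subset_closure (by simp), gen_codes.2.1⟩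
    | 2, _, _ => exact ⟨_, Subgroup.subset_closure (by simp), gen_codes.2.2⟩
    | m + 3, hk, ih =>
      have h := allLt_spec slp_check m (by omega)
      simp only [Bool.and_eq_true, Nat.blt_eq] at h
      obtain ⟨⟨h1, h2⟩, h3⟩ := h
      obtain ⟨σ, hσ, hσ'⟩ := ih _ h1 (by omega)
      obtain ⟨τ, hτ, hτ'⟩ := ih _ h2 (by omega)
      exact ⟨σ * τ, mul_mem hσ hτ, hσ'.mul hτ' h3⟩

/-- The test that listed table entries fix `fixed`, satisfy `extra` and move `b` to every point in
the mask `Δ`. -/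
noncomputable def levelCheck (extra : ℕ → Bool) (fixed : List GolayPt) (b : GolayPt) (Δ : ℕ)
    (idx : List ℕ) : Bool :=
  allLt 24 fun j => !Δ.testBit j || idx.any fun i =>
    Nat.blt i 536 && Nat.beq (app (slpAt i) (bit b)) j &&
      fixed.all (fun x => Nat.beq (app (slpAt i) (bit x)) (bit x)) && extra (slpAt i)

theorem levelCheck_spec {extra : ℕ → Bool} {fixed : List GolayPt} {b : GolayPt} {Δ : ℕ}
    {idx : List ℕ} (h : levelCheck extra fixed b Δ idx = true) {x : GolayPt} (hx : x ∈ toSet Δ) :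
    ∃ σ c, σ ∈ genGroup ∧ IsPermOf σ c ∧ extra c = true ∧ (∀ y ∈ fixed, σ y = y) ∧ σ b = x := by
  have h1 := allLt_spec h _ (bit_lt x)
  rw [mem_toSet.1 hx] at h1
  obtain ⟨i, -, hi⟩ := List.any_eq_true.1 h1
  simp only [Bool.and_eq_true, Nat.blt_eq, Nat.beq_eq, List.all_eq_true] at hi
  obtain ⟨⟨⟨hi536, hb⟩, hfix⟩, hextra⟩ := hi
  obtain ⟨σ, hσ, hc⟩ := exists_perm_slpAt i hi536
  exact ⟨σ, _, hσ, hc, hextra, fun y hy => bit_injective (by rw [← hc y]; exact hfix y hy),
    bit_injective (by rw [← hc b]; exact hb)⟩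

/-! ### The chain of `M24` -/

/-- The first five base points. -/
def base5 : List GolayPt := [none, some 0, some 1, some 2, some 3]

theorem level24_checks :
    levelCheck (fun _ => true) [] none 16777215 (Data.trans24.getD 0 []) = true ∧
    levelCheck (fun _ => true) [none] (some 0) 8388607 (Data.trans24.getD 1 []) = true ∧
    levelCheck (fun _ => true) [some 0, none] (some 1) 8388606 (Data.trans24.getD 2 []) = true ∧
    levelCheck (fun _ => true) [some 1, some 0, none] (some 2) 8388604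
      (Data.trans24.getD 3 []) = true ∧
    levelCheck (fun _ => true) [some 2, some 1, some 0, none] (some 3) 8388600
      (Data.trans24.getD 4 []) = true ∧
    levelCheck (fun _ => true) [some 3, some 2, some 1, some 0, none] (some 5) 147488
      (Data.trans24.getD 5 []) = true ∧
    levelCheck (fun _ => true) [some 5, some 3, some 2, some 1, some 0, none] (some 4) 8241104
      (Data.trans24.getD 6 []) = true := by
  decide +kernel

theorem low_of_levelCheck {fixed : List GolayPt} {b : GolayPt} {Δ : ℕ} {idx : List ℕ}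
    (h : levelCheck (fun _ => true) fixed b Δ idx = true) :
    ∀ x ∈ toSet Δ, ∃ t, t ∈ fixPts M24 fixed ∧ t ∈ genGroup ∧ t b = x := fun x hx => by
  obtain ⟨σ, c, hσ, -, -, hfix, hb⟩ := levelCheck_spec h hx
  exact ⟨σ, ⟨genGroup_le hσ, hfix⟩, hσ, hb⟩

theorem apply_not_mem {H : Subgroup (Equiv.Perm GolayPt)} {l : List GolayPt} {b : GolayPt}
    (hb : b ∉ l) {g : Equiv.Perm GolayPt} (hg : g ∈ fixPts H l) : g b ∉ l := fun h =>
  hb (g.injective (hg.2 _ h) ▸ h)

/-- The octad through the first five base points. -/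
def octad0 : Finset GolayPt := toSet 8536111

theorem octad0_mem : octad0 ∈ octads :=
  mem_wordsOfWeight_iff.2 ⟨47, by norm_num, by decide +kernel, by
    rw [show comb 47 = 8536111 by decide +kernel]; rfl⟩

theorem octad0_fixed {g : Equiv.Perm GolayPt} (hg : g ∈ fixPts M24 base5) :
    g • octad0 = octad0 := by
  refine octad_eq_of_five ((M24_smul_mem_octads hg.1).2 octad0_mem) octad0_mem ?_
  have hsub : base5.toFinset ⊆ g • octad0 ∩ octad0 := fun p hp => by
    have hp0 : p ∈ octad0 := (show base5.toFinset ⊆ octad0 by decide +kernel) hp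
    exact Finset.mem_inter.2
      ⟨Finset.mem_smul_finset.2 ⟨p, hp0, hg.2 p (List.mem_toFinset.1 hp)⟩, hp0⟩
  exact le_trans (by decide +kernel) (Finset.card_le_card hsub)

theorem mask_eqs :
    toSet 16777215 = Finset.univ.filter (· ∉ ([] : List GolayPt)) ∧
    toSet 8388607 = Finset.univ.filter (· ∉ [(none : GolayPt)]) ∧
    toSet 8388606 = Finset.univ.filter (· ∉ [(some 0 : GolayPt), none]) ∧
    toSet 8388604 = Finset.univ.filter (· ∉ [(some 1 : GolayPt), some 0, none]) ∧
    toSet 8388600 = Finset.univ.filter (· ∉ [(some 2 : GolayPt), some 1, some 0, none]) ∧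
    toSet 147488 = octad0.filter (· ∉ [(some 3 : GolayPt), some 2, some 1, some 0, none]) ∧
    toSet 8241104 = Finset.univ.filter (· ∉ octad0) := by
  decide +kernel

theorem mem_base5_of {l : List GolayPt} (h : ∀ x ∈ base5, x ∈ l) {g : Equiv.Perm GolayPt}
    (hg : g ∈ fixPts M24 l) : g ∈ fixPts M24 base5 := ⟨hg.1, fun x hx => hg.2 x (h x hx)⟩

theorem up5 {g : Equiv.Perm GolayPt}
    (hg : g ∈ fixPts M24 [some 3, some 2, some 1, some 0, none]) : g (some 5) ∈ toSet 147488 := by
  rw [mask_eqs.2.2.2.2.2.1, Finset.mem_filter]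
  refine ⟨?_, apply_not_mem (by decide) hg⟩
  rw [← octad0_fixed (mem_base5_of (by decide) hg)]
  exact Finset.smul_mem_smul_finset (show (some 5 : GolayPt) ∈ octad0 by decide +kernel)

theorem up6 {g : Equiv.Perm GolayPt}
    (hg : g ∈ fixPts M24 [some 5, some 3, some 2, some 1, some 0, none]) :
    g (some 4) ∈ toSet 8241104 := by
  rw [mask_eqs.2.2.2.2.2.2, Finset.mem_filter]
  refine ⟨Finset.mem_univ _, fun h => ?_⟩
  rw [← octad0_fixed (mem_base5_of (by decide) hg), ← Equiv.Perm.smul_def,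
    Finset.smul_mem_smul_finset_iff] at h
  exact absurd h (by decide +kernel)

theorem up_compl {l : List GolayPt} {b : GolayPt} {Δ : ℕ}
    (hΔ : toSet Δ = Finset.univ.filter (· ∉ l)) (hb : b ∉ l) :
    ∀ g ∈ fixPts M24 l, g b ∈ toSet Δ := fun g hg => by
  rw [hΔ, Finset.mem_filter]; exact ⟨Finset.mem_univ _, apply_not_mem hb hg⟩

theorem base7_check : baseCheck [16777215, 8388608, 1, 2, 4, 8, 32, 16] Data.baseSteps = true := by
  decide +kernel

/-- Seven points whose pointwise stabiliser in `M24` is trivial. -/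
theorem fixPts_base7 :
    fixPts M24 [some 4, some 5, some 3, some 2, some 1, some 0, none] = ⊥ := by
  rw [Subgroup.eq_bot_iff_forall]
  intro g hg
  refine baseCheck_spec hg.1 _ _ (fun n hn => ?_) base7_check
  have h1 : ∀ x ∈ [some 4, some 5, some 3, some 2, some 1, some 0, (none : GolayPt)],
      g • toSet (2 ^ bit x) = toSet (2 ^ bit x) := fun x hx => by
    rw [toSet_two_pow (bit_lt x), pt_bit, Finset.smul_finset_singleton, Equiv.Perm.smul_def,
      hg.2 x hx]
  have h0 : g • toSet 16777215 = toSet 16777215 := by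
    rw [show toSet 16777215 = (Finset.univ : Finset GolayPt) by decide +kernel]
    exact Finset.smul_finset_univ
  simp only [List.mem_cons, List.not_mem_nil, or_false] at hn
  rcases hn with rfl | rfl | rfl | rfl | rfl | rfl | rfl | rfl
  exacts [h0, h1 none (by simp), h1 (some 0) (by simp), h1 (some 1) (by simp),
    h1 (some 2) (by simp), h1 (some 3) (by simp), h1 (some 5) (by simp), h1 (some 4) (by simp)]

theorem M24_le_genGroup : M24 ≤ genGroup := by
  obtain ⟨c0, c1, c2, c3, c4, c5, c6⟩ := level24_checks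
  obtain ⟨m0, m1, m2, m3, m4, -, -⟩ := mask_eqs
  have k7 : fixPts M24 [some 4, some 5, some 3, some 2, some 1, some 0, none] ≤ genGroup := by
    rw [fixPts_base7]; exact bot_le
  have k6 := chain_step (fun g hg => up6 hg) (low_of_levelCheck c6) k7
  have k5 := chain_step (fun g hg => up5 hg) (low_of_levelCheck c5) k6
  have k4 := chain_step (up_compl m4 (by decide)) (low_of_levelCheck c4) k5
  have k3 := chain_step (up_compl m3 (by decide)) (low_of_levelCheck c3) k4
  have k2 := chain_step (up_compl m2 (by decide)) (low_of_levelCheck c2) k3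
  have k1 := chain_step (up_compl m1 (by decide)) (low_of_levelCheck c1) k2
  have k0 := chain_step (up_compl m0 (by decide)) (low_of_levelCheck c0) k1
  rwa [fixPts_nil] at k0

theorem M24_eq_genGroup : genGroup = M24 := le_antisymm genGroup_le M24_le_genGroup

theorem low_M24 {fixed : List GolayPt} {b : GolayPt} {Δ : ℕ} {idx : List ℕ}
    (h : levelCheck (fun _ => true) fixed b Δ idx = true) :
    ∀ x ∈ toSet Δ, ∃ t, t ∈ fixPts M24 fixed ∧ t b = x := fun x hx => by
  obtain ⟨t, h1, -, h3⟩ := low_of_levelCheck h x hx; exact ⟨t, h1, h3⟩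

theorem card_fix6 : Nat.card (fixPts M24 [some 5, some 3, some 2, some 1, some 0, none]) = 16 := by
  rw [card_fixPts_step (fun g hg => up6 hg) (low_M24 level24_checks.2.2.2.2.2.2), fixPts_base7,
    card_toSet, Nat.card_unique, ← pc24_eq]
  decide +kernel

theorem card_fix5 : Nat.card (fixPts M24 [some 3, some 2, some 1, some 0, none]) = 48 := by
  rw [card_fixPts_step (fun g hg => up5 hg) (low_M24 level24_checks.2.2.2.2.2.1), card_fix6,
    card_toSet, ← pc24_eq]
  decide +kernel

theorem card_fix4 : Nat.card (fixPts M24 [some 2, some 1, some 0, none]) = 960 := by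
  rw [card_fixPts_step (up_compl mask_eqs.2.2.2.2.1 (by decide)) (low_M24 level24_checks.2.2.2.2.1),
    card_fix5, card_toSet, ← pc24_eq]
  decide +kernel

theorem card_fix3 : Nat.card (fixPts M24 [some 1, some 0, none]) = 20160 := by
  rw [card_fixPts_step (up_compl mask_eqs.2.2.2.1 (by decide)) (low_M24 level24_checks.2.2.2.1),
    card_fix4, card_toSet, ← pc24_eq]
  decide +kernel

theorem card_fix2 : Nat.card (fixPts M24 [some 0, none]) = 443520 := by
  rw [card_fixPts_step (up_compl mask_eqs.2.2.1 (by decide)) (low_M24 level24_checks.2.2.1),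
    card_fix3, card_toSet, ← pc24_eq]
  decide +kernel

theorem card_fix1 : Nat.card (fixPts M24 [none]) = 10200960 := by
  rw [card_fixPts_step (up_compl mask_eqs.2.1 (by decide)) (low_M24 level24_checks.2.1),
    card_fix2, card_toSet, ← pc24_eq]
  decide +kernel

theorem card_M24 : Nat.card M24 = 244823040 := by
  rw [show M24 = fixPts M24 [] from (fixPts_nil _).symm,
    card_fixPts_step (up_compl mask_eqs.1 (by decide)) (low_M24 level24_checks.1),
    card_fix1, card_toSet, ← pc24_eq]
  decide +kernel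

/-! ### Transitivity -/

theorem exists_map_base5 (xs : List GolayPt) (hn : xs.Nodup) (hlen : xs.length ≤ 5) :
    ∃ g ∈ M24, (base5.take xs.length).map g = xs := by
  obtain ⟨c0, c1, c2, c3, c4, -, -⟩ := level24_checks
  obtain ⟨m0, m1, m2, m3, m4, -, -⟩ := mask_eqs
  have hlev : ∀ (i : ℕ) (hi : i < (base5.take xs.length).length), ∀ x ∈ (Finset.univ : Finset GolayPt),
      x ∉ ([] : List GolayPt) → x ∉ (base5.take xs.length).take i →
      ∃ t ∈ fixPts M24 ([] ++ (base5.take xs.length).take i), t (base5.take xs.length)[i] = x := by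
    intro i hi x _ _ hx
    rw [List.length_take] at hi
    have hi5 : i < 5 := lt_of_lt_of_le hi (le_trans (min_le_left _ _) hlen)
    rw [List.take_take, min_eq_left (le_of_lt (lt_of_lt_of_le hi (min_le_left _ _)))] at hx ⊢
    rw [List.getElem_take, List.nil_append]
    have go : ∀ {l : List GolayPt} {b : GolayPt} {Δ : ℕ} {idx : List ℕ},
        levelCheck (fun _ => true) l b Δ idx = true →
        toSet Δ = Finset.univ.filter (· ∉ l) → (∀ y, y ∈ l ↔ y ∈ base5.take i) →
        base5[i]'(by simp [base5]; omega) = b →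
        ∃ t ∈ fixPts M24 (base5.take i), t (base5[i]'(by simp [base5]; omega)) = x := by
      intro l b Δ idx hc hm hl hb
      obtain ⟨t, ht, htb⟩ := low_M24 hc x (by
        rw [hm, Finset.mem_filter]; exact ⟨Finset.mem_univ _, by rw [hl]; exact hx⟩)
      exact ⟨t, ⟨ht.1, fun y hy => ht.2 y ((hl y).2 hy)⟩, by rw [hb]; exact htb⟩
    interval_cases i
    exacts [go c0 m0 (by decide) rfl, go c1 m1 (by decide) rfl, go c2 m2 (by decide) rfl,
      go c3 m3 (by decide) rfl, go c4 m4 (by decide) rfl]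
  obtain ⟨g, hg, hgm⟩ := exists_map_eq (H := M24) (D := Finset.univ) (fun g _ x => by simp)
    (base5.take xs.length) [] xs hlev (by simp [base5]; omega) hn (by simp)
  exact ⟨g, hg.1, hgm⟩

/-- Five-fold transitivity, for lists. -/
theorem exists_map_M24 {xs ys : List GolayPt} (hx : xs.Nodup) (hy : ys.Nodup)
    (hlen : xs.length = ys.length) (h5 : xs.length ≤ 5) : ∃ g ∈ M24, xs.map g = ys := by
  obtain ⟨g₁, hg₁, h₁⟩ := exists_map_base5 xs hx h5
  obtain ⟨g₂, hg₂, h₂⟩ := exists_map_base5 ys hy (hlen ▸ h5)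
  refine ⟨g₂ * g₁⁻¹, mul_mem hg₂ (inv_mem hg₁), ?_⟩
  conv_lhs => rw [← h₁]
  conv_rhs => rw [← h₂, ← hlen]
  rw [List.map_map]
  exact List.map_congr_left fun a _ => by
    rw [Function.comp_apply, Equiv.Perm.mul_apply, ← Equiv.Perm.mul_apply g₁⁻¹ g₁, inv_mul_cancel,
      Equiv.Perm.one_apply]

theorem isMultiplyPretransitive_five : MulAction.IsMultiplyPretransitive M24 GolayPt 5 := by
  rw [MulAction.isMultiplyPretransitive_iff]
  intro x y
  obtain ⟨g, hg, hgm⟩ := exists_map_M24 (xs := List.ofFn x) (ys := List.ofFn y)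
    (List.nodup_ofFn.2 x.injective) (List.nodup_ofFn.2 y.injective) (by simp) (by simp)
  refine ⟨⟨g, hg⟩, ?_⟩
  refine DFunLike.ext _ _ fun i => ?_
  rw [List.map_ofFn, List.ofFn_inj] at hgm
  exact congrFun hgm i

theorem exists_smul_octad {o o' : Finset GolayPt} (ho : o ∈ octads) (ho' : o' ∈ octads) :
    ∃ g ∈ M24, g • o = o' := by
  obtain ⟨s, hs, hsc⟩ := Finset.exists_subset_card_eq (s := o) (n := 5) (by rw [ho.2]; norm_num)
  obtain ⟨s', hs', hsc'⟩ := Finset.exists_subset_card_eq (s := o') (n := 5) (by rw [ho'.2]; norm_num)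
  obtain ⟨g, hg, hgm⟩ := exists_map_M24 (xs := s.toList) (ys := s'.toList) s.nodup_toList
    s'.nodup_toList (by simp [hsc, hsc']) (by simp [hsc])
  refine ⟨g, hg, octad_eq_of_five ((M24_smul_mem_octads hg).2 ho) ho' ?_⟩
  have hsub : s' ⊆ g • o ∩ o' := fun p hp => by
    have hp' := Finset.mem_toList.2 hp
    rw [← hgm, List.mem_map] at hp'
    obtain ⟨q, hq, rfl⟩ := hp'
    exact Finset.mem_inter.2 ⟨Finset.smul_mem_smul_finset (hs (Finset.mem_toList.1 hq)), hs' hp⟩
  exact hsc' ▸ Finset.card_le_card hsub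

/-- A dodecad meeting the reference octad in exactly the first six base points. -/
def dodecad0 : Finset GolayPt := toSet 10260655

theorem dodecad_check : allR (fun x => let c := comb x;
    !(Nat.beq (pc24 c) 12 && Nat.beq (c &&& 8536111) 8388655) ||
      (Data.trans24.getD 6 []).any fun i => Nat.blt i 536 && Nat.beq (push (slpAt i) 10260655) c)
      12 0 = true := by
  decide +kernel

theorem exists_smul_dodecad0 {d : Finset GolayPt} (hd : d ∈ dodecads) :
    ∃ g ∈ M24, g • dodecad0 = d := by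
  obtain ⟨s, hs, hsc⟩ := Finset.exists_subset_card_eq (s := d) (n := 5) (by rw [hd.2]; norm_num)
  obtain ⟨g₁, hg₁, hgm⟩ := exists_map_M24 (xs := base5) (ys := s.toList) (by decide)
    s.nodup_toList (by simp [hsc, base5]) (by simp [base5])
  set d₁ := g₁⁻¹ • d with hd₁
  have hd₁m : d₁ ∈ dodecads := (M24_smul_mem_dodecads (inv_mem hg₁)).2 hd
  have hbase : base5.toFinset ⊆ d₁ ∩ octad0 := fun p hp => by
    refine Finset.mem_inter.2 ⟨?_, (show base5.toFinset ⊆ octad0 by decide +kernel) hp⟩
    rw [hd₁, Finset.mem_inv_smul_finset_iff, Equiv.Perm.smul_def]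
    exact hs (Finset.mem_toList.1 (hgm ▸ List.mem_map.2 ⟨p, List.mem_toFinset.1 hp, rfl⟩))
  have h6 : ∀ e ∈ dodecads, base5.toFinset ⊆ e ∩ octad0 → (e ∩ octad0).card = 6 := fun e he hb => by
    have h5 : 5 ≤ (e ∩ octad0).card := le_trans (by decide +kernel) (Finset.card_le_card hb)
    have h1 : (e \ octad0).card + (e ∩ octad0).card = 12 := by
      rw [Finset.card_sdiff_add_card_inter]; exact he.2
    have h2 : (octad0 \ e).card + (octad0 ∩ e).card = 8 := by
      rw [Finset.card_sdiff_add_card_inter]; exact octad0_mem.2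
    have h3 : (symmDiff e octad0).card = (e \ octad0).card + (octad0 \ e).card :=
      Finset.card_union_of_disjoint disjoint_sdiff_sdiff
    rw [Finset.inter_comm octad0 e] at h2
    have := supports_card (supports_symmDiff he.1 octad0_mem.1)
    omega
  obtain ⟨p, hp, hp5⟩ : ∃ p ∈ d₁ ∩ octad0, p ∉ base5.toFinset := by
    by_contra hcon
    push Not at hcon
    have := Finset.card_le_card hcon
    rw [h6 d₁ hd₁m hbase, show base5.toFinset.card = 5 by decide +kernel] at this
    omega
  have hpΔ : p ∈ toSet 147488 := by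
    rw [mask_eqs.2.2.2.2.2.1, Finset.mem_filter]
    refine ⟨(Finset.mem_inter.1 hp).2, fun h => hp5 ?_⟩
    rw [List.mem_toFinset]
    exact (by decide +kernel : ∀ q : GolayPt,
      q ∈ [(some 3 : GolayPt), some 2, some 1, some 0, none] → q ∈ base5) p h
  obtain ⟨g₂, hg₂, hg₂p⟩ := low_M24 level24_checks.2.2.2.2.2.1 p hpΔ
  have hg₂5 : g₂ ∈ fixPts M24 base5 := mem_base5_of (by decide) hg₂
  set d₂ := g₂⁻¹ • d₁ with hd₂
  have hd₂m : d₂ ∈ dodecads := (M24_smul_mem_dodecads (inv_mem hg₂.1)).2 hd₁m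
  have hsix : toSet 8388655 ⊆ d₂ ∩ octad0 := fun q hq => by
    have hq' : q ∈ octad0 ∧ (q ∈ base5 ∨ q = some 5) := by revert hq; revert q; decide +kernel
    refine Finset.mem_inter.2 ⟨?_, hq'.1⟩
    rw [hd₂, Finset.mem_inv_smul_finset_iff, Equiv.Perm.smul_def]
    rcases hq'.2 with h | rfl
    · rw [hg₂5.2 q h]
      exact (Finset.mem_inter.1 (hbase (List.mem_toFinset.2 h))).1
    · rw [hg₂p]; exact (Finset.mem_inter.1 hp).1
  have hsixeq : d₂ ∩ octad0 = toSet 8388655 := by
    refine (Finset.eq_of_subset_of_card_le hsix ?_).symm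
    rw [h6 d₂ hd₂m (fun q hq => hsix (by revert hq; revert q; decide +kernel)), card_toSet, ← pc24_eq]
    decide +kernel
  obtain ⟨x, hx, hxk, hxd⟩ := mem_wordsOfWeight_iff.1 hd₂m
  have hchk := allR_spec dodecad_check x (Nat.zero_le _) (by simpa using hx)
  have hand : comb x &&& 8536111 = 8388655 := by
    refine toSet_inj (lt_of_le_of_lt Nat.and_le_right (by norm_num)) (by norm_num) ?_
    rw [toSet_and, hxd]; exact hsixeq
  simp only [pc24_eq, hxk, hand, Nat.beq_refl, Bool.and_true, Bool.not_true, Bool.false_or] at hchk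
  obtain ⟨i, -, hi⟩ := List.any_eq_true.1 hchk
  simp only [Bool.and_eq_true, Nat.blt_eq, Nat.beq_eq] at hi
  obtain ⟨σ, hσ, hσc⟩ := exists_perm_slpAt i hi.1
  have hσd : σ • dodecad0 = d₂ := by
    rw [dodecad0, ← toSet_push hσc, hi.2, hxd]
  exact ⟨g₁ * g₂ * σ, mul_mem (mul_mem hg₁ hg₂.1) (genGroup_le hσ), by
    rw [mul_smul, mul_smul, hσd, hd₂, smul_inv_smul, hd₁, smul_inv_smul]⟩

theorem exists_smul_dodecad {d d' : Finset GolayPt} (hd : d ∈ dodecads) (hd' : d' ∈ dodecads) :
    ∃ g ∈ M24, g • d = d' := by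
  obtain ⟨g, hg, rfl⟩ := exists_smul_dodecad0 hd
  obtain ⟨g', hg', rfl⟩ := exists_smul_dodecad0 hd'
  exact ⟨g' * g⁻¹, mul_mem hg' (inv_mem hg), by rw [mul_smul, inv_smul_smul]⟩

end CfsgLib.Golay
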