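import Mathlib

/-!
Two simplicity criteria for finite groups acting two-fold transitively on an invariant finite set.
-/

set_option autoImplicit false

namespace CfsgLib.Golay.SimpleCrit

variable {G : Type*} [Group G] {α : Type*} [MulAction G α]

/-- Data of an action which is two-fold transitive and faithful on an invariant set. -/
structure TwoTrans (G : Type*) [Group G] {α : Type*} [MulAction G α] (D : Finset α) : Prop where
  inv : ∀ (g : G), ∀ x ∈ D, g • x ∈ D
  two : ∀ x ∈ D, ∀ y ∈ D, ∀ z ∈ D, y ≠ x → z ≠ x → ∃ g : G, g • x = x ∧ g • y = z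
  trans : ∀ x ∈ D, ∀ y ∈ D, ∃ g : G, g • x = y
  faithful : ∀ g : G, (∀ x ∈ D, g • x = x) → g = 1

variable {D : Finset α}

theorem TwoTrans.trans_normal (h : TwoTrans G D) {N : Subgroup G} (hN : N.Normal) (hne : N ≠ ⊥)
    {x : α} (hx : x ∈ D) {y : α} (hy : y ∈ D) : ∃ n ∈ N, n • x = y := by
  obtain ⟨n, hn, hn1⟩ := (N.bot_or_exists_ne_one).resolve_left hne
  obtain ⟨x₀, hx₀, hmove⟩ : ∃ x₀ ∈ D, n • x₀ ≠ x₀ := by
    by_contra hcon
    push Not at hcon
    exact hn1 (h.faithful n hcon)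
  -- every point of `D` lies in the orbit of `x₀`
  have horb : ∀ z ∈ D, ∃ m ∈ N, m • x₀ = z := by
    intro z hz
    rcases eq_or_ne z x₀ with rfl | hzx
    · exact ⟨1, N.one_mem, one_smul _ _⟩
    obtain ⟨g, hg, hgz⟩ := h.two x₀ hx₀ (n • x₀) (h.inv n x₀ hx₀) z hz hmove hzx
    refine ⟨g * n * g⁻¹, hN.conj_mem n hn g, ?_⟩
    rw [mul_smul, mul_smul, inv_smul_eq_iff.2 hg.symm, hgz]
  obtain ⟨a, ha, rfl⟩ := horb x hx
  obtain ⟨b, hb, rfl⟩ := horb y hy
  exact ⟨b * a⁻¹, N.mul_mem hb (N.inv_mem ha), by rw [mul_smul, inv_smul_smul]⟩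

theorem TwoTrans.card_dvd (h : TwoTrans G D) {N : Subgroup G} (hN : N.Normal) (hne : N ≠ ⊥)
    {x : α} (hx : x ∈ D) : D.card ∣ Nat.card N := by
  have horb : MulAction.orbit N x = (D : Set α) := by
    ext y
    constructor
    · rintro ⟨n, rfl⟩; exact h.inv n x hx
    · intro hy
      obtain ⟨n, hn, hny⟩ := h.trans_normal hN hne hx hy
      exact ⟨⟨n, hn⟩, hny⟩
  rw [← Subgroup.card_mul_index (MulAction.stabilizer N x), MulAction.index_stabilizer, horb,
    Set.ncard_coe_finset]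
  exact dvd_mul_left _ _

theorem nontrivial_of_two (h : TwoTrans G D) (hD : 2 ≤ D.card) : Nontrivial G := by
  obtain ⟨x, hx, y, hy, hxy⟩ := Finset.one_lt_card.1 hD
  obtain ⟨g, hg⟩ := h.trans x hx y hy
  exact ⟨g, 1, fun hg1 => hxy (by rw [← hg, hg1, one_smul])⟩

/-- If the degree is divisible by a prime `p` dividing the order exactly once and the group is
generated by its elements of order `p`, then it is simple. -/
theorem isSimpleGroup_of_generated [Finite G] (h : TwoTrans G D) {p : ℕ} (hp : p.Prime)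
    (hpD : p ∣ D.card) (hD : 2 ≤ D.card) (hsq : ¬ p * p ∣ Nat.card G)
    (hgen : Subgroup.closure {g : G | g ^ p = 1} = ⊤) : IsSimpleGroup G := by
  have := nontrivial_of_two h hD
  obtain ⟨x, hx⟩ := Finset.card_pos.1 (lt_of_lt_of_le two_pos hD)
  refine ⟨fun N hN => or_iff_not_imp_left.2 fun hne => ?_⟩
  have hpN : p ∣ Nat.card N := hpD.trans (h.card_dvd hN hne hx)
  rw [eq_top_iff, ← hgen, Subgroup.closure_le]
  intro g hg
  have h1 : orderOf (g : G ⧸ N) ∣ p := orderOf_dvd_of_pow_eq_one (by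
    rw [← QuotientGroup.mk_pow, show g ^ p = 1 from hg, QuotientGroup.mk_one])
  rcases (Nat.dvd_prime hp).1 h1 with h1 | h1
  · rw [orderOf_eq_one_iff, QuotientGroup.eq_one_iff] at h1
    exact h1
  · refine absurd ?_ hsq
    rw [Subgroup.card_eq_card_quotient_mul_card_subgroup N]
    exact mul_dvd_mul (h1 ▸ orderOf_dvd_natCard _) hpN

/-- If two different primes divide the degree and a point stabiliser is simple, the group is
simple. -/
theorem isSimpleGroup_of_stabilizer [Finite G] (h : TwoTrans G D) {x : α} (hx : x ∈ D) {q r : ℕ}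
    (hq : q.Prime) (hr : r.Prime) (hqr : q ≠ r) (hqD : q ∣ D.card) (hrD : r ∣ D.card)
    (hstab : IsSimpleGroup (MulAction.stabilizer G x)) : IsSimpleGroup G := by
  have hD : 2 ≤ D.card := le_trans hq.two_le (Nat.le_of_dvd (Finset.card_pos.2 ⟨x, hx⟩) hqD)
  have := nontrivial_of_two h hD
  refine ⟨fun N hN => or_iff_not_imp_left.2 fun hne => ?_⟩
  rcases hstab.eq_bot_or_eq_top_of_normal (N.subgroupOf (MulAction.stabilizer G x))
    (hN.subgroupOf _) with hM | hM
  · exfalso
    have hreg : ∀ n ∈ N, n • x = x → n = 1 := fun n hn hnx => by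
      have : (⟨n, hnx⟩ : MulAction.stabilizer G x) ∈ N.subgroupOf (MulAction.stabilizer G x) := hn
      rw [hM, Subgroup.mem_bot] at this
      exact congrArg Subtype.val this
    have hinj : ∀ a ∈ N, ∀ b ∈ N, a • x = b • x → a = b := fun a ha b hb hab =>
      (inv_mul_eq_one.1 (hreg (b⁻¹ * a) (N.mul_mem (N.inv_mem hb) ha)
        (by rw [mul_smul, hab, inv_smul_smul]))).symm
    have hdvd := h.card_dvd hN hne hx
    have : Fact q.Prime := ⟨hq⟩
    have : Fact r.Prime := ⟨hr⟩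
    obtain ⟨a, ha⟩ := exists_prime_orderOf_dvd_card' q (hqD.trans hdvd)
    obtain ⟨b, hb⟩ := exists_prime_orderOf_dvd_card' r (hrD.trans hdvd)
    have hmove : ∀ c : N, orderOf c ≠ 1 → (c : G) • x ≠ x := fun c hc hcx =>
      hc (orderOf_eq_one_iff.2 (Subtype.ext (hreg c c.2 hcx)))
    obtain ⟨g, hg, hgab⟩ := h.two x hx _ (h.inv (a : G) x hx) _ (h.inv (b : G) x hx)
      (hmove a (by rw [ha]; exact hq.ne_one)) (hmove b (by rw [hb]; exact hr.ne_one))
    have hconj : g * a * g⁻¹ = (b : G) := hinj _ (hN.conj_mem _ a.2 g) _ b.2 (by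
      rw [mul_smul, mul_smul, inv_smul_eq_iff.2 hg.symm, hgab])
    apply hqr
    rw [← ha, ← hb, ← Subgroup.orderOf_coe a, ← Subgroup.orderOf_coe b, ← hconj]
    exact (MulEquiv.orderOf_eq (MulAut.conj g) (a : G)).symm
  · refine eq_top_iff.2 fun g _ => ?_
    obtain ⟨n, hn, hnx⟩ := h.trans_normal hN hne hx (h.inv g x hx)
    have hs : n⁻¹ * g ∈ MulAction.stabilizer G x := by
      rw [MulAction.mem_stabilizer_iff, mul_smul, ← hnx, inv_smul_smul]
    have : (⟨n⁻¹ * g, hs⟩ : MulAction.stabilizer G x) ∈ N.subgroupOf (MulAction.stabilizer G x) := by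
      rw [hM]; exact Subgroup.mem_top _
    simpa using N.mul_mem hn (Subgroup.mem_subgroupOf.1 this)

end CfsgLib.Golay.SimpleCrit
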