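import Cfsg.Agent.Lib.Golay.Mathieu
import Cfsg.Agent.Lib.Golay.SimpleCrit
import Cfsg.Agent.Lib.Golay.SimpleData

/-!
Simplicity of M24, M23, M22, M12 and M11.
-/

set_option autoImplicit false

namespace CfsgLib.Golay

open Cfsg
open scoped Pointwise
open SimpleCrit

/-- The test that a code is a bijection of the 24 bit positions. -/
noncomputable def validCode (c : ℕ) : Bool :=
  allLt 24 (fun j => Nat.blt (app c j) 24) && Nat.beq (push c 16777215) 16777215

theorem exists_perm_of_validCode {c : ℕ} (h : validCode c = true) :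
    ∃ σ : Equiv.Perm GolayPt, IsPermOf σ c := by
  simp only [validCode, Bool.and_eq_true] at h
  obtain ⟨hlt, hsurj⟩ := h
  have hs : Function.Surjective fun p : GolayPt => pt (app c (bit p)) := by
    intro q
    have hq : (push c 16777215).testBit (bit q) = true := by
      rw [Nat.eq_of_beq_eq_true hsurj, show (16777215 : ℕ) = 2 ^ 24 - 1 by norm_num,
        Nat.testBit_two_pow_sub_one, decide_eq_true (bit_lt q)]
    obtain ⟨j, hj, -, hji⟩ := (testBit_push_aux c 16777215 24 (bit q)).1 hq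
    exact ⟨pt j, by show pt (app c (bit (pt j))) = q; rw [bit_pt hj, hji, pt_bit]⟩
  refine ⟨Equiv.ofBijective _ ⟨Finite.injective_iff_surjective.2 hs, hs⟩, fun p => ?_⟩
  show app c (bit p) = bit (pt (app c (bit p)))
  rw [bit_pt (Nat.blt_eq.mp (allLt_spec hlt _ (bit_lt p)))]

/-- The `k`-th iterate of a code at a bit position. -/
noncomputable def iterApp (c k j : ℕ) : ℕ := Nat.rec j (fun _ ih => app c ih) k

/-- The test that a code is a permutation of order dividing `k` in `M24` passing `extra` and fixing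
`fixed`. -/
noncomputable def pairOK (k : ℕ) (extra : ℕ → Bool) (fixed : List GolayPt) (c : ℕ) : Bool :=
  validCode c && inM24 c && allLt 24 (fun j => Nat.beq (iterApp c k j) j) && extra c &&
    fixed.all fun x => Nat.beq (app c (bit x)) (bit x)

theorem IsPermOf.iterApp {σ : Equiv.Perm GolayPt} {c : ℕ} (h : IsPermOf σ c) :
    ∀ (k : ℕ) (p : GolayPt), Golay.iterApp c k (bit p) = bit ((σ ^ k) p)
  | 0, p => rfl
  | k + 1, p => by
    show app c (Golay.iterApp c k (bit p)) = _
    rw [h.iterApp k p, h, pow_succ', Equiv.Perm.mul_apply]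

theorem pairOK_spec {k : ℕ} {extra : ℕ → Bool} {fixed : List GolayPt} {c : ℕ}
    (h : pairOK k extra fixed c = true) :
    ∃ σ, IsPermOf σ c ∧ σ ∈ M24 ∧ extra c = true ∧ σ ^ k = 1 ∧ ∀ x ∈ fixed, σ x = x := by
  simp only [pairOK, Bool.and_eq_true, List.all_eq_true, Nat.beq_eq] at h
  obtain ⟨⟨⟨⟨hv, hm⟩, hk⟩, he⟩, hf⟩ := h
  obtain ⟨σ, hσ⟩ := exists_perm_of_validCode hv
  refine ⟨σ, hσ, mem_M24_of_inM24 hσ hm, he, ?_, fun x hx =>
    bit_injective (by rw [← hσ x]; exact hf x hx)⟩
  ext p : 1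
  refine bit_injective ?_
  rw [← hσ.iterApp, Nat.eq_of_beq_eq_true (allLt_spec hk _ (bit_lt p)), Equiv.Perm.one_apply]

/-- The test that the products of listed pairs move `b` to every point of the mask `Δ`. -/
noncomputable def pairLevel (k : ℕ) (extra : ℕ → Bool) (base fixed : List GolayPt) (b : GolayPt)
    (Δ : ℕ) (ps : List (ℕ × ℕ)) : Bool :=
  allLt 24 fun j => !Δ.testBit j || ps.any fun q =>
    Nat.beq (app q.1 (app q.2 (bit b))) j &&
      fixed.all (fun x => Nat.beq (app q.1 (app q.2 (bit x))) (bit x)) &&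
      pairOK k extra base q.1 && pairOK k extra base q.2

/-- The elements of `H` generated by those of order dividing `k`. -/
def ordGen (H : Subgroup (Equiv.Perm GolayPt)) (k : ℕ) : Subgroup (Equiv.Perm GolayPt) :=
  Subgroup.closure {g | g ∈ H ∧ g ^ k = 1}

theorem pairLevel_spec {k : ℕ} {extra : ℕ → Bool} {H : Subgroup (Equiv.Perm GolayPt)}
    {base fixed : List GolayPt} {b : GolayPt} {Δ : ℕ} {ps : List (ℕ × ℕ)}
    (hH : ∀ σ c, IsPermOf σ c → σ ∈ M24 → extra c = true → σ ∈ H)
    (_hsub : ∀ x ∈ base, x ∈ fixed)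
    (h : pairLevel k extra base fixed b Δ ps = true) :
    ∀ x ∈ toSet Δ, ∃ t, t ∈ fixPts H fixed ∧ t ∈ ordGen (fixPts H base) k ∧ t b = x := by
  intro x hx
  have h1 := allLt_spec h _ (bit_lt x)
  rw [mem_toSet.1 hx] at h1
  obtain ⟨q, -, hq⟩ := List.any_eq_true.1 h1
  simp only [Bool.and_eq_true, List.all_eq_true, Nat.beq_eq] at hq
  obtain ⟨⟨⟨hb, hf⟩, ha⟩, hc⟩ := hq
  obtain ⟨σ, hσ, hσM, hσe, hσk, hσf⟩ := pairOK_spec ha
  obtain ⟨τ, hτ, hτM, hτe, hτk, hτf⟩ := pairOK_spec hc
  have hσH := hH σ _ hσ hσM hσe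
  have hτH := hH τ _ hτ hτM hτe
  refine ⟨σ * τ, mem_fixPts.2 ⟨mul_mem hσH hτH, fun y hy => bit_injective ?_⟩,
    mul_mem (Subgroup.subset_closure ⟨mem_fixPts.2 ⟨hσH, hσf⟩, hσk⟩)
      (Subgroup.subset_closure ⟨mem_fixPts.2 ⟨hτH, hτf⟩, hτk⟩), bit_injective ?_⟩
  · rw [Equiv.Perm.mul_apply, ← hσ, ← hτ]; exact hf y hy
  · rw [Equiv.Perm.mul_apply, ← hσ, ← hτ]; exact hb

theorem closure_eq_top {H : Subgroup (Equiv.Perm GolayPt)} {k : ℕ} (h : H ≤ ordGen H k) :
    Subgroup.closure {g : H | g ^ k = 1} = ⊤ := by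
  rw [eq_top_iff]
  intro g _
  have hle : ordGen H k ≤ (Subgroup.closure {g : H | g ^ k = 1}).map H.subtype := by
    rw [ordGen, Subgroup.closure_le]
    rintro a ⟨ha, hak⟩
    exact ⟨⟨a, ha⟩, Subgroup.subset_closure (Subtype.ext (by simpa using hak)), rfl⟩
  obtain ⟨g', hg', he⟩ := hle (h g.2)
  rw [show g = g' from Subtype.ext he.symm]
  exact hg'

theorem pairs_check :
    pairLevel 23 (fun _ => true) [none] [none] (some 0) 8388607
      (SimpleData.pairs23.getD 0 []) = true ∧
    pairLevel 23 (fun _ => true) [none] [some 0, none] (some 1) 8388606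
      (SimpleData.pairs23.getD 1 []) = true ∧
    pairLevel 23 (fun _ => true) [none] [some 1, some 0, none] (some 2) 8388604
      (SimpleData.pairs23.getD 2 []) = true ∧
    pairLevel 23 (fun _ => true) [none] [some 2, some 1, some 0, none] (some 3) 8388600
      (SimpleData.pairs23.getD 3 []) = true ∧
    pairLevel 23 (fun _ => true) [none] [some 3, some 2, some 1, some 0, none] (some 5) 147488
      (SimpleData.pairs23.getD 4 []) = true ∧
    pairLevel 23 (fun _ => true) [none] [some 5, some 3, some 2, some 1, some 0, none] (some 4)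
      8241104 (SimpleData.pairs23.getD 5 []) = true := by
  decide +kernel

theorem pairs_check22 :
    pairLevel 11 (fun _ => true) [some 0, none] [some 0, none] (some 1) 8388606
      (SimpleData.pairs22.getD 0 []) = true ∧
    pairLevel 11 (fun _ => true) [some 0, none] [some 1, some 0, none] (some 2) 8388604
      (SimpleData.pairs22.getD 1 []) = true ∧
    pairLevel 11 (fun _ => true) [some 0, none] [some 2, some 1, some 0, none] (some 3) 8388600
      (SimpleData.pairs22.getD 2 []) = true ∧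
    pairLevel 11 (fun _ => true) [some 0, none] [some 3, some 2, some 1, some 0, none] (some 5)
      147488 (SimpleData.pairs22.getD 3 []) = true ∧
    pairLevel 11 (fun _ => true) [some 0, none] [some 5, some 3, some 2, some 1, some 0, none]
      (some 4) 8241104 (SimpleData.pairs22.getD 4 []) = true := by
  decide +kernel

theorem pairs_check11 :
    pairLevel 11 keeps12 [some 0] [some 0] (some 1) 340830
      (SimpleData.pairs11.getD 0 []) = true ∧
    pairLevel 11 keeps12 [some 0] [some 1, some 0] (some 2) 340828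
      (SimpleData.pairs11.getD 1 []) = true ∧
    pairLevel 11 keeps12 [some 0] [some 2, some 1, some 0] (some 3) 340824
      (SimpleData.pairs11.getD 2 []) = true ∧
    pairLevel 11 keeps12 [some 0] [some 3, some 2, some 1, some 0] (some 4) 340816
      (SimpleData.pairs11.getD 3 []) = true := by
  decide +kernel

/-! ### Two-fold transitivity -/

theorem twoTrans_of {H : Subgroup (Equiv.Perm GolayPt)} {D : Finset GolayPt} {b₀ b₁ : GolayPt}
    (_hne : b₁ ≠ b₀) (_h₀ : b₀ ∈ D) (_h₁ : b₁ ∈ D)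
    (hinv : ∀ g ∈ H, ∀ x, g x ∈ D ↔ x ∈ D)
    (l0 : ∀ x ∈ D, ∃ t ∈ H, t b₀ = x)
    (l1 : ∀ x ∈ D, x ≠ b₀ → ∃ t ∈ H, t b₀ = b₀ ∧ t b₁ = x)
    (hf : ∀ g ∈ H, (∀ x ∈ D, g x = x) → g = 1) : TwoTrans H D := by
  refine ⟨fun g x hx => (hinv g g.2 x).2 hx, fun x hx y hy z hz hyx hzx => ?_, fun x hx y hy => ?_,
    fun g hg => Subtype.ext (hf g g.2 hg)⟩
  · obtain ⟨s, hs, hsx⟩ := l0 x hx
    have hd : ∀ w ∈ D, w ≠ x → s⁻¹ w ∈ D ∧ s⁻¹ w ≠ b₀ := fun w hw hwx =>
      ⟨(hinv _ (H.inv_mem hs) w).2 hw, fun he => hwx (by rw [← hsx, ← he, perm_apply_inv])⟩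
    obtain ⟨u, hu, hu0, hu1⟩ := l1 _ (hd y hy hyx).1 (hd y hy hyx).2
    obtain ⟨v, hv, hv0, hv1⟩ := l1 _ (hd z hz hzx).1 (hd z hz hzx).2
    have hu0' : u⁻¹ b₀ = b₀ := by conv_lhs => rw [← hu0, perm_inv_apply]
    have hu1' : u⁻¹ (s⁻¹ y) = b₁ := by rw [← hu1, perm_inv_apply]
    have hsx' : s⁻¹ x = b₀ := by rw [← hsx, perm_inv_apply]
    refine ⟨⟨s * v * u⁻¹ * s⁻¹, mul_mem (mul_mem (mul_mem hs hv) (inv_mem hu)) (inv_mem hs)⟩,
      ?_, ?_⟩
    · show (s * v * u⁻¹ * s⁻¹) x = x
      simp only [Equiv.Perm.mul_apply, hsx', hu0', hv0, hsx]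
    · show (s * v * u⁻¹ * s⁻¹) y = z
      simp only [Equiv.Perm.mul_apply, hu1', hv1, perm_apply_inv]
  · obtain ⟨s, hs, rfl⟩ := l0 x hx
    obtain ⟨t, ht, rfl⟩ := l0 y hy
    exact ⟨⟨t * s⁻¹, mul_mem ht (inv_mem hs)⟩, by
      show (t * s⁻¹) (s b₀) = t b₀
      rw [Equiv.Perm.mul_apply, perm_inv_apply]⟩

theorem not_mem_apply {H : Subgroup (Equiv.Perm GolayPt)} {l : List GolayPt} {g : Equiv.Perm GolayPt}
    (hg : g ∈ fixPts H l) (x : GolayPt) : g x ∈ l ↔ x ∈ l :=
  ⟨fun h => (g.injective (hg.2 _ h)) ▸ h, fun h => (hg.2 x h).symm ▸ h⟩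

theorem faithful24 {l : List GolayPt} (g : Equiv.Perm GolayPt) (hg : g ∈ fixPts M24 l)
    (h : ∀ x ∈ Finset.univ.filter (· ∉ l), g x = x) : g = 1 := by
  ext x : 1
  by_cases hx : x ∈ l
  · exact hg.2 x hx
  · exact h x (by simp [hx])

theorem twoTrans_M24 : TwoTrans M24 (Finset.univ : Finset GolayPt) := by
  refine twoTrans_of (b₀ := none) (b₁ := some 0) (by decide) (Finset.mem_univ _) (Finset.mem_univ _)
    (fun g _ x => by simp) (fun x _ => ?_) (fun x _ hx => ?_) fun g _ h => ?_
  · obtain ⟨t, ht, htx⟩ := low_M24 level24_checks.1 x (by rw [mask_eqs.1]; simp)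
    exact ⟨t, ht.1, htx⟩
  · obtain ⟨t, ht, htx⟩ := low_M24 level24_checks.2.1 x (by rw [mask_eqs.2.1]; simp [hx])
    exact ⟨t, ht.1, ht.2 none (by simp), htx⟩
  · ext x : 1
    exact h x (Finset.mem_univ x)

theorem twoTrans_M23 :
    TwoTrans (fixPts M24 [none]) (Finset.univ.filter (· ∉ [(none : GolayPt)])) := by
  refine twoTrans_of (b₀ := some 0) (b₁ := some 1) (by decide) (by decide +kernel)
    (by decide +kernel) (fun g hg x => by simp only [Finset.mem_filter, Finset.mem_univ, true_and,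
      not_mem_apply hg]) (fun x hx => ?_) (fun x hx hne => ?_) fun g hg h => faithful24 g hg h
  · exact low_M24 level24_checks.2.1 x (by rwa [mask_eqs.2.1])
  · obtain ⟨t, ht, htx⟩ := low_M24 level24_checks.2.2.1 x (by
      rw [mask_eqs.2.2.1]; simp only [Finset.mem_filter, Finset.mem_univ, true_and,
        List.mem_cons, List.not_mem_nil, or_false, not_or] at hx ⊢; exact ⟨hne, hx⟩)
    exact ⟨t, mem_fixPts.2 ⟨ht.1, fun y hy => ht.2 y (List.mem_cons_of_mem _ hy)⟩,
      ht.2 _ List.mem_cons_self, htx⟩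

theorem twoTrans_M22 : TwoTrans (fixPts M24 [some 0, none])
    (Finset.univ.filter (· ∉ [(some 0 : GolayPt), none])) := by
  refine twoTrans_of (b₀ := some 1) (b₁ := some 2) (by decide) (by decide +kernel)
    (by decide +kernel) (fun g hg x => by simp only [Finset.mem_filter, Finset.mem_univ, true_and,
      not_mem_apply hg]) (fun x hx => ?_) (fun x hx hne => ?_) fun g hg h => faithful24 g hg h
  · exact low_M24 level24_checks.2.2.1 x (by rwa [mask_eqs.2.2.1])
  · obtain ⟨t, ht, htx⟩ := low_M24 level24_checks.2.2.2.1 x (by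
      rw [mask_eqs.2.2.2.1]; simp only [Finset.mem_filter, Finset.mem_univ, true_and,
        List.mem_cons, List.not_mem_nil, or_false, not_or] at hx ⊢; exact ⟨hne, hx⟩)
    exact ⟨t, mem_fixPts.2 ⟨ht.1, fun y hy => ht.2 y (List.mem_cons_of_mem _ hy)⟩,
      ht.2 _ List.mem_cons_self, htx⟩

theorem faithful12 (g : Equiv.Perm GolayPt) (hg : g ∈ Spor.M12)
    (h : ∀ x ∈ Spor.squareDodecad, g x = x) : g = 1 := by
  have hm : g ∈ fixPts Spor.M12 [some 4, some 3, some 2, some 1, some 0] :=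
    ⟨hg, fun x hx => h x ((by decide +kernel : ∀ y : GolayPt,
      y ∈ [(some 4 : GolayPt), some 3, some 2, some 1, some 0] → y ∈ Spor.squareDodecad) x hx)⟩
  rwa [fixPts_base12, Subgroup.mem_bot] at hm

theorem twoTrans_M12 : TwoTrans Spor.M12 Spor.squareDodecad := by
  refine twoTrans_of (b₀ := some 0) (b₁ := some 1) (by decide) (by decide +kernel)
    (by decide +kernel) (fun g hg x => M12_apply_mem hg x) (fun x hx => ?_) (fun x hx hne => ?_)
    faithful12
  · obtain ⟨t, ht, htx⟩ := low12 level12_checks.1 x (by rw [mask12_eqs.1]; simpa using hx)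
    exact ⟨t, ht.1, htx⟩
  · obtain ⟨t, ht, htx⟩ := low12 level12_checks.2.1 x (by rw [mask12_eqs.2.1]; simp [hx, hne])
    exact ⟨t, ht.1, ht.2 _ List.mem_cons_self, htx⟩

theorem twoTrans_M11 : TwoTrans (fixPts Spor.M12 [some 0])
    (Spor.squareDodecad.filter (· ∉ [(some 0 : GolayPt)])) := by
  refine twoTrans_of (b₀ := some 1) (b₁ := some 2) (by decide) (by decide +kernel)
    (by decide +kernel) (fun g hg x => by simp only [Finset.mem_filter, M12_apply_mem hg.1,
      not_mem_apply hg]) (fun x hx => ?_) (fun x hx hne => ?_) fun g hg h => ?_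
  · exact low12 level12_checks.2.1 x (by rwa [mask12_eqs.2.1])
  · obtain ⟨t, ht, htx⟩ := low12 level12_checks.2.2.1 x (by
      rw [mask12_eqs.2.2.1]; simp only [Finset.mem_filter,
        List.mem_cons, List.not_mem_nil, or_false, not_or] at hx ⊢; exact ⟨hx.1, hne, hx.2⟩)
    exact ⟨t, mem_fixPts.2 ⟨ht.1, fun y hy => ht.2 y (List.mem_cons_of_mem _ hy)⟩,
      ht.2 _ List.mem_cons_self, htx⟩
  · refine faithful12 g hg.1 fun x hx => ?_
    by_cases h0 : x ∈ [(some 0 : GolayPt)]
    · exact hg.2 x h0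
    · exact h x (Finset.mem_filter.2 ⟨hx, h0⟩)

/-! ### Generation by elements of prime order -/

theorem M23_le_ordGen : fixPts M24 [none] ≤ ordGen (fixPts M24 [none]) 23 := by
  obtain ⟨c1, c2, c3, c4, c5, c6⟩ := pairs_check
  obtain ⟨-, m1, m2, m3, m4, -, -⟩ := mask_eqs
  have hH : ∀ σ c, IsPermOf σ c → σ ∈ M24 → (fun _ : ℕ => true) c = true → σ ∈ M24 :=
    fun _ _ _ h _ => h
  refine chain_step (up_compl m1 (by decide)) (pairLevel_spec hH (by decide) c1) ?_
  refine chain_step (up_compl m2 (by decide)) (pairLevel_spec hH (by decide) c2) ?_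
  refine chain_step (up_compl m3 (by decide)) (pairLevel_spec hH (by decide) c3) ?_
  refine chain_step (up_compl m4 (by decide)) (pairLevel_spec hH (by decide) c4) ?_
  refine chain_step (fun g hg => up5 hg) (pairLevel_spec hH (by decide) c5) ?_
  refine chain_step (fun g hg => up6 hg) (pairLevel_spec hH (by decide) c6) ?_
  rw [fixPts_base7]; exact bot_le

theorem M22_le_ordGen : fixPts M24 [some 0, none] ≤ ordGen (fixPts M24 [some 0, none]) 11 := by
  obtain ⟨c2, c3, c4, c5, c6⟩ := pairs_check22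
  obtain ⟨-, -, m2, m3, m4, -, -⟩ := mask_eqs
  have hH : ∀ σ c, IsPermOf σ c → σ ∈ M24 → (fun _ : ℕ => true) c = true → σ ∈ M24 :=
    fun _ _ _ h _ => h
  refine chain_step (up_compl m2 (by decide)) (pairLevel_spec hH (by decide) c2) ?_
  refine chain_step (up_compl m3 (by decide)) (pairLevel_spec hH (by decide) c3) ?_
  refine chain_step (up_compl m4 (by decide)) (pairLevel_spec hH (by decide) c4) ?_
  refine chain_step (fun g hg => up5 hg) (pairLevel_spec hH (by decide) c5) ?_
  refine chain_step (fun g hg => up6 hg) (pairLevel_spec hH (by decide) c6) ?_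
  rw [fixPts_base7]; exact bot_le

theorem M11_le_ordGen : fixPts Spor.M12 [some 0] ≤ ordGen (fixPts Spor.M12 [some 0]) 11 := by
  obtain ⟨c1, c2, c3, c4⟩ := pairs_check11
  obtain ⟨-, m1, m2, m3, m4, -⟩ := mask12_eqs
  have hH : ∀ σ c, IsPermOf σ c → σ ∈ M24 → keeps12 c = true → σ ∈ Spor.M12 :=
    fun σ c hc h hk => mem_M12.2 ⟨h, by
      rw [squareDodecad_eq, ← toSet_push hc, Nat.eq_of_beq_eq_true hk]⟩
  refine chain_step (up12 m1 (by decide +kernel)) (pairLevel_spec hH (by decide) c1) ?_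
  refine chain_step (up12 m2 (by decide +kernel)) (pairLevel_spec hH (by decide) c2) ?_
  refine chain_step (up12 m3 (by decide +kernel)) (pairLevel_spec hH (by decide) c3) ?_
  refine chain_step (up12 m4 (by decide +kernel)) (pairLevel_spec hH (by decide) c4) ?_
  rw [fixPts_base12]; exact bot_le

/-! ### Simplicity -/

theorem isSimple_fix1 : IsSimpleGroup (fixPts M24 [none]) :=
  isSimpleGroup_of_generated twoTrans_M23 (p := 23) (by norm_num) (by decide +kernel)
    (by decide +kernel) (by rw [card_fix1]; norm_num) (closure_eq_top M23_le_ordGen)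

theorem isSimple_fix2 : IsSimpleGroup (fixPts M24 [some 0, none]) :=
  isSimpleGroup_of_generated twoTrans_M22 (p := 11) (by norm_num) (by decide +kernel)
    (by decide +kernel) (by rw [card_fix2]; norm_num) (closure_eq_top M22_le_ordGen)

theorem isSimple_M23 : IsSimpleGroup Spor.M23 := by rw [spor_M23_eq]; exact isSimple_fix1

theorem isSimple_M22 : IsSimpleGroup Spor.M22 := by rw [spor_M22_eq]; exact isSimple_fix2

theorem isSimple_M11 : IsSimpleGroup Spor.M11 := by
  rw [spor_M11_eq]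
  exact isSimpleGroup_of_generated twoTrans_M11 (p := 11) (by norm_num) (by decide +kernel)
    (by decide +kernel) (by rw [← spor_M11_eq, card_M11]; norm_num) (closure_eq_top M11_le_ordGen)

theorem isSimple_M24 : IsSimpleGroup M24 := by
  have := isSimple_fix1
  refine isSimpleGroup_of_stabilizer twoTrans_M24 (Finset.mem_univ none) (q := 2) (r := 3)
    (by norm_num) (by norm_num) (by norm_num) (by decide +kernel) (by decide +kernel) ?_
  obtain ⟨e⟩ := nonempty_stab_point none
  exact e.isSimpleGroup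

theorem isSimple_M12 : IsSimpleGroup Spor.M12 := by
  have := isSimple_M11
  refine isSimpleGroup_of_stabilizer twoTrans_M12 (x := some 0) (by decide +kernel) (q := 2) (r := 3)
    (by norm_num) (by norm_num) (by norm_num) (by decide +kernel) (by decide +kernel) ?_
  exact MulEquiv.isSimpleGroup ((subgroupEquiv (L := fixPts Spor.M12 [some 0]) (fun g hg => hg.1)
    fun g => by simp [mem_fixPts, MulAction.mem_stabilizer_iff, Subgroup.smul_def]).trans
    (MulEquiv.subgroupCongr spor_M11_eq.symm))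

theorem isSimple_stab_point (p : GolayPt) : IsSimpleGroup (MulAction.stabilizer M24 p) := by
  have := isSimple_fix1
  obtain ⟨e⟩ := nonempty_stab_point p
  exact e.isSimpleGroup

theorem isSimple_stab_two {p q : GolayPt} (hpq : p ≠ q) :
    IsSimpleGroup ↥(MulAction.stabilizer M24 p ⊓ MulAction.stabilizer M24 q) := by
  have := isSimple_fix2
  obtain ⟨e⟩ := nonempty_stab_two hpq
  exact e.isSimpleGroup

theorem isSimple_stab_dodecad {d : Finset GolayPt} (hd : d ∈ dodecads) :
    IsSimpleGroup (MulAction.stabilizer M24 d) := by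
  have := isSimple_M12
  obtain ⟨e⟩ := nonempty_stab_dodecad hd
  exact e.isSimpleGroup

theorem isSimple_stab_dodecad_point {d : Finset GolayPt} (hd : d ∈ dodecads) {p : GolayPt}
    (hp : p ∈ d) :
    IsSimpleGroup ↥(MulAction.stabilizer M24 d ⊓ MulAction.stabilizer M24 p) := by
  have := isSimple_M11
  obtain ⟨e⟩ := nonempty_stab_dodecad_point hd hp
  exact e.isSimpleGroup

end CfsgLib.Golay
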