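import Cfsg.Agent.Lib.Golay.Basic

/-!
Dimension, self-orthogonality, counts of octads and dodecads, and the Steiner property of octads.
-/

set_option autoImplicit false

namespace CfsgLib.Golay

open Cfsg

/-- The dot product with a fixed word, as a linear form. -/
def dotForm (w : GolayPt → ZMod 2) : (GolayPt → ZMod 2) →ₗ[ZMod 2] ZMod 2 where
  toFun v := ∑ i, v i * w i
  map_add' u v := by simp [add_mul, Finset.sum_add_distrib]
  map_smul' c v := by simp only [Pi.smul_apply, smul_eq_mul, mul_assoc, Finset.mul_sum, RingHom.id_apply]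

theorem dot_toWord (m n : ℕ) : ∑ i, toWord m i * toWord n i = (pc 24 (m &&& n) : ZMod 2) := by
  rw [← card_toSet, toSet, Finset.natCast_card_filter]
  refine Finset.sum_congr rfl fun p _ => ?_
  simp only [toWord, Nat.testBit_and]
  cases m.testBit (bit p) <;> cases n.testBit (bit p) <;> simp

theorem basis_dot_check :
    (basis.all fun a => basis.all fun b => pc24 (a &&& b) % 2 == 0) = true := by
  decide +kernel

theorem dot_basis {a b : ℕ} (ha : a ∈ basis) (hb : b ∈ basis) :
    ∑ i, toWord a i * toWord b i = 0 := by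
  have h := List.all_eq_true.1 (List.all_eq_true.1 basis_dot_check a ha) b hb
  rw [beq_iff_eq, pc24_eq] at h
  rw [dot_toWord, ZMod.natCast_eq_zero_iff_even]
  exact Nat.even_iff.2 h

theorem mem_ker_dotForm {v w : GolayPt → ZMod 2} :
    v ∈ LinearMap.ker (dotForm w) ↔ ∑ i, v i * w i = 0 := Iff.rfl

theorem dot_comb_basis {a : ℕ} (ha : a ∈ basis) (y : ℕ) :
    ∑ i, toWord (comb y) i * toWord a i = 0 :=
  mem_ker_dotForm.1 <| toWord_comb_mem_of (M := LinearMap.ker (dotForm (toWord a)))
    (fun _b hb => mem_ker_dotForm.2 (dot_basis hb ha)) y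

theorem self_orthogonal {v w : GolayPt → ZMod 2} (hv : v ∈ golayCode) (hw : w ∈ golayCode) :
    ∑ i, v i * w i = 0 := by
  obtain ⟨x, -, hxv⟩ := mem_golay_iff.1 hv
  obtain ⟨y, -, hyw⟩ := mem_golay_iff.1 hw
  rw [← mem_ker_dotForm, ← hxv]
  refine toWord_comb_mem_of (fun a ha => ?_) x
  rw [mem_ker_dotForm, ← hyw, Finset.sum_congr rfl fun i _ => mul_comm (toWord a i) _]
  exact dot_comb_basis ha y

theorem even_card_inter {s t : Finset GolayPt}
    (hs : s ∈ supports (golayCode : Set (GolayPt → ZMod 2)))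
    (ht : t ∈ supports (golayCode : Set (GolayPt → ZMod 2))) : Even (s ∩ t).card := by
  obtain ⟨x, -, rfl⟩ := mem_supports_iff.1 hs
  obtain ⟨y, -, rfl⟩ := mem_supports_iff.1 ht
  rw [← toSet_and, card_toSet, ← ZMod.natCast_eq_zero_iff_even, ← dot_toWord]
  exact self_orthogonal (toWord_comb_mem x) (toWord_comb_mem y)

theorem card_golay : Nat.card golayCode = 2 ^ 12 := by
  have h : (golayCode : Set (GolayPt → ZMod 2)) = (fun x => toWord (comb x)) '' {x | x < 2 ^ 12} := by
    ext w; simp [mem_golay_iff]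
  have hi : Set.InjOn (fun x => toWord (comb x)) {x | x < 2 ^ 12} := fun x hx y hy hxy =>
    comb_injOn hx hy (toWord_inj (comb_lt hx) (comb_lt hy) hxy)
  show Nat.card ↥(golayCode : Set (GolayPt → ZMod 2)) = _
  rw [Nat.card_coe_set_eq, h, Set.InjOn.ncard_image hi,
    show {x : ℕ | x < 2 ^ 12} = ↑(Finset.range (2 ^ 12)) by ext x; simp, Set.ncard_coe_finset,
    Finset.card_range]

theorem finrank_golay : Module.finrank (ZMod 2) golayCode = 12 := by
  have h := Module.natCard_eq_pow_finrank (K := ZMod 2) (V := golayCode)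
  rw [card_golay, Nat.card_zmod] at h
  exact (Nat.pow_right_injective le_rfl h).symm

theorem count_checks :
    countR (fun x => let c := comb x; Nat.beq (pc24 c) 8 && (fun _ => true) c) 12 0 = 759 ∧
      countR (fun x => let c := comb x; Nat.beq (pc24 c) 12 && (fun _ => true) c) 12 0 = 2576 := by
  decide +kernel

theorem ncard_weight {k : ℕ} :
    (wordsOfWeight (golayCode : Set (GolayPt → ZMod 2)) k).ncard =
      countR (fun x => let c := comb x; Nat.beq (pc24 c) k && (fun _ => true) c) 12 0 := by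
  rw [← ncard_filter_weight k (fun _ => true) (fun _ => True) (by simp)]
  simp

theorem ncard_octads : octads.ncard = 759 := ncard_weight.trans count_checks.1

theorem ncard_dodecads : dodecads.ncard = 2576 := ncard_weight.trans count_checks.2

theorem supports_symmDiff {s t : Finset GolayPt}
    (hs : s ∈ supports (golayCode : Set (GolayPt → ZMod 2)))
    (ht : t ∈ supports (golayCode : Set (GolayPt → ZMod 2))) :
    symmDiff s t ∈ supports (golayCode : Set (GolayPt → ZMod 2)) := by
  obtain ⟨x, hx, rfl⟩ := mem_supports_iff.1 hs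
  obtain ⟨y, hy, rfl⟩ := mem_supports_iff.1 ht
  exact mem_supports_iff.2 ⟨x ^^^ y, Nat.xor_lt_two_pow hx hy, by rw [comb_xor, toSet_xor]⟩

theorem supports_card {s : Finset GolayPt}
    (hs : s ∈ supports (golayCode : Set (GolayPt → ZMod 2))) :
    s.card = 0 ∨ s.card = 8 ∨ s.card = 12 ∨ s.card = 16 ∨ s.card = 24 := by
  obtain ⟨x, hx, rfl⟩ := mem_supports_iff.1 hs
  rw [card_toSet]
  exact (comb_spec hx).2.2

theorem mem_octads {s : Finset GolayPt} :
    s ∈ octads ↔ s ∈ supports (golayCode : Set (GolayPt → ZMod 2)) ∧ s.card = 8 := Iff.rfl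

theorem mem_dodecads {s : Finset GolayPt} :
    s ∈ dodecads ↔ s ∈ supports (golayCode : Set (GolayPt → ZMod 2)) ∧ s.card = 12 := Iff.rfl

theorem octad_eq_of_five {o o' : Finset GolayPt} (ho : o ∈ octads) (ho' : o' ∈ octads)
    (h : 5 ≤ (o ∩ o').card) : o = o' := by
  have hd := supports_card (supports_symmDiff ho.1 ho'.1)
  have h1 : (o \ o').card + (o ∩ o').card = 8 := by
    rw [Finset.card_sdiff_add_card_inter]; exact ho.2
  have h2 : (o' \ o).card + (o' ∩ o).card = 8 := by
    rw [Finset.card_sdiff_add_card_inter]; exact ho'.2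
  have h3 : (symmDiff o o').card = (o \ o').card + (o' \ o).card :=
    Finset.card_union_of_disjoint disjoint_sdiff_sdiff
  rw [Finset.inter_comm o' o] at h2
  have h0 : (symmDiff o o').card = 0 := by omega
  exact symmDiff_eq_bot.1 (Finset.card_eq_zero.1 h0)

theorem octads_steiner : IsSteinerSystem 5 8 octads := by
  classical
  refine ⟨fun b hb => hb.2, fun s hs => ?_⟩
  have huniq : ∀ o ∈ octads, ∀ o' ∈ octads, s ⊆ o → s ⊆ o' → o = o' := fun o ho o' ho' h h' =>
    octad_eq_of_five ho ho' (hs ▸ Finset.card_le_card (Finset.subset_inter h h'))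
  suffices hex : ∃ o ∈ octads, s ⊆ o by
    obtain ⟨o, ho, hso⟩ := hex
    exact ⟨o, ⟨ho, hso⟩, fun o' h' => huniq o' h'.1 o ho h'.2 hso⟩
  have hfin : octads.Finite := Set.toFinite _
  set F := hfin.toFinset with hF
  have hFc : F.card = 759 := by rw [← Set.ncard_eq_toFinset_card _ hfin, ncard_octads]
  have hmem : ∀ o, o ∈ F ↔ o ∈ octads := fun o => by simp [hF]
  have hdisj : (F : Set (Finset GolayPt)).PairwiseDisjoint fun o => o.powersetCard 5 := by
    intro o ho o' ho' hne
    refine Finset.disjoint_left.2 fun t ht ht' => hne ?_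
    rw [Finset.mem_powersetCard] at ht ht'
    exact octad_eq_of_five ((hmem o).1 ho) ((hmem o').1 ho')
      (ht.2 ▸ Finset.card_le_card (Finset.subset_inter ht.1 ht'.1))
  have hU : F.biUnion (fun o => o.powersetCard 5) = (Finset.univ : Finset GolayPt).powersetCard 5 := by
    refine Finset.eq_of_subset_of_card_le ?_ ?_
    · intro t ht
      simp only [Finset.mem_biUnion, Finset.mem_powersetCard] at ht
      obtain ⟨o, -, -, h⟩ := ht
      exact Finset.mem_powersetCard.2 ⟨Finset.subset_univ _, h⟩
    · rw [Finset.card_biUnion hdisj, Finset.sum_congr rfl fun o ho => by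
        rw [Finset.card_powersetCard, ((hmem o).1 ho).2], Finset.sum_const, hFc,
        Finset.card_powersetCard, Finset.card_univ]
      decide +kernel
  have hs' : s ∈ F.biUnion (fun o => o.powersetCard 5) := by
    rw [hU]; exact Finset.mem_powersetCard.2 ⟨Finset.subset_univ _, hs⟩
  simp only [Finset.mem_biUnion, Finset.mem_powersetCard] at hs'
  obtain ⟨o, ho, hso, -⟩ := hs'
  exact ⟨o, (hmem o).1 ho, hso⟩

theorem exists_octad {s : Finset GolayPt} (hs : s.card ≤ 5) : ∃ o ∈ octads, s ⊆ o := by
  obtain ⟨t, hst, ht⟩ := Finset.exists_superset_card_eq hs (by simp [ZMod.card])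
  obtain ⟨o, ⟨ho, hto⟩, -⟩ := octads_steiner.2 t ht
  exact ⟨o, ho, hst.trans hto⟩

end CfsgLib.Golay
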