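import Cfsg.Agent.Lib.Golay.UniqueApps
import Cfsg.Agent.Lib.Steiner.SetMoment

/-!
Steiner systems S(4,7,23): extension to a Golay code, uniqueness, automorphism group.
-/

set_option autoImplicit false

namespace CfsgLib.Golay.Derived

open Cfsg CfsgLib.Sporadic.AbstractGolay CfsgLib.Golay.Unique
open scoped symmDiff Pointwise

section General

variable {β : Type*} [Fintype β] [DecidableEq β]

/-- A family with even intersections whose orthogonal has no small nonempty member spans a
Golay code. -/
theorem isGolay_of_generators (hβ : Fintype.card β = 24) {S : Set (Finset β)}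
    (heven : ∀ a ∈ S, ∀ b ∈ S, Even (a ∩ b).card)
    (hsmall : ∀ x : Finset β, x.Nonempty → (∀ o ∈ S, Even (x ∩ o).card) → 8 ≤ x.card) :
    IsGolay (family (blockSpan S)) := by
  have horth : blockSpan S ≤ dualCode (blockSpan S) := by
    rw [blockSpan, Submodule.span_le]
    rintro _ ⟨b, hb, rfl⟩
    rw [SetLike.mem_coe, mem_dualCode]
    intro w hw
    induction hw using Submodule.span_induction with
    | mem u hu =>
      obtain ⟨c, hc, rfl⟩ := hu
      rw [dot_eq_card_inter, supp_wordOf, supp_wordOf, ZMod.natCast_eq_zero_iff_even]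
      exact heven b hb c hc
    | zero => simp
    | add u v _ _ ihu ihv => simp [mul_add, Finset.sum_add_distrib, ihu, ihv]
    | smul k u _ ih => simp [mul_left_comm, ← Finset.mul_sum, ih]
  have hmin : ∀ w ∈ dualCode (blockSpan S), w ≠ 0 → 8 ≤ hammingNorm w := by
    intro w hw hne
    rw [← card_supp]
    refine hsmall _ (Finset.nonempty_iff_ne_empty.2 fun h0 =>
      hne (supp_injective (h0.trans supp_zero.symm))) fun o ho => ?_
    have h := mem_dualCode.1 hw (wordOf o) (Submodule.subset_span ⟨o, ho, rfl⟩)
    rwa [dot_eq_card_inter, supp_wordOf, ZMod.natCast_eq_zero_iff_even] at h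
  have hle := Submodule.finrank_mono horth
  have h12 := finrank_le_twelve hβ _ hmin
  have hsum := finrank_add_dualCode (blockSpan S)
  rw [hβ] at hsum
  exact isGolay_family hβ _ (by omega) (fun v hv w hw => mem_dualCode.1 (horth hv) w hw)
    fun w hw => hmin w (horth hw)

/-- A permutation carrying the generators into themselves carries the spanned family into
itself. -/
theorem family_map {S : Set (Finset β)} (σ : Equiv.Perm β)
    (hσ : ∀ o ∈ S, o.map σ.toEmbedding ∈ S) {s : Finset β} (hs : s ∈ family (blockSpan S)) :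
    s.map σ.toEmbedding ∈ family (blockSpan S) := by
  have hw : ∀ u : Finset β, (LinearMap.funLeft (ZMod 2) (ZMod 2) σ.symm) (wordOf u) =
      wordOf (u.map σ.toEmbedding) := fun u => by
    funext i
    simp [LinearMap.funLeft_apply, wordOf, Finset.mem_map_equiv]
  have hle : (blockSpan S).map (LinearMap.funLeft (ZMod 2) (ZMod 2) σ.symm) ≤ blockSpan S := by
    rw [blockSpan, Submodule.map_span, Submodule.span_le]
    rintro _ ⟨_, ⟨o, ho, rfl⟩, rfl⟩
    rw [hw]
    exact Submodule.subset_span ⟨_, hσ o ho, rfl⟩
  rw [mem_family, ← hw]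
  exact hle (Submodule.mem_map_of_mem (mem_family.1 hs))

end General

section LiftOne

variable {α : Type*} [Fintype α] [DecidableEq α]

omit [Fintype α] in
theorem card_inter_insertNone (x : Finset (Option α)) (b : Finset α) :
    (x ∩ Finset.insertNone b).card =
      (Finset.eraseNone x ∩ b).card + if none ∈ x then 1 else 0 := by
  have hmap : (Finset.eraseNone x ∩ b).map Function.Embedding.some =
      (x ∩ Finset.insertNone b).erase none := by
    ext o
    cases o <;> simp
  rw [← Finset.card_map Function.Embedding.some (s := Finset.eraseNone x ∩ b), hmap]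
  split
  · next h => rw [Finset.card_erase_add_one (by simp [h])]
  · next h => rw [Finset.erase_eq_of_notMem (by simp [h]), add_zero]

omit [Fintype α] in
theorem card_eraseNone_add (x : Finset (Option α)) :
    (Finset.eraseNone x).card + (if none ∈ x then 1 else 0) = x.card := by
  have hmap : (Finset.eraseNone x).map Function.Embedding.some = x.erase none := by
    ext o
    cases o <;> simp
  rw [← Finset.card_map Function.Embedding.some, hmap]
  split
  · next h => rw [Finset.card_erase_add_one h]
  · next h => rw [Finset.erase_eq_of_notMem h, add_zero]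

variable {B : Set (Finset α)}

/-- No nonempty set of at most seven points has even intersection with all blocks, and no set of
at most six points has odd intersection with all blocks. -/
theorem no_small_4_7_23 (hα : Fintype.card α = 23) (hB : IsSteinerSystem 4 7 B) {y : Finset α}
    {r : ℕ} (hr : ∀ b ∈ B, (y ∩ b).card % 2 = r) (hy : y.card ≤ 7 - r) (hne : y.Nonempty ∨ r = 1) :
    False := by
  obtain ⟨F, hF⟩ := Steiner.exists_finset B
  rw [← hF] at hB hr
  have hB' : IsSteinerSystem 4 7 (F : Set (Finset α)) := hB
  have hpar : ∀ j, j % 2 ≠ r → Steiner.meetNum F y j = 0 := fun j hj =>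
    Steiner.meetNum_eq_zero fun c hc he => hj (he ▸ hr c (Finset.mem_coe.2 hc))
  have hgt : ∀ j, y.card < j → Steiner.meetNum F y j = 0 := fun j hj => Steiner.meetNum_gt hj
  have m0 := Steiner.setMoment hB' y (i := 0) (by omega)
  have m1 := Steiner.setMoment hB' y (i := 1) (by omega)
  have m2 := Steiner.setMoment hB' y (i := 2) (by omega)
  have m3 := Steiner.setMoment hB' y (i := 3) (by omega)
  have m4 := Steiner.setMoment hB' y (i := 4) (by omega)
  rw [hα] at m0 m1 m2 m3 m4
  simp only [Finset.sum_range_succ, Finset.sum_range_zero] at m0 m1 m2 m3 m4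
  norm_num [Nat.choose] at m0 m1 m2 m3 m4
  have p0 := hpar 0; have p1 := hpar 1; have p2 := hpar 2; have p3 := hpar 3
  have p4 := hpar 4; have p5 := hpar 5; have p6 := hpar 6; have p7 := hpar 7
  have g1 := hgt 1; have g2 := hgt 2; have g3 := hgt 3
  have g4 := hgt 4; have g5 := hgt 5; have g6 := hgt 6; have g7 := hgt 7
  have hr2 : r = 0 ∨ r = 1 := by
    rcases eq_or_ne F ∅ with h | h
    · subst h
      exfalso
      obtain ⟨s, -, hs⟩ := Finset.exists_subset_card_eq (s := (Finset.univ : Finset α)) (n := 4)
        (by rw [Finset.card_univ, hα]; omega)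
      obtain ⟨b, ⟨hb, -⟩, -⟩ := hB'.2 s hs
      simp at hb
    · obtain ⟨c, hc⟩ := Finset.nonempty_iff_ne_empty.2 h
      have := hr c (Finset.mem_coe.2 hc)
      omega
  have hpos : r = 1 ∨ 0 < y.card := hne.symm.imp id Finset.Nonempty.card_pos
  obtain ⟨n, hn⟩ : ∃ n, y.card = n := ⟨_, rfl⟩
  simp only [hn] at m1 m2 m3 m4 g1 g2 g3 g4 g5 g6 g7 hpos hy
  have : n ≤ 7 := by omega
  rcases hr2 with rfl | rfl <;> interval_cases n <;>
    norm_num [Nat.choose] at * <;> omega

theorem no_small_lift (hα : Fintype.card α = 23) (hB : IsSteinerSystem 4 7 B)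
    {x : Finset (Option α)} (hx : x.Nonempty)
    (h : ∀ o ∈ (Finset.insertNone '' B : Set (Finset (Option α))), Even (x ∩ o).card) :
    8 ≤ x.card := by
  by_contra hcon
  push Not at hcon
  have hc := card_eraseNone_add x
  by_cases hn : none ∈ x
  · rw [if_pos hn] at hc
    refine no_small_4_7_23 hα hB (y := Finset.eraseNone x) (r := 1) (fun b hb => ?_) (by omega)
      (Or.inr rfl)
    have := h _ ⟨b, hb, rfl⟩
    rw [card_inter_insertNone, if_pos hn, Nat.even_iff] at this
    omega
  · rw [if_neg hn] at hc
    refine no_small_4_7_23 hα hB (y := Finset.eraseNone x) (r := 0) (fun b hb => ?_) (by omega)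
      (Or.inl (Finset.card_pos.1 (by have := hx.card_pos; omega)))
    have := h _ ⟨b, hb, rfl⟩
    rwa [card_inter_insertNone, if_neg hn, add_zero, Nat.even_iff] at this

omit [DecidableEq α] in
theorem card_option (hα : Fintype.card α = 23) : Fintype.card (Option α) = 24 := by
  rw [Fintype.card_option, hα]

theorem isGolay_lift (hα : Fintype.card α = 23) (hB : IsSteinerSystem 4 7 B) :
    IsGolay (family (blockSpan (Finset.insertNone '' B : Set (Finset (Option α))))) := by
  refine isGolay_of_generators (card_option hα) ?_ fun x hx h => no_small_lift hα hB hx h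
  rintro _ ⟨b, hb, rfl⟩ _ ⟨c, hc, rfl⟩
  rw [card_inter_insertNone, if_pos (by simp), Finset.eraseNone_insertNone]
  rcases eq_or_ne b c with rfl | hne
  · rw [Finset.inter_self, hB.1 b hb]; decide
  · rcases Steiner.inter_4_7_23 hα hB hb hc hne with h | h <;> rw [h] <;> decide

theorem mem_iff_lift (hα : Fintype.card α = 23) (hB : IsSteinerSystem 4 7 B) (b : Finset α) :
    b ∈ B ↔ Finset.insertNone b ∈ family (blockSpan (Finset.insertNone '' B)) ∧ b.card = 7 := by
  have hfw : ∀ c ∈ B, Finset.insertNone c ∈ family (blockSpan (Finset.insertNone '' B)) ∧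
      c.card = 7 := fun c hc =>
    ⟨mem_family.2 (Submodule.subset_span ⟨_, ⟨c, hc, rfl⟩, rfl⟩), hB.1 c hc⟩
  refine ⟨hfw b, fun hb => ?_⟩
  obtain ⟨s, hs, hsc⟩ := Finset.exists_subset_card_eq (s := b) (n := 4) (by omega)
  obtain ⟨c, ⟨hc, hsc'⟩, -⟩ := hB.2 s hsc
  have h5 : (Finset.insertNone s).card = 5 := by rw [Finset.card_insertNone, hsc]
  have := (octad_existsUnique (isGolay_lift hα hB) h5).unique
    (y₁ := Finset.insertNone b) (y₂ := Finset.insertNone c)
    ⟨⟨hb.1, by rw [Finset.card_insertNone, hb.2]⟩, Finset.insertNone.monotone hs⟩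
    ⟨⟨(hfw c hc).1, by rw [Finset.card_insertNone, (hfw c hc).2]⟩,
      Finset.insertNone.monotone hsc'⟩
  rw [← Finset.eraseNone_insertNone b, this, Finset.eraseNone_insertNone]
  exact hc

/-- Coordinates for an S(4,7,23). -/
structure Coord (B : Set (Finset α)) where
  /-- the bijection -/
  e : Option α ≃ GolayPt
  none_eq : e none = none
  mem_supports : ∀ s, s ∈ family (blockSpan (Finset.insertNone '' B)) ↔
    s.map e.toEmbedding ∈ supports (golayCode : Set (GolayPt → ZMod 2))
  mem_block : ∀ b, b ∈ B ↔ (Finset.insertNone b).map e.toEmbedding ∈ octads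

theorem exists_coord (hα : Fintype.card α = 23) (hB : IsSteinerSystem 4 7 B) :
    Nonempty (Coord B) := by
  obtain ⟨e₀, he₀⟩ := exists_equiv (isGolay_lift hα hB)
  obtain ⟨g, hg, hgm⟩ := exists_map_M24 (xs := [e₀ none]) (ys := [none]) (by simp) (by simp)
    (by simp) (by simp)
  have hmap : ∀ s : Finset (Option α), s.map (e₀.trans g).toEmbedding =
      g • s.map e₀.toEmbedding := fun s => by
    rw [Finset.smul_finset_def, Finset.map_eq_image, Finset.map_eq_image, Finset.image_image]
    exact Finset.image_congr fun x _ => rfl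
  have hs : ∀ s, s ∈ family (blockSpan (Finset.insertNone '' B)) ↔
      s.map (e₀.trans g).toEmbedding ∈ supports (golayCode : Set (GolayPt → ZMod 2)) := fun s => by
    rw [hmap, M24_smul_mem_supports hg, he₀]
  refine ⟨⟨e₀.trans g, by simpa using hgm, hs, fun b => ?_⟩⟩
  rw [mem_iff_lift hα hB b, hs, mem_octads, Finset.card_map, Finset.card_insertNone]
  simp

theorem setSystemIso {β : Type*} [Fintype β] [DecidableEq β] {B' : Set (Finset β)}
    (hα : Fintype.card α = 23) (hβ : Fintype.card β = 23) (hB : IsSteinerSystem 4 7 B)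
    (hB' : IsSteinerSystem 4 7 B') : SetSystemIso B B' := by
  obtain ⟨c⟩ := exists_coord hα hB
  obtain ⟨d⟩ := exists_coord hβ hB'
  set f := c.e.trans d.e.symm with hf
  have hfn : f none = none := by
    rw [hf, Equiv.trans_apply, c.none_eq, ← d.none_eq, Equiv.symm_apply_apply]
  have hfs : ∀ x, some (Equiv.removeNone f x) = f (some x) := fun x =>
    Equiv.removeNone_some f (Option.ne_none_iff_exists'.1 fun h => Option.some_ne_none x
      (f.injective (h.trans hfn.symm)))
  have hmap : ∀ b : Finset α, (Finset.insertNone (b.map (Equiv.removeNone f).toEmbedding)).map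
      d.e.toEmbedding = (Finset.insertNone b).map c.e.toEmbedding := fun b => by
    have key : Finset.insertNone (b.map (Equiv.removeNone f).toEmbedding) =
        (Finset.insertNone b).map f.toEmbedding := by
      ext o
      rw [Finset.mem_map_equiv]
      cases o with
      | none => simp [show f.symm none = none by rw [Equiv.symm_apply_eq, hfn]]
      | some y =>
        obtain ⟨x, rfl⟩ := (Equiv.removeNone f).surjective y
        rw [show f.symm (some (Equiv.removeNone f x)) = some x by rw [Equiv.symm_apply_eq, hfs],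
          Finset.some_mem_insertNone, Finset.some_mem_insertNone, Finset.mem_map_equiv,
          Equiv.symm_apply_apply]
    rw [key, Finset.map_map]
    congr 1
    ext o
    simp [hf]
  refine ⟨Equiv.removeNone f, Set.ext fun b' => ⟨?_, fun hb' => ?_⟩⟩
  · rintro ⟨b, hb, rfl⟩
    show b.image (Equiv.removeNone f).toEmbedding ∈ B'
    rw [← Finset.map_eq_image, d.mem_block, hmap, ← c.mem_block]
    exact hb
  · have hcancel : (b'.map (Equiv.removeNone f).symm.toEmbedding).map
        (Equiv.removeNone f).toEmbedding = b' := by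
      ext y
      rw [Finset.mem_map_equiv, Finset.mem_map_equiv, Equiv.symm_symm, Equiv.apply_symm_apply]
    refine ⟨b'.map (Equiv.removeNone f).symm.toEmbedding, ?_, ?_⟩
    · rw [c.mem_block, ← hmap, hcancel, ← d.mem_block]
      exact hb'
    · show (b'.map _).image (Equiv.removeNone f).toEmbedding = b'
      rw [← Finset.map_eq_image, hcancel]

/-- The automorphism group of an S(4,7,23), carried to the stabiliser of a point in `M24`. -/
theorem exists_aut_equiv (hB : IsSteinerSystem 4 7 B) (hα : Fintype.card α = 23) :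
    ∃ (c : Coord B) (φ : setSystemAut B ≃* fixPts M24 [none]), ∀ g x,
      (φ g : Equiv.Perm GolayPt) (c.e (some x)) = c.e (some ((g : Equiv.Perm α) x)) := by
  obtain ⟨c⟩ := exists_coord hα hB
  set e := c.e with he
  let L : Equiv.Perm α → Equiv.Perm (Option α) := fun g => Equiv.optionCongr g
  have hLb : ∀ (g : Equiv.Perm α) (b : Finset α),
      (Finset.insertNone b).map (L g).toEmbedding = Finset.insertNone (g • b) := fun g b => by
    ext o
    rw [Finset.mem_map_equiv]
    cases o with
    | none => simp [L, show (Equiv.optionCongr g).symm none = none from rfl]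
    | some x => simp [L, ← Finset.inv_smul_mem_iff, Equiv.Perm.smul_def, Equiv.Perm.inv_def,
        show (Equiv.optionCongr g).symm (some x) = some (g.symm x) from rfl]
  have hsm : ∀ (σ : Equiv.Perm (Option α)) (s : Finset (Option α)),
      e.permCongr σ • s.map e.toEmbedding = (s.map σ.toEmbedding).map e.toEmbedding := fun σ s => by
    simp only [Finset.map_eq_image, Finset.smul_finset_def, Finset.image_image]
    exact Finset.image_congr fun x _ => by simp [Equiv.permCongr_apply]
  have hiff : ∀ g : Equiv.Perm α, e.permCongr (L g) ∈ M24 ↔ g ∈ setSystemAut B := by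
    intro g
    constructor
    · intro h
      rw [MulAction.mem_stabilizer_set]
      intro b
      rw [c.mem_block, ← hLb, ← hsm, M24_smul_mem_octads h, ← c.mem_block]
    · intro h
      rw [MulAction.mem_stabilizer_set']
      intro t ht
      · obtain ⟨s, rfl⟩ : ∃ s : Finset (Option α), s.map e.toEmbedding = t :=
          ⟨t.map e.symm.toEmbedding, by ext p; simp [Finset.mem_map_equiv]⟩
        rw [hsm, ← c.mem_supports]
        refine family_map _ ?_ ((c.mem_supports s).2 ht)
        rintro _ ⟨b, hb, rfl⟩
        exact ⟨g • b, (MulAction.mem_stabilizer_set.1 h b).2 hb, (hLb g b).symm⟩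
      · exact Set.toFinite _
  have hnone : ∀ g : Equiv.Perm α, e.permCongr (L g) none = none := fun g => by
    have h0 : c.e.symm none = none := by rw [Equiv.symm_apply_eq, c.none_eq]
    simp [Equiv.permCongr_apply, L, he, c.none_eq, h0]
  have hinvn : ∀ h ∈ fixPts M24 [none], e.symm.permCongr h none = none := fun h hh => by
    simp [Equiv.permCongr_apply, he, c.none_eq, (mem_fixPts.1 hh).2 none (by simp),
      Equiv.symm_apply_eq]
  have hLR : ∀ h ∈ fixPts M24 [none],
      L (Equiv.removeNone (e.symm.permCongr h)) = e.symm.permCongr h := by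
    intro h hh
    ext1 o
    cases o with
    | none => simp [L, hinvn h hh]
    | some x =>
      simp only [L, Equiv.optionCongr_apply, Option.map_some]
      exact Equiv.removeNone_some _ (Option.ne_none_iff_exists'.1 fun hx =>
        Option.some_ne_none x ((e.symm.permCongr h).injective (hx.trans (hinvn h hh).symm)))
  refine ⟨c,
    { toFun := fun g => ⟨e.permCongr (L g), mem_fixPts.2 ⟨(hiff g).2 g.2, fun x hx => by
        rw [List.mem_singleton.1 hx]; exact hnone g⟩⟩
      invFun := fun h => ⟨Equiv.removeNone (e.symm.permCongr h), (hiff _).1 (by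
        have : e.permCongr (e.symm.permCongr (h : Equiv.Perm GolayPt)) = h := by
          ext p; simp [Equiv.permCongr_apply]
        rw [hLR _ h.2, this]; exact (mem_fixPts.1 h.2).1)⟩
      left_inv := fun g => Subtype.ext (by
        have : e.symm.permCongr (e.permCongr (L g)) = L g := by
          ext1 p; simp [Equiv.permCongr_apply]
        show Equiv.removeNone (e.symm.permCongr (e.permCongr (L g))) = _
        rw [this]; exact Equiv.removeNone_optionCongr _)
      right_inv := fun h => Subtype.ext (by
        show e.permCongr (L (Equiv.removeNone (e.symm.permCongr h))) = _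
        rw [hLR _ h.2]; ext p; simp [Equiv.permCongr_apply])
      map_mul' := fun g h => Subtype.ext (Equiv.ext fun x => by
        simp [Equiv.permCongr_apply, L, Option.map_map]) },
    fun g x => by simp [Equiv.permCongr_apply, L, ← he]⟩

theorem aut_isM23 (hα : Fintype.card α = 23) (hB : IsSteinerSystem 4 7 B) :
    IsM23 (setSystemAut B) ∧ MulAction.IsMultiplyPretransitive (setSystemAut B) α 4 := by
  obtain ⟨c, φ, hφ⟩ := exists_aut_equiv hB hα
  have hs := isSimple_fix1
  refine ⟨⟨MulEquiv.isSimpleGroup φ, by rw [Nat.card_congr φ.toEquiv, card_fix1]⟩, ?_⟩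
  rw [MulAction.isMultiplyPretransitive_iff]
  intro x y
  have hnd : ∀ z : Fin 4 ↪ α, ((none : GolayPt) :: List.ofFn fun i => c.e (some (z i))).Nodup := by
    intro z
    rw [List.nodup_cons, List.nodup_ofFn]
    refine ⟨fun h => ?_, c.e.injective.comp ((Option.some_injective α).comp z.injective)⟩
    obtain ⟨i, hi⟩ := List.mem_ofFn.1 h
    exact Option.some_ne_none _ (c.e.injective (hi.trans c.none_eq.symm))
  obtain ⟨g, hg, hgm⟩ := exists_map_M24 (hnd x) (hnd y) (by simp) (by simp)
  rw [List.map_cons, List.cons_eq_cons, List.map_ofFn] at hgm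
  have hgf : g ∈ fixPts M24 [none] := mem_fixPts.2 ⟨hg, fun z hz => by
    rw [List.mem_singleton.1 hz]; exact hgm.1⟩
  refine ⟨φ.symm ⟨g, hgf⟩, DFunLike.ext _ _ fun i => Option.some_injective α (c.e.injective ?_)⟩
  show c.e (some ((φ.symm ⟨g, hgf⟩ : Equiv.Perm α) (x i))) = _
  rw [← hφ, MulEquiv.apply_symm_apply]
  exact congrFun (List.ofFn_inj.1 hgm.2) i

end LiftOne

end CfsgLib.Golay.Derived
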