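import Cfsg.Agent.Lib.Golay.Derived

/-!
Steiner systems S(3,6,22): extension to a Golay code, uniqueness, automorphism group.
-/

set_option autoImplicit false

namespace CfsgLib.Golay.DerivedPair

open Cfsg CfsgLib.Sporadic.AbstractGolay CfsgLib.Golay.Unique CfsgLib.Golay.Derived
open scoped symmDiff Pointwise

variable {α : Type*} [Fintype α] [DecidableEq α]

/-- A block with the two new points adjoined. -/
def lift (b : Finset α) : Finset (Option (Option α)) := Finset.insertNone (Finset.insertNone b)

/-- The two new points. -/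
def pair (α : Type*) [DecidableEq α] : Finset (Option (Option α)) := {none, some none}

/-- The exchange of the two new points. -/
def swp (α : Type*) [DecidableEq α] : Equiv.Perm (Option (Option α)) := Equiv.swap none (some none)

omit [Fintype α] [DecidableEq α] in
theorem lift_card (b : Finset α) : (lift b).card = b.card + 2 := by
  rw [lift, Finset.card_insertNone, Finset.card_insertNone]

omit [Fintype α] in
theorem card_inter_lift (x : Finset (Option (Option α))) (b : Finset α) :
    (x ∩ lift b).card = (Finset.eraseNone (Finset.eraseNone x) ∩ b).card +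
      ((if some none ∈ x then 1 else 0) + if none ∈ x then 1 else 0) := by
  rw [lift, card_inter_insertNone, card_inter_insertNone]
  simp only [Finset.mem_eraseNone, add_assoc]

omit [Fintype α] in
theorem card_erase_two (x : Finset (Option (Option α))) :
    (Finset.eraseNone (Finset.eraseNone x)).card +
      ((if some none ∈ x then 1 else 0) + if none ∈ x then 1 else 0) = x.card := by
  rw [← add_assoc]
  have := card_eraseNone_add (Finset.eraseNone x)
  have h2 := card_eraseNone_add x
  simp only [Finset.mem_eraseNone] at this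
  omega

omit [Fintype α] [DecidableEq α] in
theorem eq_of_parts {x z : Finset (Option (Option α))}
    (h0 : none ∈ x ↔ none ∈ z) (h1 : some none ∈ x ↔ some none ∈ z)
    (h2 : Finset.eraseNone (Finset.eraseNone x) = Finset.eraseNone (Finset.eraseNone z)) : x = z := by
  ext o
  match o with
  | none => exact h0
  | some none => exact h1
  | some (some a) =>
    have := Finset.ext_iff.1 h2 a
    simpa only [Finset.mem_eraseNone] using this

variable {B : Set (Finset α)}

set_option maxHeartbeats 1000000 in
/-- The small sets with intersections of constant parity with all blocks. -/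
theorem small_3_6_22 (hα : Fintype.card α = 22) (hB : IsSteinerSystem 3 6 B) {y : Finset α}
    {r : ℕ} (hr : ∀ b ∈ B, (y ∩ b).card % 2 = r) (hy : y.card ≤ 7 - r) :
    r = 0 ∧ (y = ∅ ∨ y ∈ B) := by
  obtain ⟨F, hF⟩ := Steiner.exists_finset B
  rw [← hF] at hB hr ⊢
  have hB' : IsSteinerSystem 3 6 (F : Set (Finset α)) := hB
  obtain ⟨c, hc⟩ : F.Nonempty := by
    obtain ⟨s, -, hs⟩ := Finset.exists_subset_card_eq (s := (Finset.univ : Finset α)) (n := 3)
      (by rw [Finset.card_univ, hα]; omega)
    obtain ⟨b, ⟨hb, -⟩, -⟩ := hB'.2 s hs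
    exact ⟨b, Finset.mem_coe.1 hb⟩
  have hr2 : r = 0 ∨ r = 1 := by have := hr c (Finset.mem_coe.2 hc); omega
  by_contra hcon
  rw [not_and_or, not_or] at hcon
  have hpar : ∀ j, j % 2 ≠ r → Steiner.meetNum F y j = 0 := fun j hj =>
    Steiner.meetNum_eq_zero fun c hc he => hj (he ▸ hr c (Finset.mem_coe.2 hc))
  have hgt : ∀ j, y.card < j → Steiner.meetNum F y j = 0 := fun j hj => Steiner.meetNum_gt hj
  have hsix : y.card = 6 → r = 0 → Steiner.meetNum F y 6 = 0 := fun h6 h0 => by
    refine Steiner.meetNum_eq_zero fun b hb he => ?_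
    rcases hcon with h | ⟨-, h⟩
    · exact h h0
    · have hby : y ∩ b = y := Finset.eq_of_subset_of_card_le Finset.inter_subset_left (by omega)
      have hyb : y = b := Finset.eq_of_subset_of_card_le (Finset.inter_eq_left.1 hby)
        (by rw [hB'.1 b (Finset.mem_coe.2 hb), h6])
      exact h (hyb ▸ Finset.mem_coe.2 hb)
  have hpos : r = 1 ∨ 0 < y.card := by
    rcases hcon with h | ⟨h, -⟩
    · exact Or.inl (by omega)
    · exact Or.inr (Finset.card_pos.2 (Finset.nonempty_iff_ne_empty.2 h))
  have m0 := Steiner.setMoment hB' y (i := 0) (by omega)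
  have m1 := Steiner.setMoment hB' y (i := 1) (by omega)
  have m2 := Steiner.setMoment hB' y (i := 2) (by omega)
  have m3 := Steiner.setMoment hB' y (i := 3) (by omega)
  rw [hα] at m0 m1 m2 m3
  simp only [Finset.sum_range_succ, Finset.sum_range_zero] at m0 m1 m2 m3
  norm_num [Nat.choose] at m0 m1 m2 m3
  have p0 := hpar 0; have p1 := hpar 1; have p2 := hpar 2; have p3 := hpar 3
  have p4 := hpar 4; have p5 := hpar 5; have p6 := hpar 6
  have g1 := hgt 1; have g2 := hgt 2; have g3 := hgt 3
  have g4 := hgt 4; have g5 := hgt 5; have g6 := hgt 6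
  obtain ⟨n, hn⟩ : ∃ n, y.card = n := ⟨_, rfl⟩
  simp only [hn] at m1 m2 m3 g1 g2 g3 g4 g5 g6 hsix hpos hy
  have : n ≤ 7 := by omega
  clear hr hpar hgt hB hB' hcon hc
  rcases hr2 with rfl | rfl <;> interval_cases n <;> norm_num [Nat.choose] at * <;> omega

/-- The code spanned by the extended blocks. -/
abbrev code (B : Set (Finset α)) : Submodule (ZMod 2) (Option (Option α) → ZMod 2) :=
  blockSpan (lift '' B)

omit [Fintype α] in
theorem even_lift (hα : ∀ b ∈ B, ∀ c ∈ B, Even (b ∩ c).card) {b c : Finset α} (hb : b ∈ B)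
    (hc : c ∈ B) : Even (lift b ∩ lift c).card := by
  rw [card_inter_lift]
  simp only [lift, Finset.none_mem_insertNone, Finset.some_mem_insertNone,
    Finset.eraseNone_insertNone, if_true]
  exact (hα b hb c hc).add ⟨1, rfl⟩

theorem even_blocks (hα : Fintype.card α = 22) (hB : IsSteinerSystem 3 6 B) :
    ∀ b ∈ B, ∀ c ∈ B, Even (b ∩ c).card := by
  intro b hb c hc
  rcases eq_or_ne b c with rfl | hne
  · rw [Finset.inter_self, hB.1 b hb]; decide
  · rcases Steiner.inter_3_6_22 hα hB hb hc hne with h | h <;> rw [h] <;> decide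

theorem dot_word (s t : Finset α) : ∑ i, wordOf s i * wordOf t i = ((s ∩ t).card : ZMod 2) := by
  rw [dot_eq_card_inter, supp_wordOf, supp_wordOf]

theorem dual_mem_lift {x : Option (Option α) → ZMod 2} :
    x ∈ dualCode (code B) ↔ ∀ b ∈ B, Even (supp x ∩ lift b).card := by
  rw [mem_dualCode]
  constructor
  · intro h b hb
    have := h _ (Submodule.subset_span ⟨_, ⟨b, hb, rfl⟩, rfl⟩)
    rwa [dot_eq_card_inter, supp_wordOf, ZMod.natCast_eq_zero_iff_even] at this
  · intro h w hw
    induction hw using Submodule.span_induction with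
    | mem u hu =>
      obtain ⟨_, ⟨b, hb, rfl⟩, rfl⟩ := hu
      rw [dot_eq_card_inter, supp_wordOf, ZMod.natCast_eq_zero_iff_even]
      exact h b hb
    | zero => simp
    | add u v _ _ ihu ihv => simp [mul_add, Finset.sum_add_distrib, ihu, ihv]
    | smul k u _ ih => simp [mul_left_comm, ← Finset.mul_sum, ih]

theorem code_le_dual (hα : Fintype.card α = 22) (hB : IsSteinerSystem 3 6 B) :
    code B ≤ dualCode (code B) := by
  refine Submodule.span_le.2 ?_
  rintro _ ⟨_, ⟨b, hb, rfl⟩, rfl⟩
  rw [SetLike.mem_coe, dual_mem_lift]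
  intro c hc
  rw [supp_wordOf]
  exact even_lift (even_blocks hα hB) hb hc

theorem code_doublyEven (hα : Fintype.card α = 22) (hB : IsSteinerSystem 3 6 B)
    {w : Option (Option α) → ZMod 2} (hw : w ∈ code B) : 4 ∣ (supp w).card := by
  induction hw using Submodule.span_induction with
  | mem u hu =>
    obtain ⟨_, ⟨b, hb, rfl⟩, rfl⟩ := hu
    rw [supp_wordOf, lift_card, hB.1 b hb]
    norm_num
  | zero => simp [supp_zero]
  | add u v hu hv ihu ihv =>
    have h := mem_dualCode.1 (code_le_dual hα hB hu) v hv
    rw [dot_eq_card_inter, ZMod.natCast_eq_zero_iff_even] at h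
    obtain ⟨k, hk⟩ := h
    obtain ⟨p, hp⟩ := ihu
    obtain ⟨q, hq⟩ := ihv
    have hadd := card_symmDiff_add (supp u) (supp v)
    rw [supp_add]
    omega
  | smul k u _ ih =>
    rcases (show ∀ a : ZMod 2, a = 0 ∨ a = 1 by decide) k with rfl | rfl <;> simp [supp_zero, ih]

/-- The word of the two new points. -/
abbrev pairWord (α : Type*) [Fintype α] [DecidableEq α] : Option (Option α) → ZMod 2 :=
  wordOf (pair α)

omit [Fintype α] in
theorem pair_card : (pair α).card = 2 := Finset.card_pair (by simp)

omit [Fintype α] in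
theorem pair_inter_lift (b : Finset α) : (pair α ∩ lift b).card = 2 := by
  rw [Finset.inter_eq_left.2 (by intro o ho; simp [pair, lift] at ho ⊢; rcases ho with rfl | rfl <;> simp),
    pair_card]

theorem pairWord_mem_dual : pairWord α ∈ dualCode (code B) :=
  dual_mem_lift.2 fun b _ => by rw [supp_wordOf, pair_inter_lift]; decide

theorem pairWord_not_mem (hα : Fintype.card α = 22) (hB : IsSteinerSystem 3 6 B) :
    pairWord α ∉ code B := fun h => by
  have := code_doublyEven hα hB h
  rw [supp_wordOf, pair_card] at this
  omega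

/-- A subspace of the orthogonal that contains the code and misses the pair has no small
nonzero word. -/
theorem min_weight (hα : Fintype.card α = 22) (hB : IsSteinerSystem 3 6 B)
    {M : Submodule (ZMod 2) (Option (Option α) → ZMod 2)} (hM : M ≤ dualCode (code B))
    (hCM : code B ≤ M) (hP : pairWord α ∉ M) {w : Option (Option α) → ZMod 2} (hw : w ∈ M)
    (hne : w ≠ 0) : 8 ≤ hammingNorm w := by
  rw [← card_supp]
  by_contra hcon
  push Not at hcon
  set x := supp w with hx
  set y := Finset.eraseNone (Finset.eraseNone x) with hy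
  set e := (if some none ∈ x then 1 else 0) + (if none ∈ x then 1 else 0 : ℕ) with he
  have hc : y.card + e = x.card := card_erase_two x
  have he2 : e ≤ 2 := by rw [he]; split_ifs <;> omega
  obtain ⟨hr, hcase⟩ := small_3_6_22 hα hB (y := y) (r := e % 2) (fun b hb => by
    have := dual_mem_lift.1 (hM hw) b hb
    rw [card_inter_lift, Nat.even_iff, ← hy, ← he] at this
    omega) (by omega)
  rcases hcase with hy0 | hyB
  · have hxne : x ≠ ∅ := fun h => hne (supp_injective (h.trans supp_zero.symm))
    have hpos := Finset.card_pos.2 (Finset.nonempty_iff_ne_empty.2 hxne)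
    rw [hy0, Finset.card_empty] at hc
    have he' : e = 2 := by omega
    have h12 : some none ∈ x ∧ none ∈ x := by
      rw [he] at he'; split_ifs at he' <;> simp_all
    have hxP : x = pair α := eq_of_parts (by simp [pair, h12.2]) (by simp [pair, h12.1]) (by
      rw [← hy, hy0]; ext a; simp [pair])
    exact hP (by rw [pairWord, ← hxP, hx, wordOf_supp]; exact hw)
  · have hy6 := hB.1 y hyB
    have he0 : e = 0 := by omega
    have h12 : some none ∉ x ∧ none ∉ x := by
      rw [he] at he0; split_ifs at he0 <;> simp_all
    have hxP : pairWord α = w + wordOf (lift y) := by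
      refine supp_injective ?_
      rw [supp_add, supp_wordOf, supp_wordOf, ← hx]
      refine eq_of_parts ?_ ?_ ?_
      · simp [pair, lift, Finset.mem_symmDiff, h12.2]
      · simp [pair, lift, Finset.mem_symmDiff, h12.1]
      · ext a
        simp only [pair, lift, Finset.mem_eraseNone, Finset.mem_symmDiff, Finset.some_mem_insertNone]
        simp [hy]
    exact hP (hxP ▸ M.add_mem hw (hCM (Submodule.subset_span ⟨_, ⟨y, hyB, rfl⟩, rfl⟩)))

omit [DecidableEq α] in
theorem card_two (hα : Fintype.card α = 22) : Fintype.card (Option (Option α)) = 24 := by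
  rw [Fintype.card_option, Fintype.card_option, hα]

theorem wordOf_univ_dot (v : Option (Option α) → ZMod 2) :
    ∑ i, v i * wordOf Finset.univ i = ∑ i, v i * v i := by
  refine Finset.sum_congr rfl fun i _ => ?_
  simp only [wordOf, Finset.mem_univ, if_true]
  generalize v i = a
  revert a
  decide

/-- The two Golay extensions of the code differ by the exchange of the new points. -/
theorem exists_extension (hα : Fintype.card α = 22) (hB : IsSteinerSystem 3 6 B) :
    ∃ G : Submodule (ZMod 2) (Option (Option α) → ZMod 2), IsGolay (family G) ∧ code B ≤ G ∧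
      (∀ σ : Equiv.Perm (Option (Option α)), (∀ o ∈ lift '' B, o.map σ.toEmbedding ∈ lift '' B) →
        σ none = none → σ (some none) = some none →
        (∀ s ∈ family G, s.map σ.toEmbedding ∈ family G) ∨
        (∀ s ∈ family G, (s.map σ.toEmbedding).map (swp α).toEmbedding ∈ family G)) := by
  set C := code B with hC
  set D := dualCode C with hD
  set P := pairWord α with hP
  have hsum := finrank_add_dualCode C
  rw [card_two hα] at hsum
  rw [← hD] at hsum
  have hCD : C ≤ D := code_le_dual hα hB
  have hPD : P ∈ D := pairWord_mem_dual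
  have hPC : P ∉ C := pairWord_not_mem hα hB
  -- a word of the orthogonal meeting the pair once
  obtain ⟨h, hhD, hhP⟩ : ∃ h ∈ D, ∑ i, P i * h i = 1 := by
    by_contra hcon
    push Not at hcon
    have hle : C ≤ dualCode D := fun c hc => mem_dualCode.2 fun w hw => by
      rw [← mem_dualCode.1 hw c hc]
      exact Finset.sum_congr rfl fun i _ => mul_comm _ _
    have hsum2 := finrank_add_dualCode D
    rw [card_two hα] at hsum2
    have heq := Submodule.eq_of_le_of_finrank_le hle (by omega)
    refine hPC (heq ▸ mem_dualCode.2 fun w hw => ?_)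
    exact ((show ∀ a : ZMod 2, a = 0 ∨ a = 1 by decide) _).resolve_right (hcon w hw)
  have hPC0 : ∀ c ∈ C, ∑ i, P i * c i = 0 := fun c hc => mem_dualCode.1 hPD c hc
  have hPP : ∑ i, P i * P i = 0 := by
    rw [hP, pairWord, dot_eq_card_inter, supp_wordOf, Finset.inter_self, pair_card]; decide
  -- the span of the code and a word meeting the pair once misses the pair
  have hmiss : ∀ k, ∑ i, P i * k i = 1 → P ∉ C ⊔ Submodule.span (ZMod 2) {k} := by
    intro k hk hmem
    obtain ⟨c, hc, z, hz, hcz⟩ := Submodule.mem_sup.1 hmem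
    obtain ⟨a, rfl⟩ := Submodule.mem_span_singleton.1 hz
    have : ∑ i, P i * (c + a • k) i = a := by
      simp [mul_add, Finset.sum_add_distrib, hPC0 c hc, mul_left_comm, ← Finset.mul_sum, hk]
    rw [hcz, hPP] at this
    rw [← this, zero_smul, add_zero] at hcz
    exact hPC (hcz ▸ hc)
  -- the dimension of the code
  have hc11 : Module.finrank (ZMod 2) C = 11 := by
    have h1 : Module.finrank (ZMod 2) C < Module.finrank (ZMod 2) D :=
      Submodule.finrank_lt_finrank_of_lt (lt_of_le_of_ne hCD fun e => hPC (e ▸ hPD))
    set T := C ⊔ Submodule.span (ZMod 2) {h} with hT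
    have hTc : Module.finrank (ZMod 2) T ≤ Module.finrank (ZMod 2) C + 1 :=
      (Submodule.finrank_add_le_finrank_add_finrank _ _).trans
        (Nat.add_le_add_left (finrank_span_le_card _ |>.trans (by simp)) _)
    have hsum3 := finrank_add_dualCode T
    rw [card_two hα] at hsum3
    have h12 := finrank_le_twelve (card_two hα) (dualCode T) fun w hw hne =>
      min_weight hα hB (fun u hu => mem_dualCode.2 fun v hv =>
          mem_dualCode.1 hu v (hT ▸ Submodule.mem_sup_left hv))
        (fun c hc => mem_dualCode.2 fun v hv => by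
          obtain ⟨c', hc', z, hz, rfl⟩ := Submodule.mem_sup.1 hv
          obtain ⟨a, rfl⟩ := Submodule.mem_span_singleton.1 hz
          have := mem_dualCode.1 hhD c hc
          simp_rw [mul_comm (h _)] at this
          simp [mul_add, Finset.sum_add_distrib, mem_dualCode.1 (hCD hc) c' hc', mul_left_comm,
            ← Finset.mul_sum, this])
        (fun hmem => by
          have := mem_dualCode.1 hmem h (hT ▸ Submodule.mem_sup_right (Submodule.mem_span_singleton_self h))
          rw [hhP] at this
          exact one_ne_zero this) hw hne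
    omega
  have hD13 : Module.finrank (ZMod 2) D = 13 := by omega
  -- the orthogonal is even
  have heven : ∀ v ∈ D, ∑ i, v i * v i = 0 := by
    intro v hv
    rw [← wordOf_univ_dot]
    set U := wordOf (Finset.univ : Finset (Option (Option α))) with hU
    by_cases hUC : U ∈ C
    · exact mem_dualCode.1 hv U hUC
    have hUD : U ∈ D := dual_mem_lift.2 fun b hb => by
      rw [supp_wordOf, Finset.univ_inter, lift_card, hB.1 b hb]; decide
    have hlt1 : C < C ⊔ Submodule.span (ZMod 2) {P} :=
      lt_of_le_of_ne le_sup_left fun e => hPC (e ▸ Submodule.mem_sup_right (Submodule.mem_span_singleton_self P))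
    have hlt2 : C ⊔ Submodule.span (ZMod 2) {P} <
        C ⊔ Submodule.span (ZMod 2) {P} ⊔ Submodule.span (ZMod 2) {U} := by
      refine lt_of_le_of_ne le_sup_left fun e => ?_
      have hmem : U ∈ C ⊔ Submodule.span (ZMod 2) {P} :=
        e ▸ Submodule.mem_sup_right (Submodule.mem_span_singleton_self U)
      obtain ⟨c, hc, z, hz, hcz⟩ := Submodule.mem_sup.1 hmem
      obtain ⟨a, rfl⟩ := Submodule.mem_span_singleton.1 hz
      rcases (show ∀ a : ZMod 2, a = 0 ∨ a = 1 by decide) a with rfl | rfl
      · rw [zero_smul, add_zero] at hcz; exact hUC (hcz ▸ hc)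
      · rw [one_smul] at hcz
        have h4 := code_doublyEven hα hB hc
        have hcU : c = U + P := by rw [← hcz, add_assoc, ZModModule.add_self, add_zero]
        have hadd := card_symmDiff_add (supp U) (supp P)
        rw [← supp_add, ← hcU, supp_wordOf, supp_wordOf, Finset.univ_inter, pair_card,
          Finset.card_univ, card_two hα] at hadd
        omega
    have hle : C ⊔ Submodule.span (ZMod 2) {P} ⊔ Submodule.span (ZMod 2) {U} ≤ D := by
      simp only [sup_le_iff, Submodule.span_singleton_le_iff_mem]
      exact ⟨⟨hCD, hPD⟩, hUD⟩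
    have heq := Submodule.eq_of_le_of_finrank_le hle (by
      have := Submodule.finrank_lt_finrank_of_lt hlt1
      have := Submodule.finrank_lt_finrank_of_lt hlt2
      omega)
    have hort : D ≤ dualCode (Submodule.span (ZMod 2) {U}) := by
      rw [← heq]
      simp only [sup_le_iff, Submodule.span_singleton_le_iff_mem]
      have key : ∀ w : Option (Option α) → ZMod 2, (∑ i, w i * U i = 0) →
          w ∈ dualCode (Submodule.span (ZMod 2) {U}) := fun w hw => mem_dualCode.2 fun z hz => by
        obtain ⟨a, rfl⟩ := Submodule.mem_span_singleton.1 hz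
        simp [mul_left_comm, ← Finset.mul_sum, hw]
      refine ⟨⟨fun c hc => key c ?_, key P ?_⟩, key U ?_⟩
      · rw [← mem_dualCode.1 hUD c hc]
        exact Finset.sum_congr rfl fun i _ => mul_comm _ _
      · rw [dot_eq_card_inter, supp_wordOf, supp_wordOf, Finset.inter_univ, pair_card]; decide
      · rw [dot_eq_card_inter, supp_wordOf, Finset.inter_self, Finset.card_univ, card_two hα]; decide
    exact mem_dualCode.1 (hort hv) U (Submodule.mem_span_singleton_self U)
  -- a word meeting the pair once gives a Golay code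
  have hgolay : ∀ k ∈ D, ∑ i, P i * k i = 1 →
      Module.finrank (ZMod 2) (C ⊔ Submodule.span (ZMod 2) {k} : Submodule (ZMod 2) _) = 12 ∧
      C ⊔ Submodule.span (ZMod 2) {k} ≤ D ∧
      ∀ u ∈ C ⊔ Submodule.span (ZMod 2) {k}, ∀ v ∈ C ⊔ Submodule.span (ZMod 2) {k},
        ∑ i, u i * v i = 0 := by
    intro k hk hkP
    refine ⟨le_antisymm ?_ ?_, sup_le hCD (by simpa using hk), ?_⟩
    · have := Submodule.finrank_add_le_finrank_add_finrank C (Submodule.span (ZMod 2) {k})
      have : Module.finrank (ZMod 2) (Submodule.span (ZMod 2) {k} : Submodule (ZMod 2) _) ≤ 1 := by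
        simpa using finrank_span_le_card (R := ZMod 2) ({k} : Set (Option (Option α) → ZMod 2))
      omega
    · have := Submodule.finrank_lt_finrank_of_lt (show C < C ⊔ Submodule.span (ZMod 2) {k} from
        lt_of_le_of_ne le_sup_left fun e => by
          have hkC : k ∈ C := e ▸ Submodule.mem_sup_right (Submodule.mem_span_singleton_self k)
          rw [hPC0 k hkC] at hkP
          exact zero_ne_one hkP)
      omega
    · intro u hu v hv
      obtain ⟨c, hc, z, hz, rfl⟩ := Submodule.mem_sup.1 hu
      obtain ⟨a, rfl⟩ := Submodule.mem_span_singleton.1 hz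
      obtain ⟨c', hc', z', hz', rfl⟩ := Submodule.mem_sup.1 hv
      obtain ⟨a', rfl⟩ := Submodule.mem_span_singleton.1 hz'
      have h1 := mem_dualCode.1 (hCD hc) c' hc'
      have h2 : ∑ i, c i * k i = 0 := by
        rw [← mem_dualCode.1 hk c hc]; exact Finset.sum_congr rfl fun i _ => mul_comm _ _
      have h3 := mem_dualCode.1 hk c' hc'
      have h4 := heven k hk
      simp [mul_add, add_mul, Finset.sum_add_distrib, mul_left_comm, mul_assoc, ← Finset.mul_sum,
        h1, h2, h3, h4]
  set G := C ⊔ Submodule.span (ZMod 2) {h} with hG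
  obtain ⟨hG12, hGD, hGo⟩ := hgolay h hhD hhP
  refine ⟨G, isGolay_family (card_two hα) G hG12 hGo fun w hw hne =>
    min_weight hα hB hGD le_sup_left (hmiss h hhP) hw hne, le_sup_left, fun σ hσ hσ0 hσ1 => ?_⟩
  let T : Equiv.Perm (Option (Option α)) →
      (Option (Option α) → ZMod 2) →ₗ[ZMod 2] (Option (Option α) → ZMod 2) :=
    fun τ => LinearMap.funLeft (ZMod 2) (ZMod 2) τ.symm
  have hTw : ∀ (τ : Equiv.Perm (Option (Option α))) (u : Finset (Option (Option α))),
      T τ (wordOf u) = wordOf (u.map τ.toEmbedding) := fun τ u => by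
    funext i; simp [T, LinearMap.funLeft_apply, wordOf, Finset.mem_map_equiv]
  have hfam : ∀ (τ : Equiv.Perm (Option (Option α))), (∀ v ∈ G, T τ v ∈ G) →
      ∀ s ∈ family G, s.map τ.toEmbedding ∈ family G := fun τ hτ s hs => by
    rw [mem_family, ← hTw]; exact hτ _ (mem_family.1 hs)
  have hTC : ∀ v ∈ C, T σ v ∈ C := fun v hv => by
    have hle : C.map (T σ) ≤ C := by
      rw [hC, code, blockSpan, Submodule.map_span, Submodule.span_le]
      rintro _ ⟨_, ⟨o, ho, rfl⟩, rfl⟩
      rw [hTw]
      exact Submodule.subset_span ⟨_, hσ o ho, rfl⟩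
    exact hle (Submodule.mem_map_of_mem hv)
  have hTdot : ∀ (τ : Equiv.Perm (Option (Option α))) (u v : Option (Option α) → ZMod 2),
      ∑ i, T τ u i * T τ v i = ∑ i, u i * v i := fun τ u v =>
    Fintype.sum_equiv τ.symm _ _ fun i => rfl
  have hsP : ∀ v, T (swp α) v = v + (∑ i, P i * v i) • P := by
    intro v
    have hPv : ∑ i, P i * v i = v none + v (some none) := by
      rw [hP, pairWord, ← Finset.sum_subset (Finset.subset_univ (pair α))
        (fun i _ hi => by simp [wordOf, hi]), pair, Finset.sum_pair (by simp)]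
      simp [wordOf]
    funext i
    simp only [T, LinearMap.funLeft_apply, swp, Equiv.symm_swap, Pi.add_apply, Pi.smul_apply,
      smul_eq_mul, hPv]
    match i with
    | none =>
      simp only [Equiv.swap_apply_left, hP, pairWord, wordOf, pair, Finset.mem_insert, true_or,
        if_true, mul_one]
      generalize v none = a; generalize v (some none) = b; revert a b; decide
    | some none =>
      simp only [Equiv.swap_apply_right, hP, pairWord, wordOf, pair, Finset.mem_insert,
        Finset.mem_singleton, or_true, if_true, mul_one]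
      generalize v none = a; generalize v (some none) = b; revert a b; decide
    | some (some a) =>
      rw [Equiv.swap_apply_of_ne_of_ne (by simp) (by simp)]
      simp [hP, pairWord, wordOf, pair]
  have hTh : T σ h ∈ D := mem_dualCode.2 fun c hc => by
    -- `T σ` maps the code onto itself
    have hsur : C.map (T σ) = C := Submodule.eq_of_le_of_finrank_le
      (fun u ⟨w, hw, e⟩ => e ▸ hTC w hw) (le_of_eq (Submodule.equivMapOfInjective (T σ)
        (LinearMap.funLeft_injective_of_surjective _ _ _ σ.symm.surjective) C).finrank_eq)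
    obtain ⟨c', hc', rfl⟩ : c ∈ C.map (T σ) := hsur.symm ▸ hc
    rw [hTdot]
    exact mem_dualCode.1 hhD c' hc'
  have hspan : ∀ (τ : Equiv.Perm (Option (Option α))), (∀ v ∈ C, T τ v ∈ G) → T τ h ∈ G →
      ∀ v ∈ G, T τ v ∈ G := by
    intro τ h1 h2 v hv
    obtain ⟨c, hc, z, hz, rfl⟩ := Submodule.mem_sup.1 hv
    obtain ⟨a, rfl⟩ := Submodule.mem_span_singleton.1 hz
    rw [map_add, map_smul]
    exact G.add_mem (h1 c hc) (G.smul_mem a h2)
  -- the orthogonal is `G` and its translate by the pair
  have hD2 : G ⊔ Submodule.span (ZMod 2) {P} = D := by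
    refine Submodule.eq_of_le_of_finrank_le (sup_le hGD (by simpa using hPD)) ?_
    have := Submodule.finrank_lt_finrank_of_lt (show G < G ⊔ Submodule.span (ZMod 2) {P} from
      lt_of_le_of_ne le_sup_left fun e =>
        hmiss h hhP (show P ∈ G from e ▸ Submodule.mem_sup_right (Submodule.mem_span_singleton_self P)))
    have : Module.finrank (ZMod 2) G = 12 := hG12
    omega
  obtain ⟨g, hg, z, hz, hgz⟩ := Submodule.mem_sup.1 (hD2.symm ▸ hTh : T σ h ∈ G ⊔ _)
  obtain ⟨a, rfl⟩ := Submodule.mem_span_singleton.1 hz
  rcases (show ∀ a : ZMod 2, a = 0 ∨ a = 1 by decide) a with rfl | rfl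
  · rw [zero_smul, add_zero] at hgz
    exact Or.inl (hfam σ (hspan σ (fun v hv => le_sup_left (a := C) (hTC v hv)) (hgz ▸ hg)))
  · refine Or.inr fun s hs => ?_
    have hσσ : (s.map σ.toEmbedding).map (swp α).toEmbedding =
        s.map (σ.trans (swp α)).toEmbedding := by rw [Finset.map_map]; rfl
    rw [hσσ]
    refine hfam _ (hspan _ (fun v hv => ?_) ?_) s hs
    · show T (swp α) (T σ v) ∈ G
      rw [hsP, hPC0 _ (hTC v hv), zero_smul, add_zero]
      exact le_sup_left (a := C) (hTC v hv)
    · show T (swp α) (T σ h) ∈ G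
      have hodd : ∑ i, P i * T σ h i = 1 := by
        have hfix : T σ P = P := by
          rw [hP, pairWord, hTw]
          congr 1
          simp [pair, Finset.map_insert, Finset.map_singleton, hσ0, hσ1]
        conv_lhs => rw [← hfix]
        rw [hTdot, hhP]
      rw [hsP, hodd, one_smul, ← hgz, one_smul, add_assoc, ZModModule.add_self, add_zero]
      exact hg

section Coord

omit [Fintype α] [DecidableEq α] in
/-- A bijection between the doubly extended point sets that respects the old points carries
extended sets to extended sets. -/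
theorem map_lift {β : Type*} [DecidableEq β] (f : Option (Option α) ≃ Option (Option β))
    (r : α ≃ β) (hr : ∀ x, f (some (some x)) = some (some (r x))) (b : Finset α) :
    (lift b).map f.toEmbedding = lift (b.map r.toEmbedding) := by
  ext o
  rw [Finset.mem_map_equiv]
  match o with
  | some (some y) =>
    obtain ⟨x, rfl⟩ := r.surjective y
    rw [show f.symm (some (some (r x))) = some (some x) by rw [Equiv.symm_apply_eq, hr]]
    simp [lift]
  | none =>
    rcases hz : f.symm none with _ | _ | x
    · simp [lift]
    · simp [lift]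
    · exact absurd ((f.apply_symm_apply none).symm.trans ((congrArg f hz).trans (hr x))) (by simp)
  | some none =>
    rcases hz : f.symm (some none) with _ | _ | x
    · simp [lift]
    · simp [lift]
    · exact absurd ((f.apply_symm_apply (some none)).symm.trans ((congrArg f hz).trans (hr x)))
        (by simp)

omit [Fintype α] [DecidableEq α] in
theorem exists_restrict {β : Type*} (f : Option (Option α) ≃ Option (Option β))
    (h0 : f none = none) (h1 : f (some none) = some none) :
    ∃ r : α ≃ β, ∀ x, f (some (some x)) = some (some (r x)) := by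
  have hs : ∀ o : Option α, some (Equiv.removeNone f o) = f (some o) := fun o =>
    Equiv.removeNone_some f (Option.ne_none_iff_exists'.1 fun h =>
      Option.some_ne_none o (f.injective (h.trans h0.symm)))
  have hn : Equiv.removeNone f none = none := Option.some_injective _ ((hs none).trans h1)
  refine ⟨Equiv.removeNone (Equiv.removeNone f), fun x => ?_⟩
  rw [← hs, Equiv.removeNone_some _ (Option.ne_none_iff_exists'.1 fun h =>
    Option.some_ne_none x ((Equiv.removeNone f).injective (h.trans hn.symm)))]

/-- Coordinates for an S(3,6,22). -/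
structure Coord (B : Set (Finset α)) where
  /-- the bijection -/
  e : Option (Option α) ≃ GolayPt
  none_eq : e none = none
  some_eq : e (some none) = some 0
  mem_block : ∀ b, b ∈ B ↔ (lift b).map e.toEmbedding ∈ octads
  extend : ∀ g : Equiv.Perm α, g ∈ setSystemAut B → ∃ σ ∈ M24,
    ∀ x, σ (e (some (some x))) = e (some (some (g x)))

theorem exists_coord (hα : Fintype.card α = 22) (hB : IsSteinerSystem 3 6 B) :
    Nonempty (Coord B) := by
  obtain ⟨G, hG, hCG, hext⟩ := exists_extension hα hB
  obtain ⟨e₀, he₀⟩ := exists_equiv hG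
  obtain ⟨t, ht, htm⟩ := exists_map_M24 (xs := [e₀ none, e₀ (some none)])
    (ys := [none, some 0]) (by simp) (by simp) (by simp) (by simp)
  set e := e₀.trans t with he
  have hmap : ∀ s : Finset (Option (Option α)), s.map e.toEmbedding =
      t • s.map e₀.toEmbedding := fun s => by
    rw [Finset.smul_finset_def, Finset.map_eq_image, Finset.map_eq_image, Finset.image_image]
    exact Finset.image_congr fun x _ => rfl
  have hs : ∀ s, s ∈ family G ↔
      s.map e.toEmbedding ∈ supports (golayCode : Set (GolayPt → ZMod 2)) := fun s => by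
    rw [hmap, M24_smul_mem_supports ht, he₀]
  have hfw : ∀ c ∈ B, lift c ∈ family G := fun c hc =>
    mem_family.2 (hCG (Submodule.subset_span ⟨_, ⟨c, hc, rfl⟩, rfl⟩))
  simp only [List.map_cons, List.map_nil, List.cons.injEq, and_true] at htm
  refine ⟨⟨e, htm.1, htm.2, fun b => ?_, fun g hg => ?_⟩⟩
  · rw [mem_octads, Finset.card_map, ← hs]
    refine ⟨fun hb => ⟨hfw b hb, by rw [lift_card, hB.1 b hb]⟩, fun hb => ?_⟩
    have hb6 : b.card = 6 := by have := hb.2; rw [lift_card] at this; omega
    obtain ⟨s, hs', hsc⟩ := Finset.exists_subset_card_eq (s := b) (n := 3) (by omega)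
    obtain ⟨c, ⟨hc, hsc'⟩, -⟩ := hB.2 s hsc
    have hmono : ∀ {u v : Finset α}, u ⊆ v → lift u ⊆ lift v := fun h =>
      Finset.insertNone.monotone (Finset.insertNone.monotone h)
    have := (octad_existsUnique hG (by rw [lift_card, hsc] : (lift s).card = 5)).unique
      (y₁ := lift b) (y₂ := lift c) ⟨hb, hmono hs'⟩
      ⟨⟨hfw c hc, by rw [lift_card, hB.1 c hc]⟩, hmono hsc'⟩
    rw [lift, lift] at this
    have hbc := congrArg (fun s => Finset.eraseNone (Finset.eraseNone s)) this
    simp only [Finset.eraseNone_insertNone] at hbc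
    exact hbc ▸ hc
  · set σ₀ : Equiv.Perm (Option (Option α)) := Equiv.optionCongr (Equiv.optionCongr g) with hσ₀
    have hlift : ∀ o ∈ lift '' B, o.map σ₀.toEmbedding ∈ lift '' B := by
      rintro _ ⟨b, hb, rfl⟩
      refine ⟨g • b, (MulAction.mem_stabilizer_set.1 hg b).2 hb, ?_⟩
      rw [map_lift σ₀ g (fun x => rfl), Finset.map_eq_image]
      rfl
    have key : ∀ τ : Equiv.Perm (Option (Option α)),
        (∀ s ∈ family G, s.map τ.toEmbedding ∈ family G) → e.permCongr τ ∈ M24 := by
      intro τ hτ
      rw [MulAction.mem_stabilizer_set']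
      · intro u hu
        obtain ⟨s, rfl⟩ : ∃ s : Finset (Option (Option α)), s.map e.toEmbedding = u :=
          ⟨u.map e.symm.toEmbedding, by ext p; simp [Finset.mem_map_equiv]⟩
        have hsm : e.permCongr τ • s.map e.toEmbedding =
            (s.map τ.toEmbedding).map e.toEmbedding := by
          simp only [Finset.map_eq_image, Finset.smul_finset_def, Finset.image_image]
          exact Finset.image_congr fun x _ => by simp [Equiv.permCongr_apply]
        rw [hsm, ← hs]
        exact hτ _ ((hs s).2 hu)
      · exact Set.toFinite _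
    rcases hext σ₀ hlift rfl rfl with h | h
    · exact ⟨_, key σ₀ h, fun x => by simp [Equiv.permCongr_apply, hσ₀]⟩
    · refine ⟨_, key (σ₀.trans (swp α)) fun s hs' => ?_, fun x => ?_⟩
      · have := h s hs'
        rwa [Finset.map_map] at this
      · simp [Equiv.permCongr_apply, hσ₀, swp, Equiv.swap_apply_of_ne_of_ne]

theorem setSystemIso {β : Type*} [Fintype β] [DecidableEq β] {B' : Set (Finset β)}
    (hα : Fintype.card α = 22) (hβ : Fintype.card β = 22) (hB : IsSteinerSystem 3 6 B)
    (hB' : IsSteinerSystem 3 6 B') : SetSystemIso B B' := by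
  obtain ⟨c⟩ := exists_coord hα hB
  obtain ⟨d⟩ := exists_coord hβ hB'
  set f := c.e.trans d.e.symm with hf
  obtain ⟨r, hr⟩ := exists_restrict f
    (by rw [hf, Equiv.trans_apply, c.none_eq, ← d.none_eq, Equiv.symm_apply_apply])
    (by rw [hf, Equiv.trans_apply, c.some_eq, ← d.some_eq, Equiv.symm_apply_apply])
  have hmap : ∀ b : Finset α, (lift (b.map r.toEmbedding)).map d.e.toEmbedding =
      (lift b).map c.e.toEmbedding := fun b => by
    rw [← map_lift f r hr, Finset.map_map]
    congr 1
    ext o
    simp [hf]
  refine ⟨r, Set.ext fun b' => ⟨?_, fun hb' => ?_⟩⟩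
  · rintro ⟨b, hb, rfl⟩
    show b.image r.toEmbedding ∈ B'
    rw [← Finset.map_eq_image, d.mem_block, hmap, ← c.mem_block]
    exact hb
  · have hcancel : (b'.map r.symm.toEmbedding).map r.toEmbedding = b' := by
      ext y
      rw [Finset.mem_map_equiv, Finset.mem_map_equiv, Equiv.symm_symm, Equiv.apply_symm_apply]
    refine ⟨b'.map r.symm.toEmbedding, ?_, ?_⟩
    · rw [c.mem_block, ← hmap, hcancel, ← d.mem_block]
      exact hb'
    · show (b'.map _).image r.toEmbedding = b'
      rw [← Finset.map_eq_image, hcancel]

/-- The setwise stabiliser in `M24` of two points. -/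
abbrev pairStab : Subgroup (Equiv.Perm GolayPt) :=
  M24 ⊓ MulAction.stabilizer (Equiv.Perm GolayPt) ({none, some 0} : Finset GolayPt)

theorem mem_pairStab {σ : Equiv.Perm GolayPt} : σ ∈ pairStab ↔ σ ∈ M24 ∧
    ((σ none = none ∧ σ (some 0) = some 0) ∨ (σ none = some 0 ∧ σ (some 0) = none)) := by
  refine Subgroup.mem_inf.trans (and_congr_right fun _ => ?_)
  rw [MulAction.mem_stabilizer_iff, Finset.smul_finset_insert, Finset.smul_finset_singleton,
    Equiv.Perm.smul_def, Equiv.Perm.smul_def]
  refine ⟨fun h => ?_, ?_⟩
  · have h1 : σ none ∈ ({none, some 0} : Finset GolayPt) := h ▸ Finset.mem_insert_self _ _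
    have h2 : σ (some 0) ∈ ({none, some 0} : Finset GolayPt) :=
      h ▸ Finset.mem_insert_of_mem (Finset.mem_singleton_self _)
    have hne : σ none ≠ σ (some 0) := fun e => Option.some_ne_none _ (σ.injective e).symm
    simp only [Finset.mem_insert, Finset.mem_singleton] at h1 h2
    rcases h1 with h1 | h1 <;> rcases h2 with h2 | h2
    · exact absurd (h1.trans h2.symm) hne
    · exact Or.inl ⟨h1, h2⟩
    · exact Or.inr ⟨h1, h2⟩
    · exact absurd (h1.trans h2.symm) hne
  · rintro (⟨h1, h2⟩ | ⟨h1, h2⟩) <;> rw [h1, h2]
    exact Finset.pair_comm _ _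

theorem projInv_mem_pairStab : projInv ∈ pairStab :=
  mem_pairStab.2 ⟨projInv_mem_M24, Or.inr ⟨rfl, rfl⟩⟩

theorem fix2_le_pairStab : fixPts M24 [some 0, none] ≤ pairStab := fun _ hσ =>
  mem_pairStab.2 ⟨hσ.1, Or.inl ⟨hσ.2 none (by simp), hσ.2 (some 0) (by simp)⟩⟩

theorem index_fix2 : ((fixPts M24 [some 0, none]).subgroupOf pairStab).index = 2 := by
  rw [Subgroup.index_eq_two_iff]
  refine ⟨⟨projInv, projInv_mem_pairStab⟩, fun b => ?_⟩
  simp only [Subgroup.mem_subgroupOf, mem_fixPts, Subgroup.coe_mul, Equiv.Perm.mul_apply,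
    List.forall_mem_cons, List.not_mem_nil, IsEmpty.forall_iff, implies_true, and_true,
    show projInv (some 0) = none from rfl, show projInv none = some 0 from rfl]
  obtain ⟨hM, h | h⟩ := mem_pairStab.1 b.2 <;>
    simp [hM, mul_mem hM projInv_mem_M24, h.1, h.2, xor_def]

theorem card_pairStab : Nat.card pairStab = 887040 := by
  rw [← Subgroup.index_mul_card ((fixPts M24 [some 0, none]).subgroupOf pairStab), index_fix2,
    Nat.card_congr (Subgroup.subgroupOfEquivOfLe fix2_le_pairStab).toEquiv, card_fix2]

theorem swap_not_mem : Equiv.swap (none : GolayPt) (some 0) ∉ M24 := by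
  intro h
  have hS : support₂ (qrWord 0) ∈ supports (golayCode : Set (GolayPt → ZMod 2)) :=
    ⟨_, Submodule.subset_span (Or.inl ⟨0, rfl⟩), rfl⟩
  have hc := supports_card (supports_symmDiff ((M24_smul_mem_supports h).2 hS) hS)
  have h2 : ((Equiv.swap (none : GolayPt) (some 0) • support₂ (qrWord 0)) ∆
      support₂ (qrWord 0)).card = 2 := by decide +kernel
  omega

/-- The automorphism group of an S(3,6,22), carried to the stabiliser of a pair in `M24`. -/
theorem exists_aut_equiv (hα : Fintype.card α = 22) (hB : IsSteinerSystem 3 6 B) :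
    ∃ (c : Coord B) (φ : setSystemAut B ≃* pairStab), ∀ g x,
      (φ g : Equiv.Perm GolayPt) (c.e (some (some x))) =
        c.e (some (some ((g : Equiv.Perm α) x))) := by
  obtain ⟨c⟩ := exists_coord hα hB
  have hι : ∀ {x y : α}, c.e (some (some x)) = c.e (some (some y)) → x = y := fun h =>
    Option.some_injective _ (Option.some_injective _ (c.e.injective h))
  -- elements of the pair stabiliser restrict to automorphisms
  have down : ∀ σ : pairStab, ∃ g : setSystemAut B, ∀ x,
      (σ : Equiv.Perm GolayPt) (c.e (some (some x))) =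
        c.e (some (some ((g : Equiv.Perm α) x))) := by
    intro σ
    obtain ⟨hM, hp⟩ := mem_pairStab.1 σ.2
    set π := c.e.symm.permCongr (σ : Equiv.Perm GolayPt) with hπ
    obtain ⟨r, hr⟩ : ∃ r : α ≃ α, ∀ x, π (some (some x)) = some (some (r x)) := by
      rcases hp with ⟨h0, h1⟩ | ⟨h0, h1⟩
      · exact exists_restrict π
          (by simp [hπ, Equiv.permCongr_apply, c.none_eq, h0, Equiv.symm_apply_eq])
          (by simp [hπ, Equiv.permCongr_apply, c.some_eq, h1, Equiv.symm_apply_eq])
      · obtain ⟨r, hr⟩ := exists_restrict (π.trans (swp α))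
          (by simp [hπ, Equiv.permCongr_apply, c.none_eq, h0, swp,
              show c.e.symm (some 0) = some none by rw [Equiv.symm_apply_eq, c.some_eq]])
          (by simp [hπ, Equiv.permCongr_apply, c.some_eq, h1, swp,
              show c.e.symm none = none by rw [Equiv.symm_apply_eq, c.none_eq]])
        refine ⟨r, fun x => ?_⟩
        have h := congrArg (swp α) (hr x)
        simpa [swp, Equiv.swap_apply_self, Equiv.swap_apply_of_ne_of_ne] using h
    refine ⟨⟨r, MulAction.mem_stabilizer_set.2 fun b => ?_⟩, fun x => ?_⟩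
    · rw [c.mem_block, c.mem_block, show r • b = b.map r.toEmbedding by
        rw [Finset.map_eq_image]; rfl, ← map_lift π r hr]
      have hsm : ((lift b).map π.toEmbedding).map c.e.toEmbedding =
          (σ : Equiv.Perm GolayPt) • (lift b).map c.e.toEmbedding := by
        simp only [Finset.map_eq_image, Finset.smul_finset_def, Finset.image_image]
        exact Finset.image_congr fun x _ => by simp [hπ, Equiv.permCongr_apply]
      rw [hsm, M24_smul_mem_octads hM]
    · show _ = c.e (some (some (r x)))
      rw [← hr, hπ]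
      simp [Equiv.permCongr_apply]
  choose ψ hψ using down
  let Ψ : pairStab →* setSystemAut B := MonoidHom.mk' ψ fun σ τ =>
    Subtype.ext (Equiv.ext fun x => hι (by
      rw [← hψ, Subgroup.coe_mul, Equiv.Perm.mul_apply, hψ, hψ]
      rfl))
  have hbij : Function.Bijective Ψ := by
    constructor
    · rw [injective_iff_map_eq_one]
      intro σ hσ
      have hfix : ∀ x, (σ : Equiv.Perm GolayPt) (c.e (some (some x))) = c.e (some (some x)) :=
        fun x => by
          rw [hψ, show ψ σ = 1 from hσ]; rfl
      obtain ⟨hM, hp⟩ := mem_pairStab.1 σ.2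
      rcases hp with ⟨h0, h1⟩ | ⟨h0, h1⟩
      · refine Subtype.ext (Equiv.ext fun p => ?_)
        obtain ⟨o, rfl⟩ := c.e.surjective p
        match o with
        | none => rw [c.none_eq]; exact h0
        | some none => rw [c.some_eq]; exact h1
        | some (some x) => exact hfix x
      · have hsw : (σ : Equiv.Perm GolayPt) = Equiv.swap none (some 0) := by
          refine Equiv.ext fun p => ?_
          obtain ⟨o, rfl⟩ := c.e.surjective p
          match o with
          | none => rw [c.none_eq, h0, Equiv.swap_apply_left]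
          | some none => rw [c.some_eq, h1, Equiv.swap_apply_right]
          | some (some x) =>
            rw [hfix x, Equiv.swap_apply_of_ne_of_ne (fun h => ?_) (fun h => ?_)]
            · exact Option.some_ne_none _ (c.e.injective (h.trans c.none_eq.symm))
            · exact Option.some_ne_none x
                (Option.some_injective _ (c.e.injective (h.trans c.some_eq.symm)))
        exact absurd (hsw ▸ hM) swap_not_mem
    · intro g
      obtain ⟨σ, hσ, hσg⟩ := c.extend g g.2
      have hmem : σ ∈ pairStab := by
        refine mem_pairStab.2 ⟨hσ, ?_⟩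
        have hout : ∀ p : GolayPt, p = none ∨ p = some 0 → σ p = none ∨ σ p = some 0 := by
          intro p hp
          obtain ⟨o, ho⟩ := c.e.surjective (σ p)
          match o with
          | none => exact Or.inl (ho.symm.trans c.none_eq)
          | some none => exact Or.inr (ho.symm.trans c.some_eq)
          | some (some x) =>
            have h := hσg ((g : Equiv.Perm α).symm x)
            rw [Equiv.apply_symm_apply, ho] at h
            have hp' := σ.injective h
            rcases hp with rfl | rfl
            · exact absurd (c.e.injective (hp'.trans c.none_eq.symm)) (Option.some_ne_none _)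
            · exact absurd (Option.some_injective _ (c.e.injective (hp'.trans c.some_eq.symm)))
                (Option.some_ne_none _)
        have hne : σ none ≠ σ (some 0) := fun e => Option.some_ne_none _ (σ.injective e).symm
        rcases hout none (Or.inl rfl) with h1 | h1 <;>
          rcases hout (some 0) (Or.inr rfl) with h2 | h2
        · exact absurd (h1.trans h2.symm) hne
        · exact Or.inl ⟨h1, h2⟩
        · exact Or.inr ⟨h1, h2⟩
        · exact absurd (h1.trans h2.symm) hne
      exact ⟨⟨σ, hmem⟩, Subtype.ext (Equiv.ext fun x => hι ((hψ ⟨σ, hmem⟩ x).symm.trans (hσg x)))⟩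
  refine ⟨c, (MulEquiv.ofBijective Ψ hbij).symm, fun g x => ?_⟩
  have h := hψ ((MulEquiv.ofBijective Ψ hbij).symm g) x
  rw [show ψ ((MulEquiv.ofBijective Ψ hbij).symm g) = g from
    (MulEquiv.ofBijective Ψ hbij).apply_symm_apply g] at h
  exact h

theorem aut_facts (hα : Fintype.card α = 22) (hB : IsSteinerSystem 3 6 B) :
    Nat.card (setSystemAut B) = 887040 ∧
      MulAction.IsMultiplyPretransitive (setSystemAut B) α 3 ∧
      ∃ H : Subgroup (setSystemAut B), H.index = 2 ∧ IsM22 H := by
  obtain ⟨c, φ, hφ⟩ := exists_aut_equiv hα hB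
  refine ⟨by rw [Nat.card_congr φ.toEquiv, card_pairStab], ?_, ?_⟩
  · rw [MulAction.isMultiplyPretransitive_iff]
    intro x y
    have hnd : ∀ z : Fin 3 ↪ α, ((none : GolayPt) :: some 0 ::
        List.ofFn fun i => c.e (some (some (z i)))).Nodup := by
      intro z
      rw [List.nodup_cons, List.nodup_cons, List.nodup_ofFn, List.mem_cons]
      refine ⟨?_, fun h => ?_, c.e.injective.comp
        ((Option.some_injective _).comp ((Option.some_injective α).comp z.injective))⟩
      · rintro (h | h)
        · exact Option.some_ne_none _ h.symm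
        · obtain ⟨i, hi⟩ := List.mem_ofFn.1 h
          exact Option.some_ne_none _ (c.e.injective (hi.trans c.none_eq.symm))
      · obtain ⟨i, hi⟩ := List.mem_ofFn.1 h
        exact Option.some_ne_none _
          (Option.some_injective _ (c.e.injective (hi.trans c.some_eq.symm)))
    obtain ⟨g, hg, hgm⟩ := exists_map_M24 (hnd x) (hnd y) (by simp) (by simp)
    rw [List.map_cons, List.map_cons, List.cons_eq_cons, List.cons_eq_cons, List.map_ofFn] at hgm
    have hgf : g ∈ pairStab := mem_pairStab.2 ⟨hg, Or.inl ⟨hgm.1, hgm.2.1⟩⟩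
    refine ⟨φ.symm ⟨g, hgf⟩, DFunLike.ext _ _ fun i =>
      Option.some_injective α (Option.some_injective _ (c.e.injective ?_))⟩
    show c.e (some (some ((φ.symm ⟨g, hgf⟩ : Equiv.Perm α) (x i)))) = _
    rw [← hφ, MulEquiv.apply_symm_apply]
    exact congrFun (List.ofFn_inj.1 hgm.2.2) i
  · set K := (fixPts M24 [some 0, none]).subgroupOf pairStab with hK
    refine ⟨K.comap φ.toMonoidHom,
      by rw [Subgroup.index_comap_of_surjective _ φ.surjective, index_fix2], ?_⟩
    let ψ : K.comap φ.toMonoidHom ≃* fixPts M24 [some 0, none] :=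
      ((MulEquiv.subgroupMap φ (K.comap φ.toMonoidHom)).trans
        (MulEquiv.subgroupCongr (Subgroup.map_comap_eq_self_of_surjective φ.surjective K))).trans
        (Subgroup.subgroupOfEquivOfLe fix2_le_pairStab)
    have hs := isSimple_fix2
    exact ⟨MulEquiv.isSimpleGroup ψ, by rw [Nat.card_congr ψ.toEquiv, card_fix2]⟩

end Coord

end CfsgLib.Golay.DerivedPair
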