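import Mathlib
import Cfsg.Agent.Lib.Golay.M24

/-! The code modulo the all-ones word has no invariant subspace but the trivial ones. -/

set_option autoImplicit false

namespace CfsgLib.GolayIrreducible

open Cfsg CfsgLib.Golay
open scoped Pointwise

variable {W : Submodule (ZMod 2) (GolayPt → ZMod 2)}
  (h1 : (1 : GolayPt → ZMod 2) ∈ W) (hle : W ≤ golayCode)
  (hinv : ∀ σ ∈ M24, ∀ w ∈ W, (fun p => w (σ.symm p)) ∈ W)

theorem support₂_one_add (w : GolayPt → ZMod 2) : support₂ (1 + w) = (support₂ w)ᶜ := by
  ext p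
  rcases zmod_two_cases (w p) with h | h <;> simp [support₂, h] <;> decide

theorem dodecad_checks : pc24 (comb 13) = 12 ∧ pc24 (comb 14) = 12 ∧ pc24 (comb (13 ^^^ 14)) = 8 := by
  decide +kernel

theorem basis_weight : (basis.all fun b => pc24 b == 8) = true := by decide +kernel

include hinv

theorem mem_of_smul {w v : GolayPt → ZMod 2} (hw : w ∈ W) {g : Equiv.Perm GolayPt} (hg : g ∈ M24)
    (h : g • support₂ w = support₂ v) : v ∈ W := by
  have h2 := hinv g hg w hw
  have h3 : (fun p => w (g.symm p)) = v := by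
    apply support₂_injective
    rw [support₂_comp, ← h]
    rfl
  rwa [← h3]

theorem code_le_of_octad {w : GolayPt → ZMod 2} (hw : w ∈ W) (ho : support₂ w ∈ octads) : golayCode ≤ W := by
  intro v hv
  obtain ⟨x, -, rfl⟩ := mem_golay_iff.1 hv
  refine toWord_comb_mem_of (fun b hb => ?_) x
  have hob : support₂ (toWord b) ∈ octads := by
    refine mem_octads.2 ⟨support₂_mem_supports.2 (basis_mem hb), ?_⟩
    rw [support₂_toWord, card_toSet, ← pc24_eq]
    exact beq_iff_eq.1 (List.all_eq_true.1 basis_weight b hb)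
  obtain ⟨g, hg, hgo⟩ := exists_smul_octad ho hob
  exact mem_of_smul hinv hw hg hgo

theorem code_le_of_dodecad {w : GolayPt → ZMod 2} (hw : w ∈ W) (hd : support₂ w ∈ dodecads) : golayCode ≤ W := by
  obtain ⟨e1, e2, e3⟩ := dodecad_checks
  have hdod : ∀ x, x < 2 ^ 12 → pc24 (comb x) = 12 → toWord (comb x) ∈ W := by
    intro x hx hk
    have hd' : support₂ (toWord (comb x)) ∈ dodecads := by
      refine mem_dodecads.2 ⟨support₂_mem_supports.2 (toWord_comb_mem x), ?_⟩
      rw [support₂_toWord, card_toSet, ← pc24_eq]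
      exact hk
    obtain ⟨g, hg, hgd⟩ := exists_smul_dodecad hd hd'
    exact mem_of_smul hinv hw hg hgd
  refine code_le_of_octad hinv (add_mem (hdod 13 (by norm_num) e1) (hdod 14 (by norm_num) e2)) ?_
  rw [← toWord_xor, ← comb_xor]
  refine mem_octads.2 ⟨support₂_mem_supports.2 (toWord_comb_mem _), ?_⟩
  rw [support₂_toWord, card_toSet, ← pc24_eq]
  exact e3

include h1 hle

theorem eq_span_or_eq : W = Submodule.span (ZMod 2) {(1 : GolayPt → ZMod 2)} ∨ W = golayCode := by
  by_cases h : ∀ w ∈ W, w = 0 ∨ w = 1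
  · left
    refine le_antisymm (fun w hw => ?_) (Submodule.span_le.2 (Set.singleton_subset_iff.2 h1))
    rcases h w hw with rfl | rfl
    · exact zero_mem _
    · exact Submodule.subset_span rfl
  · right
    refine le_antisymm hle ?_
    push_neg at h
    obtain ⟨w, hw, hw0, hw1⟩ := h
    have hs := supports_card (support₂_mem_supports.2 (hle hw))
    have hs0 : support₂ (0 : GolayPt → ZMod 2) = ∅ := by ext p; simp [support₂]
    have hs1 : support₂ (1 : GolayPt → ZMod 2) = Finset.univ := by ext p; simp [support₂]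
    have hcard : Fintype.card GolayPt = 24 := by simp [GolayPt, ZMod.card]
    rcases hs with h0 | h8 | h12 | h16 | h24
    · exact absurd (support₂_injective ((Finset.card_eq_zero.1 h0).trans hs0.symm)) hw0
    · exact code_le_of_octad hinv hw (mem_octads.2 ⟨support₂_mem_supports.2 (hle hw), h8⟩)
    · exact code_le_of_dodecad hinv hw (mem_dodecads.2 ⟨support₂_mem_supports.2 (hle hw), h12⟩)
    · refine code_le_of_octad hinv (add_mem h1 hw)
        (mem_octads.2 ⟨support₂_mem_supports.2 (hle (add_mem h1 hw)), ?_⟩)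
      rw [support₂_one_add, Finset.card_compl, h16, hcard]
    · refine absurd (support₂_injective ?_) hw1
      rw [hs1]
      exact Finset.eq_univ_of_card _ (h24.trans hcard.symm)

end CfsgLib.GolayIrreducible
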