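import Cfsg.Agent.Lib.Golay.Octads

/-!
Permutations of the 24 points coded as numbers (image of bit `j` in bits `8j .. 8j+7`), their action
on masks, membership in `Cfsg.M24`, and generic stabiliser-chain lemmas for subgroups with given
transversals.
-/

set_option autoImplicit false

namespace CfsgLib.Golay

open Cfsg
open scoped Pointwise

/-- The image of bit `j` under the coded permutation `c`. -/
def app (c j : ℕ) : ℕ := Nat.land (Nat.shiftRight c (Nat.mul 8 j)) 255

/-- `f` holds below `k`. -/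
noncomputable def allLt (k : ℕ) (f : ℕ → Bool) : Bool := Nat.rec true (fun j ih => f j && ih) k

theorem allLt_spec {f : ℕ → Bool} : ∀ {k : ℕ}, allLt k f = true → ∀ i, i < k → f i = true
  | 0, _, i, hi => absurd hi (Nat.not_lt_zero i)
  | k + 1, h, i, hi => by
    have h' : f k = true ∧ allLt k f = true := Bool.and_eq_true_iff.1 h
    rcases Nat.lt_succ_iff_lt_or_eq.1 hi with hi | rfl
    exacts [allLt_spec h'.2 i hi, h'.1]

/-- `c` codes `σ`. -/
def IsPermOf (σ : Equiv.Perm GolayPt) (c : ℕ) : Prop := ∀ p, app c (bit p) = bit (σ p)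

/-- `c` is the composition `a ∘ b`. -/
noncomputable def isMul (c a b : ℕ) : Bool := allLt 24 fun j => Nat.beq (app c j) (app a (app b j))

theorem IsPermOf.mul {σ τ : Equiv.Perm GolayPt} {a b c : ℕ} (ha : IsPermOf σ a) (hb : IsPermOf τ b)
    (h : isMul c a b = true) : IsPermOf (σ * τ) c := fun p => by
  rw [Nat.eq_of_beq_eq_true (allLt_spec h _ (bit_lt p)), hb, ha, Equiv.Perm.mul_apply]

theorem IsPermOf.apply_eq {σ : Equiv.Perm GolayPt} {c : ℕ} (h : IsPermOf σ c) (p : GolayPt) :
    σ p = pt (app c (bit p)) := by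
  rw [h, pt_bit]

theorem IsPermOf.unique {σ τ : Equiv.Perm GolayPt} {c : ℕ} (h : IsPermOf σ c) (h' : IsPermOf τ c) :
    σ = τ :=
  Equiv.ext fun p => bit_injective ((h p).symm.trans (h' p))

/-! ### Action on masks -/

/-- The mask of the preimage of the set with mask `n`. -/
noncomputable def pull (c n : ℕ) : ℕ :=
  Nat.rec 0 (fun j ih =>
    Nat.lor ih (Nat.shiftLeft (Nat.land (Nat.shiftRight n (app c j)) 1) j)) 24

theorem testBit_pull_aux (c n : ℕ) : ∀ k i,
    (Nat.rec (motive := fun _ => ℕ) 0 (fun j ih =>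
      Nat.lor ih (Nat.shiftLeft (Nat.land (Nat.shiftRight n (app c j)) 1) j)) k).testBit i
      = (decide (i < k) && n.testBit (app c i))
  | 0, i => by simp
  | k + 1, i => by
    show (_ ||| (((n >>> app c k) &&& 1) <<< k)).testBit i = _
    rw [Nat.testBit_lor, testBit_pull_aux c n k, Nat.testBit_shiftLeft, Nat.testBit_and,
      Nat.testBit_shiftRight]
    rcases lt_trichotomy i k with h | rfl | h
    · simp [h, Nat.lt_succ_of_lt h, not_le.2 h]
    · simp
    · have : (1 : ℕ).testBit (i - k) = false := by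
        rw [Nat.testBit_lt_two_pow]; exact Nat.one_lt_two_pow (by omega)
      simp [this, not_lt.2 h.le, not_lt.2 (Nat.succ_le_of_lt h)]

theorem testBit_pull (c n i : ℕ) : (pull c n).testBit i = (decide (i < 24) && n.testBit (app c i)) :=
  testBit_pull_aux c n 24 i

theorem pull_lt (c n : ℕ) : pull c n < 2 ^ 24 :=
  Nat.lt_pow_two_of_testBit _ fun i hi => by simp [testBit_pull, not_lt.2 hi]

theorem toWord_pull {σ : Equiv.Perm GolayPt} {c : ℕ} (h : IsPermOf σ c) (n : ℕ) :
    toWord (pull c n) = fun p => toWord n (σ p) := by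
  funext p
  simp [toWord, testBit_pull, bit_lt, h p]

theorem mem_toSet_pull {σ : Equiv.Perm GolayPt} {c : ℕ} (h : IsPermOf σ c) (n : ℕ) (p : GolayPt) :
    p ∈ toSet (pull c n) ↔ σ p ∈ toSet n := by
  simp [mem_toSet, testBit_pull, bit_lt, h p]

theorem toSet_pull {σ : Equiv.Perm GolayPt} {c : ℕ} (h : IsPermOf σ c) (n : ℕ) :
    toSet (pull c n) = σ⁻¹ • toSet n := by
  ext p
  rw [mem_toSet_pull h, Finset.mem_inv_smul_finset_iff, Equiv.Perm.smul_def]

/-- The mask of the image of the set with mask `n`. -/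
noncomputable def push (c n : ℕ) : ℕ :=
  Nat.rec 0 (fun j ih =>
    Nat.lor ih (Nat.shiftLeft (Nat.land (Nat.shiftRight n j) 1) (app c j))) 24

theorem testBit_push_aux (c n : ℕ) : ∀ k i,
    (Nat.rec (motive := fun _ => ℕ) 0 (fun j ih =>
      Nat.lor ih (Nat.shiftLeft (Nat.land (Nat.shiftRight n j) 1) (app c j))) k).testBit i = true
      ↔ ∃ j, j < k ∧ n.testBit j = true ∧ app c j = i
  | 0, i => by simp
  | k + 1, i => by
    show (_ ||| (((n >>> k) &&& 1) <<< app c k)).testBit i = true ↔ _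
    rw [Nat.testBit_lor, Bool.or_eq_true, testBit_push_aux c n k, Nat.testBit_shiftLeft,
      Nat.testBit_and, Nat.testBit_shiftRight]
    constructor
    · rintro (⟨j, hj, h1, h2⟩ | h)
      · exact ⟨j, by omega, h1, h2⟩
      · simp only [Bool.and_eq_true, decide_eq_true_eq] at h
        obtain ⟨h0, h1, h2⟩ := h
        have : i - app c k = 0 := by
          by_contra hne
          have : (1 : ℕ).testBit (i - app c k) = false := by
            rw [Nat.testBit_lt_two_pow]; exact Nat.one_lt_two_pow hne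
          simp [this] at h2
        rw [this, add_zero] at h1
        exact ⟨k, by omega, h1, by omega⟩
    · rintro ⟨j, hj, h1, h2⟩
      rcases Nat.lt_succ_iff_lt_or_eq.1 hj with hj | rfl
      · exact Or.inl ⟨j, hj, h1, h2⟩
      · right; simp [h2, h1]

theorem toSet_push {σ : Equiv.Perm GolayPt} {c : ℕ} (h : IsPermOf σ c) (n : ℕ) :
    toSet (push c n) = σ • toSet n := by
  ext p
  rw [mem_toSet, push, testBit_push_aux, ← Finset.inv_smul_mem_iff, mem_toSet,
    Equiv.Perm.smul_def]
  constructor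
  · rintro ⟨j, hj, h1, h2⟩
    have h3 := h (pt j)
    rw [bit_pt hj, h2] at h3
    rw [bit_injective h3, ← Equiv.Perm.mul_apply, inv_mul_cancel, Equiv.Perm.one_apply, bit_pt hj]
    exact h1
  · intro h1
    refine ⟨bit (σ⁻¹ p), bit_lt _, h1, ?_⟩
    rw [h, ← Equiv.Perm.mul_apply, mul_inv_cancel, Equiv.Perm.one_apply]

/-! ### Membership in `M24` -/

theorem support₂_comp (σ : Equiv.Perm GolayPt) (w : GolayPt → ZMod 2) :
    support₂ (fun p => w (σ p)) = σ⁻¹ • support₂ w := by
  ext p
  simp [support₂, Finset.mem_inv_smul_finset_iff, Equiv.Perm.smul_def]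

theorem mem_M24_of_comp {σ : Equiv.Perm GolayPt}
    (h : ∀ w ∈ golayCode, (fun p => w (σ p)) ∈ golayCode) : σ ∈ M24 := by
  rw [← inv_mem_iff]
  refine MulAction.mem_stabilizer_iff.2 (Set.eq_of_subset_of_ncard_le ?_ ?_ (Set.toFinite _))
  · rintro _ ⟨_, ⟨w, hw, rfl⟩, rfl⟩
    exact ⟨_, h w hw, support₂_comp σ w⟩
  · exact (Set.ncard_image_of_injective _ (MulAction.injective σ⁻¹)).ge

theorem M24_smul_mem_supports {σ : Equiv.Perm GolayPt} (hσ : σ ∈ M24) {s : Finset GolayPt} :
    σ • s ∈ supports (golayCode : Set (GolayPt → ZMod 2)) ↔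
      s ∈ supports (golayCode : Set (GolayPt → ZMod 2)) := by
  conv_lhs => rw [← MulAction.mem_stabilizer_iff.1 hσ]
  exact Set.smul_mem_smul_set_iff

theorem M24_comp {σ : Equiv.Perm GolayPt} (hσ : σ ∈ M24) {w : GolayPt → ZMod 2}
    (hw : w ∈ golayCode) : (fun p => w (σ p)) ∈ golayCode := by
  rw [← support₂_mem_supports, support₂_comp, M24_smul_mem_supports (inv_mem hσ),
    support₂_mem_supports]
  exact hw

theorem M24_smul_mem_octads {σ : Equiv.Perm GolayPt} (hσ : σ ∈ M24) {s : Finset GolayPt} :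
    σ • s ∈ octads ↔ s ∈ octads := by
  rw [mem_octads, mem_octads, M24_smul_mem_supports hσ, Finset.card_smul_finset]

theorem M24_smul_mem_dodecads {σ : Equiv.Perm GolayPt} (hσ : σ ∈ M24) {s : Finset GolayPt} :
    σ • s ∈ dodecads ↔ s ∈ dodecads := by
  rw [mem_dodecads, mem_dodecads, M24_smul_mem_supports hσ, Finset.card_smul_finset]

/-- The test for membership of a coded permutation in `M24`. -/
noncomputable def inM24 (c : ℕ) : Bool := basis.all fun b => memb (pull c b)

theorem funLeft_word (σ : Equiv.Perm GolayPt) (w : GolayPt → ZMod 2) :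
    LinearMap.funLeft (ZMod 2) (ZMod 2) σ w = fun p => w (σ p) := rfl

theorem mem_M24_of_inM24 {σ : Equiv.Perm GolayPt} {c : ℕ} (h : IsPermOf σ c)
    (hc : inM24 c = true) : σ ∈ M24 := by
  refine mem_M24_of_comp fun w hw => ?_
  obtain ⟨x, -, hx⟩ := mem_golay_iff.1 hw
  have hM : ∀ b ∈ basis,
      toWord b ∈ golayCode.comap (LinearMap.funLeft (ZMod 2) (ZMod 2) σ) := fun b hb => by
    rw [Submodule.mem_comap, funLeft_word, ← toWord_pull h b]
    exact (toWord_mem_iff (pull_lt c b)).2 (List.all_eq_true.1 hc b hb)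
  have key := toWord_comb_mem_of hM x
  rw [Submodule.mem_comap, hx, funLeft_word] at key
  exact key

/-! ### Pointwise stabilisers and chains -/

/-- The elements of `H` fixing every point in a list. -/
def fixPts (H : Subgroup (Equiv.Perm GolayPt)) (l : List GolayPt) :
    Subgroup (Equiv.Perm GolayPt) where
  carrier := {g | g ∈ H ∧ ∀ x ∈ l, g x = x}
  one_mem' := ⟨H.one_mem, fun _ _ => rfl⟩
  mul_mem' := fun {a b} ha hb => ⟨H.mul_mem ha.1 hb.1, fun x hx => by
    rw [Equiv.Perm.mul_apply, hb.2 x hx, ha.2 x hx]⟩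
  inv_mem' := fun {a} ha => ⟨H.inv_mem ha.1, fun x hx => by
    conv_lhs => rw [← ha.2 x hx]
    rw [← Equiv.Perm.mul_apply, inv_mul_cancel, Equiv.Perm.one_apply]⟩

theorem mem_fixPts {H : Subgroup (Equiv.Perm GolayPt)} {l : List GolayPt}
    {g : Equiv.Perm GolayPt} : g ∈ fixPts H l ↔ g ∈ H ∧ ∀ x ∈ l, g x = x := Iff.rfl

theorem fixPts_nil (H : Subgroup (Equiv.Perm GolayPt)) : fixPts H [] = H := by
  ext g; simp [mem_fixPts]

theorem fixPts_cons (H : Subgroup (Equiv.Perm GolayPt)) (x : GolayPt) (l : List GolayPt) :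
    fixPts H (x :: l) = fixPts H l ⊓ MulAction.stabilizer (Equiv.Perm GolayPt) x := by
  ext g
  simp [mem_fixPts, Subgroup.mem_inf, MulAction.mem_stabilizer_iff]
  tauto

/-- The action of a subgroup on the points: one step of a stabiliser chain. -/
theorem chain_step {H K : Subgroup (Equiv.Perm GolayPt)} {l : List GolayPt} {b : GolayPt}
    {Δ : Finset GolayPt} (hup : ∀ g ∈ fixPts H l, g b ∈ Δ)
    (hlow : ∀ x ∈ Δ, ∃ t, t ∈ fixPts H l ∧ t ∈ K ∧ t b = x) (hK : fixPts H (b :: l) ≤ K) :
    fixPts H l ≤ K := by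
  intro g hg
  obtain ⟨t, ht, htK, htb⟩ := hlow _ (hup g hg)
  have h : t⁻¹ * g ∈ fixPts H (b :: l) := by
    rw [fixPts_cons, Subgroup.mem_inf, MulAction.mem_stabilizer_iff, Equiv.Perm.smul_def,
      Equiv.Perm.mul_apply, ← htb, ← Equiv.Perm.mul_apply, inv_mul_cancel]
    exact ⟨mul_mem (inv_mem ht) hg, rfl⟩
  simpa using K.mul_mem htK (hK h)

theorem card_fixPts_step {H : Subgroup (Equiv.Perm GolayPt)} {l : List GolayPt} {b : GolayPt}
    {Δ : Finset GolayPt} (hup : ∀ g ∈ fixPts H l, g b ∈ Δ)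
    (hlow : ∀ x ∈ Δ, ∃ t, t ∈ fixPts H l ∧ t b = x) :
    Nat.card (fixPts H l) = Δ.card * Nat.card (fixPts H (b :: l)) := by
  have horb : MulAction.orbit (fixPts H l) b = (Δ : Set GolayPt) := by
    ext x
    constructor
    · rintro ⟨g, rfl⟩; exact hup g g.2
    · intro hx
      obtain ⟨t, ht, htb⟩ := hlow x hx
      exact ⟨⟨t, ht⟩, htb⟩
  have hstab : MulAction.stabilizer (fixPts H l) b =
      (fixPts H (b :: l)).subgroupOf (fixPts H l) := by
    ext g
    rw [Subgroup.mem_subgroupOf, fixPts_cons, Subgroup.mem_inf, MulAction.mem_stabilizer_iff,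
      MulAction.mem_stabilizer_iff]
    exact ⟨fun h => ⟨g.2, h⟩, fun h => h.2⟩
  have hle : fixPts H (b :: l) ≤ fixPts H l := by rw [fixPts_cons]; exact inf_le_left
  rw [← Subgroup.card_mul_index (MulAction.stabilizer (fixPts H l) b),
    MulAction.index_stabilizer, horb, Set.ncard_coe_finset, hstab,
    Nat.card_congr (Subgroup.subgroupOfEquivOfLe hle).toEquiv, Nat.mul_comm]

/-- A list of base points with full orbits inside a set `D` gives transitivity on tuples from `D`. -/
theorem exists_map_eq {H : Subgroup (Equiv.Perm GolayPt)} {D : Finset GolayPt}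
    (hinv : ∀ g ∈ H, ∀ x, g x ∈ D ↔ x ∈ D) :
    ∀ (bs fixed : List GolayPt) (xs : List GolayPt),
      (∀ (i : ℕ) (hi : i < bs.length), ∀ x ∈ D, x ∉ fixed → x ∉ bs.take i →
        ∃ t ∈ fixPts H (fixed ++ bs.take i), t bs[i] = x) →
      xs.length = bs.length → xs.Nodup → (∀ x ∈ xs, x ∈ D ∧ x ∉ fixed) →
      ∃ g ∈ fixPts H fixed, bs.map g = xs
  | [], fixed, xs, _, hlen, _, _ => ⟨1, one_mem _, by simp [List.length_eq_zero_iff.1 hlen]⟩
  | b :: bs, fixed, [], _, hlen, _, _ => by simp at hlen
  | b :: bs, fixed, x :: xs, hlev, hlen, hnd, hxs => by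
    obtain ⟨hxD, hxf⟩ := hxs x List.mem_cons_self
    obtain ⟨t, ht, htb⟩ := hlev 0 (by simp) x hxD hxf (by simp)
    simp only [List.take_zero, List.append_nil, List.getElem_cons_zero] at ht htb
    rw [List.nodup_cons] at hnd
    have hlev' : ∀ (i : ℕ) (hi : i < bs.length), ∀ y ∈ D, y ∉ fixed ++ [b] → y ∉ bs.take i →
        ∃ t ∈ fixPts H ((fixed ++ [b]) ++ bs.take i), t bs[i] = y := by
      intro i hi y hy hyf hyb
      simp only [List.mem_append, List.mem_singleton, not_or] at hyf
      have := hlev (i + 1) (by simp [hi]) y hy hyf.1 (by simp [List.take_succ_cons, hyf.2, hyb])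
      simpa [List.take_succ_cons] using this
    obtain ⟨g, hg, hgm⟩ := exists_map_eq hinv bs (fixed ++ [b]) (xs.map ⇑t⁻¹) hlev'
      (by simpa using hlen) (hnd.2.map (Equiv.injective _)) (by
        intro y hy
        obtain ⟨z, hz, rfl⟩ := List.mem_map.1 hy
        obtain ⟨hzD, hzf⟩ := hxs z (List.mem_cons_of_mem _ hz)
        refine ⟨(hinv t⁻¹ (H.inv_mem ht.1) z).2 hzD, fun hmem => ?_⟩
        have hz' : t (t⁻¹ z) = z := by
          rw [← Equiv.Perm.mul_apply, mul_inv_cancel, Equiv.Perm.one_apply]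
        rcases List.mem_append.1 hmem with hm | hm
        · have := ht.2 _ hm
          rw [hz'] at this
          exact hzf (this ▸ hm)
        · rw [List.mem_singleton] at hm
          rw [hm, htb] at hz'
          exact hnd.1 (hz' ▸ hz))
    refine ⟨t * g, mem_fixPts.2 ⟨H.mul_mem ht.1 hg.1, fun y hy => ?_⟩, ?_⟩
    · rw [Equiv.Perm.mul_apply, hg.2 y (List.mem_append_left _ hy), ht.2 y hy]
    · rw [List.map_cons, Equiv.Perm.mul_apply, hg.2 b (by simp), htb]
      congr 1
      rw [show bs.map ⇑(t * g) = (bs.map g).map t by simp [List.map_map], hgm, List.map_map]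
      conv_rhs => rw [← List.map_id xs]
      exact List.map_congr_left fun y _ => by
        show t (t⁻¹ y) = y
        rw [← Equiv.Perm.mul_apply, mul_inv_cancel, Equiv.Perm.one_apply]

/-! ### A certificate that some points form a base -/

/-- One deduction step from fixed sets to a fixed set: `(0, i, j)` intersection of two earlier ones,
`(1, i, j)` difference, `(2, o, m)` an octad `o` with five fixed points among the bits of `m`. -/
noncomputable def baseStep (F : List ℕ) (s : ℕ × ℕ × ℕ) : Option ℕ :=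
  if s.1 = 0 then some (F.getD s.2.1 0 &&& F.getD s.2.2 0)
  else if s.1 = 1 then some (F.getD s.2.1 0 ^^^ (F.getD s.2.1 0 &&& F.getD s.2.2 0))
  else if memb s.2.1 && Nat.blt s.2.1 16777216 && Nat.beq (pc24 s.2.1) 8 &&
      Nat.ble 5 (pc24 (s.2.1 &&& s.2.2)) &&
      (allLt 24 fun j => !s.2.2.testBit j || F.any (Nat.beq (2 ^ j))) then some s.2.1 else none

/-- All deduction steps; at the end every point must be fixed. -/
noncomputable def baseCheck : List ℕ → List (ℕ × ℕ × ℕ) → Bool
  | F, [] => allLt 24 fun j => F.any (Nat.beq (2 ^ j))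
  | F, s :: ss => match baseStep F s with
    | some v => baseCheck (F ++ [v]) ss
    | none => false

theorem toSet_two_pow {j : ℕ} (hj : j < 24) : toSet (2 ^ j) = {pt j} := by
  ext p
  rw [mem_toSet, Nat.testBit_two_pow, decide_eq_true_eq, Finset.mem_singleton]
  exact ⟨fun h => by rw [h, pt_bit], fun h => by rw [h, bit_pt hj]⟩

theorem fixed_of_two_pow {σ : Equiv.Perm GolayPt} {j : ℕ} (hj : j < 24)
    (h : σ • toSet (2 ^ j) = toSet (2 ^ j)) : σ (pt j) = pt j := by
  have := Finset.smul_mem_smul_finset (a := σ) (show pt j ∈ toSet (2 ^ j) by simp [toSet_two_pow hj])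
  rw [h, toSet_two_pow hj, Finset.mem_singleton] at this
  exact this

theorem baseCheck_spec {σ : Equiv.Perm GolayPt} (hσ : σ ∈ M24) :
    ∀ (ss : List (ℕ × ℕ × ℕ)) (F : List ℕ), (∀ n ∈ F, σ • toSet n = toSet n) →
      baseCheck F ss = true → σ = 1
  | [], F, hF, h => by
    ext p : 1
    obtain ⟨n, hn, hnb⟩ := List.any_eq_true.1 (allLt_spec h _ (bit_lt p))
    rw [Equiv.Perm.one_apply]
    have := fixed_of_two_pow (bit_lt p) (σ := σ) (Nat.eq_of_beq_eq_true hnb ▸ hF n hn)
    rwa [pt_bit] at this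
  | s :: ss, F, hF, h => by
    have hget : ∀ i, σ • toSet (F.getD i 0) = toSet (F.getD i 0) := fun i => by
      rcases lt_or_ge i F.length with hi | hi
      · rw [List.getD_eq_getElem _ _ hi]; exact hF _ (List.getElem_mem hi)
      · rw [List.getD_eq_default _ _ hi, show toSet 0 = ∅ by ext p; simp [mem_toSet]]
        exact Finset.smul_finset_empty _
    simp only [baseCheck] at h
    split at h
    rotate_left
    · exact absurd h Bool.false_ne_true
    next v hv =>
      refine baseCheck_spec hσ ss (F ++ [v]) (fun n hn => ?_) h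
      rcases List.mem_append.1 hn with hn | hn
      · exact hF n hn
      rw [List.mem_singleton] at hn
      subst hn
      obtain ⟨tag, o, m⟩ := s
      unfold baseStep at hv
      split_ifs at hv with h0 h1 hc
      · obtain rfl := Option.some_injective _ hv
        rw [toSet_and, Finset.smul_finset_inter, hget, hget]
      · obtain rfl := Option.some_injective _ hv
        rw [toSet_xor, toSet_and, Finset.smul_finset_symmDiff, Finset.smul_finset_inter, hget, hget]
      · obtain rfl := Option.some_injective _ hv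
        simp only [Bool.and_eq_true, Nat.blt_eq, Nat.beq_eq, Nat.ble_eq, pc24_eq] at hc
        obtain ⟨⟨⟨⟨h1, h2⟩, h3⟩, h4⟩, h5⟩ := hc
        have ho : toSet o ∈ octads :=
          ⟨(toSet_mem_supports h2).2 h1, by rw [card_toSet]; exact h3⟩
        refine octad_eq_of_five ((M24_smul_mem_octads hσ).2 ho) ho ?_
        refine le_trans ?_ (Finset.card_le_card (s := toSet (o &&& m)) ?_)
        · rw [card_toSet]; exact h4
        intro p hp
        rw [toSet_and, Finset.mem_inter] at hp
        have hfix : σ p = p := by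
          have hm := mem_toSet.1 hp.2
          have h6 := allLt_spec h5 _ (bit_lt p)
          rw [hm] at h6
          obtain ⟨n, hn, hnb⟩ := List.any_eq_true.1 (show F.any (Nat.beq (2 ^ bit p)) = true from h6)
          have := fixed_of_two_pow (bit_lt p) (σ := σ) (Nat.eq_of_beq_eq_true hnb ▸ hF n hn)
          rwa [pt_bit] at this
        exact Finset.mem_inter.2
          ⟨Finset.mem_smul_finset.2 ⟨p, hp.1, hfix⟩, hp.1⟩

end CfsgLib.Golay
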