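import Cfsg.Agent.Lib.Golay.Basic

/-!
The model used for the uniqueness of the code: 16-bit masks of affine and quadratic functions on the
four-dimensional binary space, the values attached to pairs of octad points, and their checks.
-/

set_option autoImplicit false

namespace CfsgLib.Golay.Unique

/-- The affine function with coefficient bits `k` (bit 4 is the constant), as a mask. -/
def affMask (k : ℕ) : ℕ :=
  term 0 43690 k ^^^ term 1 52428 k ^^^ term 2 61680 k ^^^ term 3 65280 k ^^^ term 4 65535 k

/-- The quadratic monomials with coefficient bits `q`, as a mask. -/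
def quadMask (q : ℕ) : ℕ :=
  term 0 34952 q ^^^ term 1 41120 q ^^^ term 2 43520 q ^^^ term 3 49344 q ^^^ term 4 52224 q ^^^
    term 5 61440 q

/-- One bit of a mask. -/
def bit1 (h i : ℕ) : ℕ := Nat.land (Nat.shiftRight h i) 1

/-- The sum of three bits and a fourth, modulo 2. -/
def coef2 (h i j : ℕ) : ℕ := bit1 h 0 ^^^ bit1 h i ^^^ bit1 h j ^^^ bit1 h (i + j)

/-- The quadratic coefficients of a mask. -/
def qCoef (h : ℕ) : ℕ :=
  coef2 h 1 2 ||| (coef2 h 1 4 <<< 1) ||| (coef2 h 1 8 <<< 2) ||| (coef2 h 2 4 <<< 3) |||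
    (coef2 h 2 8 <<< 4) ||| (coef2 h 4 8 <<< 5)

/-- The affine coefficients of a mask. -/
def aCoef (h : ℕ) : ℕ :=
  (bit1 h 0 ^^^ bit1 h 1) ||| ((bit1 h 0 ^^^ bit1 h 2) <<< 1) |||
    ((bit1 h 0 ^^^ bit1 h 4) <<< 2) ||| ((bit1 h 0 ^^^ bit1 h 8) <<< 3) ||| (bit1 h 0 <<< 4)

/-- `h` has even intersection with the mask `l`. -/
def evenAnd (h l : ℕ) : Bool := Nat.beq (Nat.land (pc24 (Nat.land h l)) 1) 0

/-- `h` is orthogonal to all affine functions. -/
def orthAff (h : ℕ) : Bool :=
  evenAnd h 65535 && evenAnd h 43690 && evenAnd h 52428 && evenAnd h 61680 && evenAnd h 65280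

set_option maxHeartbeats 4000000 in
theorem orth_check : allR (fun h => !orthAff h ||
    (Nat.beq (quadMask (qCoef h) ^^^ affMask (aCoef h)) h && Nat.blt (qCoef h) 64 &&
      Nat.blt (aCoef h) 32)) 16 0 = true := by
  decide +kernel

theorem coef_check : allR (fun q => allR (fun k =>
    Nat.beq (qCoef (quadMask q ^^^ affMask k)) q) 5 0) 6 0 = true := by
  decide +kernel

theorem quad_xor (p q : ℕ) : quadMask (p ^^^ q) = quadMask p ^^^ quadMask q := by
  simp only [quadMask, term_xor]
  ac_rfl

theorem aff_xor (p q : ℕ) : affMask (p ^^^ q) = affMask p ^^^ affMask q := by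
  simp only [affMask, term_xor]
  ac_rfl

theorem orth_spec {h : ℕ} (hh : h < 2 ^ 16)
    (ho : ∀ l ∈ [65535, 43690, 52428, 61680, 65280], pc 24 (h &&& l) % 2 = 0) :
    quadMask (qCoef h) ^^^ affMask (aCoef h) = h ∧ qCoef h < 64 ∧ aCoef h < 32 := by
  have hs := allR_spec orth_check h (Nat.zero_le _) (by simpa using hh)
  have h1 : ∀ l ∈ [65535, 43690, 52428, 61680, 65280], evenAnd h l = true := fun l hl => by
    show Nat.beq (pc24 (h &&& l) &&& 1) 0 = true
    rw [Nat.beq_eq, pc24_eq, Nat.and_one_is_mod]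
    exact ho l hl
  have h2 : orthAff h = true := by
    simp only [orthAff, Bool.and_eq_true]
    exact ⟨⟨⟨⟨h1 _ (by decide), h1 _ (by decide)⟩, h1 _ (by decide)⟩, h1 _ (by decide)⟩,
      h1 _ (by decide)⟩
  simp only [h2, Bool.not_true, Bool.false_or, Bool.and_eq_true, Nat.beq_eq, Nat.blt_eq] at hs
  exact ⟨hs.1.1, hs.1.2, hs.2⟩

theorem qCoef_spec {q k : ℕ} (hq : q < 64) (hk : k < 32) :
    qCoef (quadMask q ^^^ affMask k) = q :=
  Nat.eq_of_beq_eq_true
    (allR_spec (allR_spec coef_check q (Nat.zero_le _) (by simpa using hq)) k (Nat.zero_le _)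
      (by simpa using hk))

/-- All affine translates of the quadratic function have weight 6 or 10. -/
def isBent (q : ℕ) : Bool :=
  allR (fun k => let w := pc24 (quadMask q ^^^ affMask k); Nat.beq w 6 || Nat.beq w 10) 5 0

/-- The quadratic functions all of whose affine translates have weight 6 or 10. -/
def bentList : List ℕ :=
  [12, 13, 14, 15, 18, 19, 22, 23, 26, 27, 28, 29, 33, 35, 37, 39, 41, 43, 44, 46, 49, 50, 53, 54,
    57, 58, 60, 63]

theorem bentList_eq : (List.range 64).filter isBent = bentList := by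
  decide +kernel

theorem mem_bentList {q : ℕ} (hq : q < 64)
    (h : ∀ k, k < 32 → pc 24 (quadMask q ^^^ affMask k) = 6 ∨ pc 24 (quadMask q ^^^ affMask k) = 10) :
    q ∈ bentList := by
  rw [← bentList_eq, List.mem_filter, List.mem_range]
  refine ⟨hq, ?_⟩
  have : ∀ k lo, lo + 2 ^ k ≤ 32 →
      allR (fun k => let w := pc24 (quadMask q ^^^ affMask k); Nat.beq w 6 || Nat.beq w 10) k lo
        = true := by
    intro k
    induction k with
    | zero =>
      intro lo hlo
      show (Nat.beq _ 6 || Nat.beq _ 10) = true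
      rw [pc24_eq, Bool.or_eq_true, Nat.beq_eq, Nat.beq_eq]
      exact h lo (by simpa using hlo)
    | succ k ih =>
      intro lo hlo
      rw [pow_succ] at hlo
      rw [allR, ih lo (by omega), ih (lo + 2 ^ k) (by omega)]
      rfl
  exact this 5 0 (by norm_num)

/-- The values attached to the pairs of the first octad point with the others in the model code. -/
def pairVal : List ℕ := [0, 63, 22, 44, 13, 49, 35, 26]

/-- The final test of the search. -/
def starTest (ch : List ℕ) : Bool :=
  (List.range 8).any fun k => ch.all fun a =>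
    pairVal.any (Nat.beq (a ^^^ pairVal.getD k 0))

/-- Search through all sets of pairwise compatible values. -/
def search : List ℕ → List ℕ → ℕ → Bool
  | _, ch, 0 => starTest ch
  | [], _, _ + 1 => true
  | v :: vs, ch, k + 1 =>
    search vs ch (k + 1) &&
      (!(ch.all fun a => bentList.any (Nat.beq (v ^^^ a))) || search vs (v :: ch) k)

set_option maxHeartbeats 4000000 in
theorem search_check : search bentList [] 7 = true := by
  decide +kernel

theorem search_spec (S : Finset ℕ)
    (hS : ∀ a ∈ S, ∀ b ∈ S, a ≠ b → a ^^^ b ∈ bentList) :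
    ∀ (vs ch : List ℕ) (k : ℕ), vs.Nodup → ch.Nodup → (∀ a ∈ ch, a ∈ S ∧ a ∉ vs) →
      (∀ a ∈ S, a ∈ ch ∨ a ∈ vs) → S.card = ch.length + k → search vs ch k = true →
      ∃ k₁ < 8, ∀ a ∈ S, a ^^^ pairVal.getD k₁ 0 ∈ pairVal
  | vs, ch, 0, _, hch, hsub, _, hcard, h => by
    have hfin : ∀ a ∈ S, a ∈ ch := by
      have he : ch.toFinset = S := Finset.eq_of_subset_of_card_le
        (fun a ha => (hsub a (List.mem_toFinset.1 ha)).1)
        (by rw [List.toFinset_card_of_nodup hch]; omega)
      exact fun a ha => List.mem_toFinset.1 (he ▸ ha)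
    have h' : starTest ch = true := by rwa [search] at h
    obtain ⟨k₁, hk₁, hall⟩ := List.any_eq_true.1 h'
    refine ⟨k₁, List.mem_range.1 hk₁, fun a ha => ?_⟩
    obtain ⟨p, hp, hpe⟩ := List.any_eq_true.1 (List.all_eq_true.1 hall a (hfin a ha))
    rwa [Nat.eq_of_beq_eq_true hpe]
  | [], ch, k + 1, _, hch, hsub, hcov, hcard, _ => by
    exfalso
    have he : S ⊆ ch.toFinset := fun a ha =>
      List.mem_toFinset.2 ((hcov a ha).resolve_right List.not_mem_nil)
    have := Finset.card_le_card he
    rw [List.toFinset_card_of_nodup hch] at this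
    omega
  | v :: vs, ch, k + 1, hvs, hch, hsub, hcov, hcard, h => by
    rw [List.nodup_cons] at hvs
    simp only [search, Bool.and_eq_true, Bool.or_eq_true, Bool.not_eq_true'] at h
    by_cases hv : v ∈ S
    · have hvch : v ∉ ch := fun hm => (hsub v hm).2 List.mem_cons_self
      have hall : (ch.all fun a => bentList.any (Nat.beq (v ^^^ a))) = true := by
        refine List.all_eq_true.2 fun a ha => List.any_eq_true.2 ?_
        exact ⟨_, hS v hv a (hsub a ha).1 (fun he => hvch (he ▸ ha)), Nat.beq_refl _⟩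
      refine search_spec S hS vs (v :: ch) k hvs.2 (List.nodup_cons.2 ⟨hvch, hch⟩) ?_ ?_
        (by rw [List.length_cons]; omega) (h.2.resolve_left (by rw [hall]; simp))
      · intro a ha
        rcases List.mem_cons.1 ha with rfl | ha
        · exact ⟨hv, hvs.1⟩
        · exact ⟨(hsub a ha).1, fun hm => (hsub a ha).2 (List.mem_cons_of_mem _ hm)⟩
      · intro a ha
        rcases hcov a ha with h1 | h1
        · exact Or.inl (List.mem_cons_of_mem _ h1)
        · rcases List.mem_cons.1 h1 with rfl | h2
          · exact Or.inl List.mem_cons_self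
          · exact Or.inr h2
    · refine search_spec S hS vs ch (k + 1) hvs.2 hch
        (fun a ha => ⟨(hsub a ha).1, fun hm => (hsub a ha).2 (List.mem_cons_of_mem _ hm)⟩) ?_
        hcard h.1
      intro a ha
      rcases hcov a ha with h1 | h1
      · exact Or.inl h1
      · rcases List.mem_cons.1 h1 with rfl | h2
        · exact absurd ha hv
        · exact Or.inr h2

/-- Seven pairwise compatible values form a translate of the model values. -/
theorem exists_translate (S : Finset ℕ) (hsub : ∀ a ∈ S, a ∈ bentList)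
    (hS : ∀ a ∈ S, ∀ b ∈ S, a ≠ b → a ^^^ b ∈ bentList) (hcard : S.card = 7) :
    ∃ k₁ < 8, ∀ a ∈ S, a ^^^ pairVal.getD k₁ 0 ∈ pairVal :=
  search_spec S hS bentList [] 7 (by decide) List.nodup_nil (by simp)
    (fun a ha => Or.inr (hsub a ha)) (by simpa using hcard) search_check

/-- The quadratic value of a set of octad points given by a mask of eight bits. -/
def sVal (s : ℕ) : ℕ :=
  term 0 0 s ^^^ term 1 63 s ^^^ term 2 22 s ^^^ term 3 44 s ^^^ term 4 13 s ^^^ term 5 49 s ^^^
    term 6 35 s ^^^ term 7 26 s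

theorem sVal_xor (s t : ℕ) : sVal (s ^^^ t) = sVal s ^^^ sVal t := by
  simp only [sVal, term_xor]
  ac_rfl

theorem sVal_two_pow : ∀ k < 8, sVal (2 ^ k) = pairVal.getD k 0 := by
  decide +kernel

/-- Positions of the octad points, then of the 16 others, in the model code. -/
def posO : List ℕ := [0, 1, 2, 3, 5, 14, 17, 23]

/-- Positions of the 16 points outside the octad, by coordinates. -/
def posR : List ℕ := [4, 8, 9, 21, 10, 19, 22, 18, 11, 13, 7, 15, 6, 20, 12, 16]

/-- The coordinate of the point at each position. -/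
def posIdx : List ℕ :=
  [0, 1, 2, 3, 0, 4, 12, 10, 1, 2, 4, 8, 14, 9, 5, 11, 15, 6, 7, 5, 13, 3, 6, 7]

/-- The word with octad part `s` and remaining part `h`. -/
def spreadMask (s h : ℕ) : ℕ :=
  bitsOf (fun i => bif (8536111 : ℕ).testBit i then s.testBit (posIdx.getD i 0)
    else h.testBit (posIdx.getD i 0)) 24

theorem pos_checks :
    (∀ k < 8, posO.getD k 0 < 24 ∧ (8536111 : ℕ).testBit (posO.getD k 0) = true ∧
      posIdx.getD (posO.getD k 0) 0 = k) ∧
    ∀ k < 16, posR.getD k 0 < 24 ∧ (8536111 : ℕ).testBit (posR.getD k 0) = false ∧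
      posIdx.getD (posR.getD k 0) 0 = k := by
  decide +kernel

set_option maxHeartbeats 4000000 in
theorem spread_check : allR (fun s => !Nat.beq (Nat.land (pc24 s) 1) 0 ||
    allR (fun k => memb (spreadMask s (quadMask (sVal s) ^^^ affMask k))) 5 0) 8 0 = true := by
  decide +kernel

theorem spread_mem {s k : ℕ} (hs : s < 2 ^ 8) (hs2 : pc 24 s % 2 = 0) (hk : k < 32) :
    memb (spreadMask s (quadMask (sVal s) ^^^ affMask k)) = true := by
  have h := allR_spec spread_check s (Nat.zero_le _) (by simpa using hs)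
  have h0 : Nat.beq (Nat.land (pc24 s) 1) 0 = true := by
    show Nat.beq (pc24 s &&& 1) 0 = true
    rw [Nat.beq_eq, pc24_eq, Nat.and_one_is_mod]; exact hs2
  simp only [h0, Bool.not_true, Bool.false_or] at h
  exact allR_spec h k (Nat.zero_le _) (by simpa using hk)

theorem aff_single_check : ∀ i < 4, ∀ k < 16,
    (affMask (2 ^ i)).testBit k = k.testBit i ∧ (affMask 16).testBit k = true := by
  decide +kernel

theorem aff_lt : ∀ k < 32, affMask k < 2 ^ 16 := by
  decide +kernel

end CfsgLib.Golay.Unique
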