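import Cfsg.Agent.Lib.Golay.Octads
import Cfsg.Agent.Lib.Golay.UniqueModel
import Cfsg.Agent.Lib.Sporadic.AbstractGolay

/-!
Uniqueness of the binary code of length 24, dimension 12 and minimum weight 8.
-/

set_option autoImplicit false

namespace CfsgLib.Golay.Unique

open Cfsg CfsgLib.Sporadic.AbstractGolay
open scoped symmDiff

variable {α : Type*} [Fintype α] [DecidableEq α]

/-! ### Masks of sets -/

/-- The mask of the image of a set under a numbering. -/
def maskOf (g : α → ℕ) (n : ℕ) (A : Finset α) : ℕ :=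
  bitsOf (fun k => decide (∃ i ∈ A, g i = k)) n

omit [Fintype α] [DecidableEq α] in
theorem testBit_maskOf {g : α → ℕ} {n : ℕ} {U A : Finset α} (hg : Set.InjOn g U)
    (hlt : ∀ i ∈ U, g i < n) (hA : A ⊆ U) {i : α} (hi : i ∈ U) :
    (maskOf g n A).testBit (g i) = true ↔ i ∈ A := by
  rw [maskOf, testBit_bitsOf, Bool.and_eq_true, decide_eq_true_eq, decide_eq_true_eq]
  refine ⟨fun h => ?_, fun h => ⟨hlt i hi, i, h, rfl⟩⟩
  obtain ⟨-, j, hj, hji⟩ := h
  exact hg (hA hj) hi hji ▸ hj

omit [Fintype α] [DecidableEq α] in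
theorem testBit_maskOf_iff (g : α → ℕ) (n : ℕ) (A : Finset α) (k : ℕ) :
    (maskOf g n A).testBit k = true ↔ k < n ∧ ∃ i ∈ A, g i = k := by
  rw [maskOf, testBit_bitsOf, Bool.and_eq_true, decide_eq_true_eq, decide_eq_true_eq]

omit [Fintype α] in
theorem maskOf_symmDiff {g : α → ℕ} {n : ℕ} {U A B : Finset α} (hg : Set.InjOn g U)
    (hA : A ⊆ U) (hB : B ⊆ U) : maskOf g n (A ∆ B) = maskOf g n A ^^^ maskOf g n B := by
  refine Nat.eq_of_testBit_eq fun k => ?_
  have hx : ∀ p q : Bool, ((p ^^ q) = true ↔ (p = true ∧ ¬ q = true) ∨ (q = true ∧ ¬ p = true)) := by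
    decide
  rw [Nat.testBit_xor, Bool.eq_iff_iff, hx, testBit_maskOf_iff, testBit_maskOf_iff,
    testBit_maskOf_iff]
  constructor
  · rintro ⟨hk, i, hi, rfl⟩
    rcases Finset.mem_symmDiff.1 hi with ⟨h1, h2⟩ | ⟨h1, h2⟩
    · exact Or.inl ⟨⟨hk, i, h1, rfl⟩, fun ⟨_, j, hj, hji⟩ => h2 (hg (hB hj) (hA h1) hji ▸ hj)⟩
    · exact Or.inr ⟨⟨hk, i, h1, rfl⟩, fun ⟨_, j, hj, hji⟩ => h2 (hg (hA hj) (hB h1) hji ▸ hj)⟩
  · rintro (⟨⟨hk, i, hi, rfl⟩, h⟩ | ⟨⟨hk, i, hi, rfl⟩, h⟩)
    · exact ⟨hk, i, Finset.mem_symmDiff.2 (Or.inl ⟨hi, fun hb => h ⟨hk, i, hb, rfl⟩⟩), rfl⟩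
    · exact ⟨hk, i, Finset.mem_symmDiff.2 (Or.inr ⟨hi, fun hb => h ⟨hk, i, hb, rfl⟩⟩), rfl⟩

omit [Fintype α] in
theorem maskOf_inter {g : α → ℕ} {n : ℕ} {U A B : Finset α} (hg : Set.InjOn g U)
    (hA : A ⊆ U) (hB : B ⊆ U) : maskOf g n (A ∩ B) = maskOf g n A &&& maskOf g n B := by
  refine Nat.eq_of_testBit_eq fun k => ?_
  rw [Nat.testBit_and, Bool.eq_iff_iff, Bool.and_eq_true, testBit_maskOf_iff, testBit_maskOf_iff,
    testBit_maskOf_iff]
  constructor
  · rintro ⟨hk, i, hi, rfl⟩
    exact ⟨⟨hk, i, (Finset.mem_inter.1 hi).1, rfl⟩, hk, i, (Finset.mem_inter.1 hi).2, rfl⟩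
  · rintro ⟨⟨hk, i, hi, rfl⟩, -, j, hj, hji⟩
    exact ⟨hk, i, Finset.mem_inter.2 ⟨hi, hg (hB hj) (hA hi) hji ▸ hj⟩, rfl⟩

omit [Fintype α] [DecidableEq α] in
theorem pc_maskOf {g : α → ℕ} {n : ℕ} {U A : Finset α} (hg : Set.InjOn g U)
    (hlt : ∀ i ∈ U, g i < n) (hn : n ≤ 24) (hA : A ⊆ U) : pc 24 (maskOf g n A) = A.card := by
  rw [pc_eq_card]
  refine (Finset.card_nbij g (fun i hi => ?_) (hg.mono (Finset.coe_subset.2 hA)) fun k hk => ?_).symm
  · exact Finset.mem_filter.2 ⟨Finset.mem_range.2 (lt_of_lt_of_le (hlt i (hA hi)) hn),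
      (testBit_maskOf_iff g n A (g i)).2 ⟨hlt i (hA hi), i, hi, rfl⟩⟩
  · rw [Finset.mem_coe, Finset.mem_filter, testBit_maskOf_iff] at hk
    obtain ⟨-, -, i, hi, rfl⟩ := hk
    exact ⟨i, hi, rfl⟩

omit [Fintype α] [DecidableEq α] in
theorem maskOf_inj {g : α → ℕ} {n : ℕ} {U A B : Finset α} (hg : Set.InjOn g U)
    (hlt : ∀ i ∈ U, g i < n) (hA : A ⊆ U) (hB : B ⊆ U) (h : maskOf g n A = maskOf g n B) :
    A = B := by
  refine Finset.Subset.antisymm (fun i hi => ?_) fun i hi => ?_
  · rw [← testBit_maskOf hg hlt hB (hA hi), ← h, testBit_maskOf hg hlt hA (hA hi)]; exact hi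
  · rw [← testBit_maskOf hg hlt hA (hB hi), h, testBit_maskOf hg hlt hB (hB hi)]; exact hi

omit [Fintype α] [DecidableEq α] in
theorem maskOf_lt (g : α → ℕ) (n : ℕ) (A : Finset α) : maskOf g n A < 2 ^ n := bitsOf_lt _ n

omit [Fintype α] in
theorem symmDiff_inter (a b U : Finset α) : (a ∆ b) ∩ U = (a ∩ U) ∆ (b ∩ U) := by
  ext; simp only [Finset.mem_inter, Finset.mem_symmDiff]; tauto

/-! ### Basic facts on an abstract code -/

variable {K : Finset (Finset α)}

theorem four_dvd (hK : IsGolay K) {a : Finset α} (ha : a ∈ K) : 4 ∣ a.card :=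
  (doublyEven_and_generated hK (fun _ => True) trivial (fun _ _ _ _ _ _ => trivial) a ha).1

theorem exists_odd_block {B : Set (Finset α)} (hα : Fintype.card α = 24)
    (hB : IsSteinerSystem 5 8 B) {a : Finset α} (hne : a.Nonempty) (h4 : a.card ≤ 4) :
    ∃ o ∈ B, ¬ Even (a ∩ o).card := by
  by_cases he : Even a.card
  · obtain ⟨x, hx⟩ := hne
    have hcard : (a.erase x).card = a.card - 1 := Finset.card_erase_of_mem hx
    obtain ⟨T, hT1, hT2, hTc⟩ := Finset.exists_subsuperset_card_eq (s := a.erase x)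
      (t := (Finset.univ : Finset α).erase x) (n := 4)
      (fun y hy => Finset.mem_erase.2 ⟨Finset.ne_of_mem_erase hy, Finset.mem_univ y⟩)
      (by omega) (by rw [Finset.card_erase_of_mem (Finset.mem_univ x), Finset.card_univ, hα]; norm_num)
    obtain ⟨p, -, hp⟩ : ∃ p ∈ (Finset.univ : Finset α), p ∉ T := by
      refine Finset.exists_mem_notMem_of_card_lt_card ?_
      rw [Finset.card_univ, hα]; omega
    obtain ⟨o₁, ⟨ho₁, hs₁⟩, -⟩ := hB.2 (insert p T)
      (by rw [Finset.card_insert_of_notMem hp, hTc])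
    obtain ⟨q, -, hq⟩ : ∃ q ∈ (Finset.univ : Finset α), q ∉ o₁ := by
      refine Finset.exists_mem_notMem_of_card_lt_card ?_
      rw [Finset.card_univ, hα, hB.1 o₁ ho₁]; norm_num
    have hqT : q ∉ T := fun h => hq (hs₁ (Finset.mem_insert_of_mem h))
    obtain ⟨o₂, ⟨ho₂, hs₂⟩, -⟩ := hB.2 (insert q T)
      (by rw [Finset.card_insert_of_notMem hqT, hTc])
    have hx' : x ∉ o₁ ∨ x ∉ o₂ := by
      by_contra hcon
      push Not at hcon
      have hxT : x ∉ T := fun h => (Finset.mem_erase.1 (hT2 h)).1 rfl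
      obtain ⟨o, -, huniq⟩ := hB.2 (insert x T)
        (by rw [Finset.card_insert_of_notMem hxT, hTc])
      have e1 := huniq o₁ ⟨ho₁, Finset.insert_subset hcon.1
        fun y hy => hs₁ (Finset.mem_insert_of_mem hy)⟩
      have e2 := huniq o₂ ⟨ho₂, Finset.insert_subset hcon.2
        fun y hy => hs₂ (Finset.mem_insert_of_mem hy)⟩
      exact hq (e1.trans e2.symm ▸ hs₂ (Finset.mem_insert_self q T))
    have key : ∀ o : Finset α, T ⊆ o → x ∉ o → ¬ Even (a ∩ o).card := by
      intro o hTo hxo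
      have : a ∩ o = a.erase x := by
        ext y
        simp only [Finset.mem_inter, Finset.mem_erase]
        refine ⟨fun h => ⟨fun hyx => hxo (hyx ▸ h.2), h.1⟩, fun h => ⟨h.2, ?_⟩⟩
        exact hTo (hT1 (Finset.mem_erase.2 h))
      rw [this, hcard]
      intro hev
      obtain ⟨r, hr⟩ := he
      obtain ⟨r', hr'⟩ := hev
      have := Finset.card_pos.2 ⟨x, hx⟩
      omega
    rcases hx' with h | h
    · exact ⟨o₁, ho₁, key o₁ (fun y hy => hs₁ (Finset.mem_insert_of_mem hy)) h⟩
    · exact ⟨o₂, ho₂, key o₂ (fun y hy => hs₂ (Finset.mem_insert_of_mem hy)) h⟩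
  · obtain ⟨s, hs, hsc⟩ := Finset.exists_superset_card_eq (s := a) (n := 5) (by omega)
      (by rw [hα]; norm_num)
    obtain ⟨o, ⟨ho, hso⟩, -⟩ := hB.2 s hsc
    exact ⟨o, ho, by rwa [Finset.inter_eq_left.2 (hs.trans hso)]⟩

theorem exists_odd_octad (hK : IsGolay K) {a : Finset α} (hne : a.Nonempty) (h4 : a.card ≤ 4) :
    ∃ o ∈ K, ¬ Even (a ∩ o).card := by
  obtain ⟨o, ho, h⟩ := exists_odd_block hK.points (B := {o | o ∈ K ∧ o.card = 8})
    ⟨fun o ho => ho.2, fun s hs => octad_existsUnique hK hs⟩ hne h4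
  exact ⟨o, ho.1, h⟩

theorem univ_mem (hK : IsGolay K) : (Finset.univ : Finset α) ∈ K := by
  obtain ⟨a, ha⟩ := exists_leader hK Finset.univ
  rw [mem_leaders] at ha
  rcases a.eq_empty_or_nonempty with rfl | hne
  · have h := ha.2
    rwa [show (∅ : Finset α) = ⊥ from rfl, bot_symmDiff] at h
  exfalso
  obtain ⟨o, ho, hodd⟩ := exists_odd_octad hK hne ha.1
  refine hodd ?_
  obtain ⟨r, hr⟩ := hK.even_inter _ ha.2 o ho
  obtain ⟨r', hr'⟩ := even_card hK ho
  have h1 : (a ∆ Finset.univ) ∩ o = o \ a := by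
    ext y; simp only [Finset.mem_inter, Finset.mem_symmDiff, Finset.mem_univ, Finset.mem_sdiff]; tauto
  rw [h1] at hr
  have := Finset.card_sdiff_add_card_inter o a
  rw [Finset.inter_comm o a] at this
  exact ⟨r' - r, by omega⟩

theorem weights (hK : IsGolay K) {a : Finset α} (ha : a ∈ K) :
    a.card = 0 ∨ a.card = 8 ∨ a.card = 12 ∨ a.card = 16 ∨ a.card = 24 := by
  have h1 := four_dvd hK ha
  have h2 : a.card ≤ 24 := hK.points ▸ Finset.card_le_univ a
  have h3 : a.card ≠ 0 → 8 ≤ a.card := fun h => hK.min_weight a ha (fun h0 => h (by simp [h0]))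
  have h4 : a ∆ Finset.univ ≠ ∅ → 8 ≤ (a ∆ Finset.univ).card :=
    hK.min_weight _ (hK.symm_mem a ha _ (univ_mem hK))
  have h5 := card_symmDiff_add a Finset.univ
  rw [Finset.inter_univ, Finset.card_univ, hK.points] at h5
  by_cases h6 : a ∆ Finset.univ = ∅
  · rw [h6, Finset.card_empty] at h5; omega
  · have := h4 h6; omega

/-! ### The part avoiding an octad -/

/-- The members avoiding `O`. -/
def avoid (K : Finset (Finset α)) (O : Finset α) : Finset (Finset α) :=
  K.filter fun a => a ∩ O = ∅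

theorem avoid_facts (hK : IsGolay K) {O : Finset α} (hO : O ∈ K) (hO8 : O.card = 8)
    {a : Finset α} (ha : a ∈ avoid K O) :
    a ⊆ Oᶜ ∧ (a.card = 0 ∨ a.card = 8 ∨ a.card = 16) := by
  rw [avoid, Finset.mem_filter] at ha
  refine ⟨fun y hy => Finset.mem_compl.2 fun hyO =>
    Finset.notMem_empty y (ha.2 ▸ Finset.mem_inter.2 ⟨hy, hyO⟩), ?_⟩
  have h1 := weights hK ha.1
  have h2 := weights hK (hK.symm_mem a ha.1 O hO)
  have h3 := card_symmDiff_add a O
  rw [ha.2, Finset.card_empty, hO8] at h3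
  omega

theorem avoid_symm (hK : IsGolay K) {O a b : Finset α} (ha : a ∈ avoid K O) (hb : b ∈ avoid K O) :
    a ∆ b ∈ avoid K O := by
  rw [avoid, Finset.mem_filter] at ha hb ⊢
  exact ⟨hK.symm_mem a ha.1 b hb.1, by rw [symmDiff_inter, ha.2, hb.2, symmDiff_self]; rfl⟩

theorem compl_mem_avoid (hK : IsGolay K) {O : Finset α} (hO : O ∈ K) : Oᶜ ∈ avoid K O := by
  rw [avoid, Finset.mem_filter]
  refine ⟨?_, by ext; simp⟩
  have : Oᶜ = O ∆ Finset.univ := by ext; simp [Finset.mem_symmDiff]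
  exact this ▸ hK.symm_mem O hO _ (univ_mem hK)

/-- Half of the members avoiding `O`, and the counting that separates points. -/
theorem avoid_counts (hK : IsGolay K) {O : Finset α} (hO : O ∈ K) (hO8 : O.card = 8) {x : α}
    (hx : x ∉ O) :
    let E := (avoid K O).filter fun a => x ∉ a
    (avoid K O).card = 2 * E.card ∧ E.card ≤ 16 ∧
      (E.card = 16 → ∀ y, y ∉ O → y ≠ x → ∃ a ∈ E, y ∈ a) := by
  intro E
  have hR : (Oᶜ : Finset α).card = 16 := by rw [Finset.card_compl, hK.points, hO8]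
  have hmemE : ∀ a, a ∈ E ↔ a ∈ avoid K O ∧ x ∉ a := fun a => Finset.mem_filter
  have hhalf : (avoid K O).card = 2 * E.card := by
    rw [← Finset.card_filter_add_card_filter_not (s := avoid K O) (fun a => x ∉ a), two_mul]
    congr 1
    refine Finset.card_nbij' (fun a => a ∆ Oᶜ) (fun a => a ∆ Oᶜ) ?_ ?_
      (fun a _ => symmDiff_symmDiff_cancel_right _ _) (fun a _ => symmDiff_symmDiff_cancel_right _ _)
    · intro a ha
      simp only [Finset.mem_coe, Finset.mem_filter, not_not] at ha ⊢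
      exact (hmemE _).2 ⟨avoid_symm hK ha.1 (compl_mem_avoid hK hO),
        by simp [Finset.mem_symmDiff, ha.2, hx]⟩
    · intro a ha
      simp only [Finset.mem_coe, Finset.mem_filter, not_not] at ha ⊢
      have ha' := (hmemE a).1 ha
      exact ⟨avoid_symm hK ha'.1 (compl_mem_avoid hK hO), by simp [Finset.mem_symmDiff, ha'.2, hx]⟩
  have hsum : ∑ y ∈ Oᶜ.erase x, 2 * (E.filter fun a => y ∈ a).card + 16 = 16 * E.card := by
    have he : ∅ ∈ E := (hmemE ∅).2
      ⟨Finset.mem_filter.2 ⟨hK.empty_mem, Finset.empty_inter O⟩, Finset.notMem_empty x⟩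
    have h1 : ∀ a ∈ E, ((Oᶜ.erase x).filter fun y => y ∈ a).card = if a = ∅ then 0 else 8 := by
      intro a ha
      obtain ⟨hsub, hw⟩ := avoid_facts hK hO hO8 ((hmemE a).1 ha).1
      have : (Oᶜ.erase x).filter (fun y => y ∈ a) = a := by
        ext y
        simp only [Finset.mem_filter, Finset.mem_erase]
        exact ⟨fun h => h.2, fun h => ⟨⟨fun hyx => ((hmemE a).1 ha).2 (hyx ▸ h), hsub h⟩, h⟩⟩
      rw [this]
      split
      · next h => simp [h]
      · next h =>
        rcases hw with h0 | h8 | h16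
        · exact absurd (Finset.card_eq_zero.1 h0) h
        · exact h8
        · exfalso
          have := Finset.eq_of_subset_of_card_le hsub (by omega)
          exact ((hmemE a).1 ha).2 (this ▸ Finset.mem_compl.2 hx)
    have h2 : ∑ y ∈ Oᶜ.erase x, (E.filter fun a => y ∈ a).card
        = ∑ a ∈ E, ((Oᶜ.erase x).filter fun y => y ∈ a).card := by
      simp only [Finset.card_filter]
      exact Finset.sum_comm
    rw [← Finset.mul_sum, h2, Finset.sum_congr rfl h1, ← Finset.add_sum_erase E _ he, if_pos rfl,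
      zero_add, Finset.sum_congr rfl (g := fun _ => 8) (fun a ha => if_neg (Finset.ne_of_mem_erase ha)),
      Finset.sum_const, Finset.card_erase_of_mem he, smul_eq_mul]
    have := Finset.card_pos.2 ⟨∅, he⟩
    omega
  have hterm : ∀ y ∈ Oᶜ.erase x, 2 * (E.filter fun a => y ∈ a).card ≤ E.card ∧
      ((∃ a ∈ E, y ∈ a) → 2 * (E.filter fun a => y ∈ a).card = E.card) := by
    intro y _
    by_cases hy : ∃ a ∈ E, y ∈ a
    · obtain ⟨b, hb, hyb⟩ := hy
      have hb' := (hmemE b).1 hb
      have : 2 * (E.filter fun a => y ∈ a).card = E.card := by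
        conv_rhs => rw [← Finset.card_filter_add_card_filter_not (s := E) (fun a => y ∈ a)]
        rw [two_mul]
        congr 1
        refine Finset.card_nbij' (fun a => a ∆ b) (fun a => a ∆ b) ?_ ?_
          (fun a _ => symmDiff_symmDiff_cancel_right _ _) (fun a _ => symmDiff_symmDiff_cancel_right _ _)
        all_goals
          intro a ha
          simp only [Finset.mem_coe, Finset.mem_filter] at ha ⊢
          have ha' := (hmemE a).1 ha.1
          exact ⟨(hmemE _).2 ⟨avoid_symm hK ha'.1 hb'.1,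
            by simp [Finset.mem_symmDiff, ha'.2, hb'.2]⟩, by simp [Finset.mem_symmDiff, ha.2, hyb]⟩
      exact ⟨this.le, fun _ => this⟩
    · refine ⟨?_, fun h => absurd h hy⟩
      rw [Finset.filter_false_of_mem (fun a ha h => hy ⟨a, ha, h⟩)]
      simp
  have hcardR : (Oᶜ.erase x).card = 15 := by
    rw [Finset.card_erase_of_mem (Finset.mem_compl.2 hx), hR]
  have hle : ∑ y ∈ Oᶜ.erase x, 2 * (E.filter fun a => y ∈ a).card ≤ 15 * E.card := by
    refine (Finset.sum_le_sum fun y hy => (hterm y hy).1).trans ?_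
    rw [Finset.sum_const, hcardR, smul_eq_mul]
  refine ⟨hhalf, by omega, fun h16 y hyO hyx => ?_⟩
  by_contra hcon
  have hy : y ∈ Oᶜ.erase x := Finset.mem_erase.2 ⟨hyx, Finset.mem_compl.2 hyO⟩
  have hz : (E.filter fun a => y ∈ a).card = 0 := by
    rw [Finset.card_eq_zero, Finset.filter_eq_empty_iff]
    exact fun a ha h => hcon ⟨a, ha, h⟩
  have h2 : ∑ z ∈ (Oᶜ.erase x).erase y, 2 * (E.filter fun a => z ∈ a).card ≤ 14 * 16 := by
    refine (Finset.sum_le_sum fun z hz => (hterm z (Finset.mem_of_mem_erase hz)).1).trans ?_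
    rw [Finset.sum_const, Finset.card_erase_of_mem hy, hcardR, smul_eq_mul, h16]
  rw [← Finset.add_sum_erase _ _ hy, hz] at hsum
  omega

theorem avoid_card (hK : IsGolay K) {O : Finset α} (hO : O ∈ K) (hO8 : O.card = 8) :
    (avoid K O).card = 32 ∧
      ∀ i ∈ O, ∀ j ∈ O, i ≠ j → ∃ a ∈ K, a ∩ O = {i, j} := by
  obtain ⟨x, -, hx⟩ : ∃ x ∈ (Finset.univ : Finset α), x ∉ O :=
    Finset.exists_mem_notMem_of_card_lt_card (by rw [Finset.card_univ, hK.points, hO8]; norm_num)
  obtain ⟨hhalf, hE, -⟩ := avoid_counts hK hO hO8 hx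
  set Im := K.image (fun a => a ∩ O) with hIm
  have hfib : ∀ E ∈ Im, (K.filter fun a => a ∩ O = E).card = (avoid K O).card := by
    intro E hEI
    obtain ⟨b, hb, rfl⟩ := Finset.mem_image.1 hEI
    refine Finset.card_nbij' (fun a => a ∆ b) (fun a => a ∆ b) ?_ ?_
      (fun a _ => symmDiff_symmDiff_cancel_right _ _) (fun a _ => symmDiff_symmDiff_cancel_right _ _)
    · intro a ha
      simp only [avoid, Finset.mem_coe, Finset.mem_filter] at ha ⊢
      exact ⟨hK.symm_mem a ha.1 b hb, by rw [symmDiff_inter, ha.2, symmDiff_self]; rfl⟩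
    · intro a ha
      simp only [avoid, Finset.mem_coe, Finset.mem_filter] at ha ⊢
      refine ⟨hK.symm_mem a ha.1 b hb, ?_⟩
      rw [symmDiff_inter, ha.2]; exact bot_symmDiff _
  have h4096 : Im.card * (avoid K O).card = 4096 := by
    rw [← hK.size, Finset.card_eq_sum_card_image (fun a => a ∩ O) K, Finset.sum_congr rfl hfib,
      Finset.sum_const, smul_eq_mul]
  obtain ⟨i₀, hi₀⟩ := Finset.card_pos.1 (show 0 < O.card by omega)
  have hsub : Im ∪ Im.image (fun E => E ∆ {i₀}) ⊆ O.powerset := by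
    intro E hE'
    rw [Finset.mem_powerset]
    rcases Finset.mem_union.1 hE' with h | h
    · obtain ⟨a, -, rfl⟩ := Finset.mem_image.1 h; exact Finset.inter_subset_right
    · obtain ⟨E', hE'', rfl⟩ := Finset.mem_image.1 h
      obtain ⟨a, -, rfl⟩ := Finset.mem_image.1 hE''
      intro y hy
      rcases Finset.mem_symmDiff.1 hy with ⟨h1, -⟩ | ⟨h1, -⟩
      · exact (Finset.mem_inter.1 h1).2
      · exact Finset.mem_singleton.1 h1 ▸ hi₀
  have hev : ∀ E ∈ Im, Even E.card := fun E hE' => by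
    obtain ⟨a, ha, rfl⟩ := Finset.mem_image.1 hE'; exact hK.even_inter a ha O hO
  have hdisj : Disjoint Im (Im.image fun E => E ∆ {i₀}) := by
    refine Finset.disjoint_left.2 fun E hE' hE'' => ?_
    obtain ⟨E₁, hE₁, rfl⟩ := Finset.mem_image.1 hE''
    obtain ⟨r, hr⟩ := hev _ hE'
    obtain ⟨r₁, hr₁⟩ := hev _ hE₁
    have := card_symmDiff_add E₁ {i₀}
    rw [Finset.card_singleton] at this
    omega
  have h256 := Finset.card_le_card hsub
  rw [Finset.card_union_of_disjoint hdisj, Finset.card_powerset, hO8,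
    Finset.card_image_of_injective _ (symmDiff_left_injective _)] at h256
  have hD : (avoid K O).card = 32 := by
    have h3 : Im.card ≤ 128 := by norm_num at h256; omega
    have h5 := Nat.mul_le_mul_right (avoid K O).card h3
    omega
  refine ⟨hD, fun i hi j hj hij => ?_⟩
  rw [hD] at h4096
  have hfull : Im ∪ Im.image (fun E => E ∆ {i₀}) = O.powerset := by
    refine Finset.eq_of_subset_of_card_le hsub ?_
    rw [Finset.card_union_of_disjoint hdisj, Finset.card_powerset, hO8,
      Finset.card_image_of_injective _ (symmDiff_left_injective _)]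
    omega
  have hmem : ({i, j} : Finset α) ∈ Im ∪ Im.image (fun E => E ∆ {i₀}) := by
    rw [hfull, Finset.mem_powerset]
    exact Finset.insert_subset hi (Finset.singleton_subset_iff.2 hj)
  rcases Finset.mem_union.1 hmem with h | h
  · obtain ⟨a, ha, hae⟩ := Finset.mem_image.1 h; exact ⟨a, ha, hae⟩
  · exfalso
    obtain ⟨E₁, hE₁, hE₁e⟩ := Finset.mem_image.1 h
    obtain ⟨r₁, hr₁⟩ := hev _ hE₁
    have h6 := card_symmDiff_add E₁ {i₀}
    rw [hE₁e, Finset.card_pair hij, Finset.card_singleton] at h6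
    omega

/-- The sets generated by a list under symmetric difference. -/
def spanSets : List (Finset α) → Finset (Finset α)
  | [] => {∅}
  | a :: l => spanSets l ∪ (spanSets l).image (fun b => a ∆ b)

omit [Fintype α] in
theorem spanSets_symm : ∀ {l : List (Finset α)} {a b : Finset α},
    a ∈ spanSets l → b ∈ spanSets l → a ∆ b ∈ spanSets l
  | [], a, b, ha, hb => by simp_all [spanSets]
  | c :: l, a, b, ha, hb => by
    simp only [spanSets, Finset.mem_union, Finset.mem_image] at ha hb ⊢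
    rcases ha with ha | ⟨a, ha, rfl⟩ <;> rcases hb with hb | ⟨b, hb, rfl⟩
    · exact Or.inl (spanSets_symm ha hb)
    · exact Or.inr ⟨a ∆ b, spanSets_symm ha hb, symmDiff_left_comm _ _ _⟩
    · exact Or.inr ⟨a ∆ b, spanSets_symm ha hb, (symmDiff_assoc _ _ _).symm⟩
    · refine Or.inl ?_
      rw [symmDiff_symmDiff_symmDiff_comm, symmDiff_self, bot_symmDiff]
      exact spanSets_symm ha hb

omit [Fintype α] in
theorem empty_mem_spanSets : ∀ l : List (Finset α), ∅ ∈ spanSets l
  | [] => by simp [spanSets]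
  | _ :: l => Finset.mem_union_left _ (empty_mem_spanSets l)

omit [Fintype α] in
theorem mem_spanSets_self : ∀ {l : List (Finset α)} {a : Finset α}, a ∈ l → a ∈ spanSets l
  | c :: l, a, h => by
    rcases List.mem_cons.1 h with rfl | h
    · exact Finset.mem_union_right _
        (Finset.mem_image.2 ⟨∅, empty_mem_spanSets l, symmDiff_bot _⟩)
    · exact Finset.mem_union_left _ (mem_spanSets_self h)

omit [Fintype α] in
theorem spanSets_induction {P : Finset α → Prop} (h0 : P ∅)
    (hs : ∀ a b, P a → P b → P (a ∆ b)) :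
    ∀ {l : List (Finset α)}, (∀ a ∈ l, P a) → ∀ b ∈ spanSets l, P b
  | [], _, b, hb => by simp [spanSets] at hb; exact hb ▸ h0
  | c :: l, hl, b, hb => by
    simp only [spanSets, Finset.mem_union, Finset.mem_image] at hb
    have ih := spanSets_induction h0 hs fun a ha => hl a (List.mem_cons_of_mem _ ha)
    rcases hb with hb | ⟨b, hb, rfl⟩
    · exact ih b hb
    · exact hs _ _ (hl c List.mem_cons_self) (ih b hb)

omit [Fintype α] in
theorem exists_basis {E : Finset (Finset α)} (he : ∅ ∈ E) (hs : ∀ a ∈ E, ∀ b ∈ E, a ∆ b ∈ E)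
    (hc : E.card = 16) : ∀ i ≤ 4, ∃ l : List (Finset α), l.length = i ∧ (∀ a ∈ l, a ∈ E) ∧
      spanSets l ⊆ E ∧ (spanSets l).card = 2 ^ i
  | 0, _ => ⟨[], rfl, by simp, by simp [spanSets, he], by simp [spanSets]⟩
  | i + 1, hi => by
    obtain ⟨l, hl, hlE, hsub, hcard⟩ := exists_basis he hs hc i (by omega)
    obtain ⟨a, ha, hal⟩ : ∃ a ∈ E, a ∉ spanSets l := by
      refine Finset.exists_mem_notMem_of_card_lt_card ?_
      rw [hcard, hc]
      exact lt_of_lt_of_le (Nat.pow_lt_pow_right one_lt_two (by omega : i < 4)) le_rfl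
    refine ⟨a :: l, by simp [hl], List.forall_mem_cons.2 ⟨ha, hlE⟩, ?_, ?_⟩
    · exact Finset.union_subset hsub fun b hb => by
        obtain ⟨c, hc', rfl⟩ := Finset.mem_image.1 hb; exact hs a ha c (hsub hc')
    · rw [spanSets, Finset.card_union_of_disjoint, Finset.card_image_of_injective _
        (symmDiff_right_injective a), hcard, pow_succ, mul_two]
      refine Finset.disjoint_left.2 fun b hb hb' => ?_
      obtain ⟨c, hc', rfl⟩ := Finset.mem_image.1 hb'
      exact hal (symmDiff_symmDiff_cancel_right c a ▸ spanSets_symm hb hc')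

/-- Coordinates on the complement of an octad in which the members avoiding it are the affine
functions. -/
theorem exists_coords (hK : IsGolay K) {O : Finset α} (hO : O ∈ K) (hO8 : O.card = 8) :
    ∃ v : α → ℕ, (∀ i ∈ Oᶜ, v i < 16) ∧ Set.InjOn v (Oᶜ : Finset α) ∧
      (∀ a ∈ avoid K O, ∃ k < 32, maskOf v 16 a = affMask k) ∧
      ∀ k < 32, ∃ a ∈ avoid K O, maskOf v 16 a = affMask k := by
  obtain ⟨hD, -⟩ := avoid_card hK hO hO8
  obtain ⟨x, -, hx⟩ : ∃ x ∈ (Finset.univ : Finset α), x ∉ O :=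
    Finset.exists_mem_notMem_of_card_lt_card (by rw [Finset.card_univ, hK.points, hO8]; norm_num)
  obtain ⟨hhalf, -, -⟩ := avoid_counts hK hO hO8 hx
  set E := (avoid K O).filter fun a => x ∉ a with hEdef
  have hE16 : E.card = 16 := by omega
  obtain ⟨l, hl, hlE, hsub, hcard⟩ := exists_basis (E := E)
    (Finset.mem_filter.2 ⟨Finset.mem_filter.2 ⟨hK.empty_mem, Finset.empty_inter O⟩,
      Finset.notMem_empty x⟩)
    (fun a ha b hb => Finset.mem_filter.2 ⟨avoid_symm hK (Finset.mem_filter.1 ha).1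
      (Finset.mem_filter.1 hb).1, by
        simp [Finset.mem_symmDiff, (Finset.mem_filter.1 ha).2, (Finset.mem_filter.1 hb).2]⟩)
    hE16 4 le_rfl
  have hspan : spanSets l = E := Finset.eq_of_subset_of_card_le hsub (by rw [hcard, hE16]; norm_num)
  set v : α → ℕ := fun y => bitsOf (fun i => decide (y ∈ l.getD i ∅)) 4 with hv
  have hlt : ∀ i ∈ Oᶜ, v i < 16 := fun i _ => bitsOf_lt _ 4
  have hgetD : ∀ a ∈ l, ∃ i < 4, l.getD i ∅ = a := fun a ha => by
    obtain ⟨i, hi, rfl⟩ := List.getElem_of_mem ha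
    exact ⟨i, hl ▸ hi, List.getD_eq_getElem _ _ hi⟩
  have hinj : Set.InjOn v (Oᶜ : Finset α) := by
    intro y hy z hz hyz
    by_contra hne
    have hgen : ∀ a ∈ l, (y ∈ a ↔ z ∈ a) := fun a ha => by
      obtain ⟨i, hi, rfl⟩ := hgetD a ha
      have := congrArg (fun n => n.testBit i) hyz
      simpa [hv, testBit_bitsOf, hi] using this
    have hall : ∀ a ∈ E, (y ∈ a ↔ z ∈ a) := by
      rw [← hspan]
      exact spanSets_induction (P := fun a => y ∈ a ↔ z ∈ a) (by simp)
        (fun a b ha hb => by simp [Finset.mem_symmDiff, ha, hb]) hgen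
    have hyO : y ∉ O := Finset.mem_compl.1 (Finset.mem_coe.1 hy)
    have hzO : z ∉ O := Finset.mem_compl.1 (Finset.mem_coe.1 hz)
    obtain ⟨hhalf', -, hsep'⟩ := avoid_counts hK hO hO8 hzO
    obtain ⟨a, ha, hya⟩ := hsep' (by omega) y hyO hne
    obtain ⟨haD, hza⟩ := Finset.mem_filter.1 ha
    by_cases hxa : x ∈ a
    · have := hall (a ∆ Oᶜ) (Finset.mem_filter.2 ⟨avoid_symm hK haD (compl_mem_avoid hK hO),
        by simp [Finset.mem_symmDiff, hxa, hx]⟩)
      simp [Finset.mem_symmDiff, hya, hza, hyO, hzO] at this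
    · exact hza ((hall a (Finset.mem_filter.2 ⟨haD, hxa⟩)).1 hya)
  have himg : (Oᶜ : Finset α).image v = Finset.range 16 := by
    refine Finset.eq_of_subset_of_card_le (fun n hn => ?_) ?_
    · obtain ⟨i, hi, rfl⟩ := Finset.mem_image.1 hn; exact Finset.mem_range.2 (hlt i hi)
    · rw [Finset.card_range, Finset.card_image_of_injOn hinj, Finset.card_compl, hK.points, hO8]
  have hsubR : ∀ a ∈ avoid K O, a ⊆ Oᶜ := fun a ha => (avoid_facts hK hO hO8 ha).1
  have hmaskR : maskOf v 16 Oᶜ = affMask 16 := by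
    refine Nat.eq_of_testBit_eq fun k => ?_
    rcases lt_or_ge k 16 with hk | hk
    · rw [(aff_single_check 0 (by norm_num) k hk).2]
      have : k ∈ (Oᶜ : Finset α).image v := himg ▸ Finset.mem_range.2 hk
      obtain ⟨i, hi, rfl⟩ := Finset.mem_image.1 this
      exact (testBit_maskOf hinj hlt (Finset.Subset.refl _) hi).2 hi
    · rw [Nat.testBit_lt_two_pow (lt_of_lt_of_le (maskOf_lt v 16 _)
          (Nat.pow_le_pow_right two_pos hk)),
        Nat.testBit_lt_two_pow (lt_of_lt_of_le (aff_lt 16 (by norm_num))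
          (Nat.pow_le_pow_right two_pos hk))]
  have hgenmask : ∀ i < 4, l.getD i ∅ ∈ avoid K O →
      maskOf v 16 (l.getD i ∅) = affMask (2 ^ i) := by
    intro i hi hmem
    refine Nat.eq_of_testBit_eq fun k => ?_
    rcases lt_or_ge k 16 with hk | hk
    · rw [(aff_single_check i hi k hk).1]
      have : k ∈ (Oᶜ : Finset α).image v := himg ▸ Finset.mem_range.2 hk
      obtain ⟨y, hy, rfl⟩ := Finset.mem_image.1 this
      rw [Bool.eq_iff_iff, testBit_maskOf hinj hlt (hsubR _ hmem) hy]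
      simp [hv, testBit_bitsOf, hi]
    · rw [Nat.testBit_lt_two_pow (lt_of_lt_of_le (maskOf_lt v 16 _)
          (Nat.pow_le_pow_right two_pos hk)),
        Nat.testBit_lt_two_pow (lt_of_lt_of_le
          (aff_lt _ (lt_of_le_of_lt (Nat.pow_le_pow_right two_pos (by omega : i ≤ 4)) (by norm_num)))
          (Nat.pow_le_pow_right two_pos hk))]
  have hfw : ∀ a ∈ E, ∃ k < 32, maskOf v 16 a = affMask k := by
    rw [← hspan]
    suffices h : ∀ a ∈ spanSets l, a ∈ avoid K O ∧ ∃ k < 32, maskOf v 16 a = affMask k from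
      fun a ha => (h a ha).2
    refine spanSets_induction (P := fun a => a ∈ avoid K O ∧ ∃ k < 32, maskOf v 16 a = affMask k)
      ⟨Finset.mem_filter.2 ⟨hK.empty_mem, Finset.empty_inter O⟩, 0, by norm_num,
        Nat.eq_of_testBit_eq fun k => by simp [maskOf, testBit_bitsOf, affMask, term_zero]⟩
      ?_ fun a ha => ?_
    · rintro a b ⟨ha, k, hk, hka⟩ ⟨hb, k', hk', hkb⟩
      exact ⟨avoid_symm hK ha hb, k ^^^ k', Nat.xor_lt_two_pow (n := 5) hk hk', by
        rw [maskOf_symmDiff hinj (hsubR a ha) (hsubR b hb), hka, hkb, aff_xor]⟩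
    · obtain ⟨i, hi, rfl⟩ := hgetD a ha
      have hmem := (Finset.mem_filter.1 (hlE _ ha)).1
      exact ⟨hmem, 2 ^ i,
        lt_of_le_of_lt (Nat.pow_le_pow_right two_pos (by omega : i ≤ 4)) (by norm_num),
        hgenmask i hi hmem⟩
  have hall : ∀ a ∈ avoid K O, ∃ k < 32, maskOf v 16 a = affMask k := by
    intro a ha
    by_cases hxa : x ∈ a
    · have hb := avoid_symm hK ha (compl_mem_avoid hK hO)
      obtain ⟨k, hk, hka⟩ := hfw _ (Finset.mem_filter.2 ⟨hb, by
        simp [Finset.mem_symmDiff, hxa, hx]⟩)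
      refine ⟨k ^^^ 16, Nat.xor_lt_two_pow (n := 5) hk (by norm_num), ?_⟩
      rw [aff_xor, ← hka, ← hmaskR, ← maskOf_symmDiff hinj (hsubR _ hb) (Finset.Subset.refl _),
        symmDiff_symmDiff_cancel_right]
    · exact hfw a (Finset.mem_filter.2 ⟨ha, hxa⟩)
  refine ⟨v, hlt, hinj, hall, fun k hk => ?_⟩
  have hinjD : Set.InjOn (maskOf v 16) (avoid K O : Set (Finset α)) := fun a ha b hb h =>
    maskOf_inj hinj hlt (hsubR a ha) (hsubR b hb) h
  have hsub2 : (avoid K O).image (maskOf v 16) ⊆ (Finset.range 32).image affMask := by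
    intro n hn
    obtain ⟨a, ha, rfl⟩ := Finset.mem_image.1 hn
    obtain ⟨k, hk, hka⟩ := hall a ha
    exact Finset.mem_image.2 ⟨k, Finset.mem_range.2 hk, hka.symm⟩
  have heq := Finset.eq_of_subset_of_card_le hsub2 (by
    rw [Finset.card_image_of_injOn hinjD, hD]
    exact Finset.card_image_le.trans (by simp))
  exact Finset.mem_image.1 (heq ▸ Finset.mem_image_of_mem affMask (Finset.mem_range.2 hk))

omit [Fintype α] [DecidableEq α] in
theorem maskOf_empty (g : α → ℕ) (n : ℕ) : maskOf g n ∅ = 0 :=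
  Nat.eq_of_testBit_eq fun k => by simp [maskOf, testBit_bitsOf]

set_option maxHeartbeats 1000000 in
/-- An abstract code of length 24 is equivalent to the code built from the squares modulo 23. -/
theorem exists_equiv (hK : IsGolay K) :
    ∃ e : α ≃ GolayPt, ∀ a : Finset α,
      a ∈ K ↔ a.map e.toEmbedding ∈ supports (golayCode : Set (GolayPt → ZMod 2)) := by
  obtain ⟨O, hO, hO8⟩ := CfsgLib.Sporadic.AbstractGolay.exists_octad hK
  obtain ⟨v, hvlt, hvinj, hfw, hbw⟩ := exists_coords hK hO hO8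
  obtain ⟨-, hlift⟩ := avoid_card hK hO hO8
  set h : Finset α → ℕ := fun a => maskOf v 16 (a ∩ Oᶜ) with hh
  have hsym : ∀ a b, h (a ∆ b) = h a ^^^ h b := fun a b => by
    rw [hh]
    show maskOf v 16 ((a ∆ b) ∩ Oᶜ) = _
    rw [symmDiff_inter, maskOf_symmDiff hvinj Finset.inter_subset_right Finset.inter_subset_right]
  have hcard : ∀ a, pc 24 (h a) = (a ∩ Oᶜ).card := fun a =>
    pc_maskOf hvinj hvlt (by norm_num) Finset.inter_subset_right
  have havoid : ∀ d ∈ avoid K O, d ∩ Oᶜ = d := fun d hd =>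
    Finset.inter_eq_left.2 (avoid_facts hK hO hO8 hd).1
  have hquad : ∀ a ∈ K, quadMask (qCoef (h a)) ^^^ affMask (aCoef (h a)) = h a ∧
      qCoef (h a) < 64 ∧ aCoef (h a) < 32 := by
    intro a ha
    refine orth_spec (bitsOf_lt _ 16) fun l hl => ?_
    obtain ⟨k, hk, rfl⟩ : ∃ k < 32, affMask k = l := by
      revert l; decide +kernel
    obtain ⟨d, hd, hdk⟩ := hbw k hk
    rw [← hdk, ← maskOf_inter hvinj Finset.inter_subset_right (avoid_facts hK hO hO8 hd).1,
      pc_maskOf hvinj hvlt (by norm_num) (Finset.inter_subset_left.trans Finset.inter_subset_right),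
      Finset.inter_assoc, Finset.inter_comm Oᶜ, havoid d hd]
    exact Nat.even_iff.1 (hK.even_inter a ha d (Finset.mem_filter.1 hd).1)
  set Φ : Finset α → ℕ := fun a => qCoef (h a) with hΦ
  have hΦadd : ∀ a ∈ K, ∀ b ∈ K, Φ (a ∆ b) = Φ a ^^^ Φ b := by
    intro a ha b hb
    obtain ⟨e1, q1, k1⟩ := hquad a ha
    obtain ⟨e2, q2, k2⟩ := hquad b hb
    show qCoef (h (a ∆ b)) = _
    rw [hsym, ← e1, ← e2]
    have : quadMask (qCoef (h a)) ^^^ affMask (aCoef (h a)) ^^^
        (quadMask (qCoef (h b)) ^^^ affMask (aCoef (h b))) =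
        quadMask (Φ a ^^^ Φ b) ^^^ affMask (aCoef (h a) ^^^ aCoef (h b)) := by
      rw [quad_xor, aff_xor]; ac_rfl
    rw [this, qCoef_spec (Nat.xor_lt_two_pow (n := 6) q1 q2) (Nat.xor_lt_two_pow (n := 5) k1 k2)]
  have hΦD : ∀ d ∈ avoid K O, Φ d = 0 := by
    intro d hd
    obtain ⟨k, hk, hdk⟩ := hfw d hd
    show qCoef (h d) = 0
    have h0 : h d = quadMask 0 ^^^ affMask k := by
      show maskOf v 16 (d ∩ Oᶜ) = _
      rw [havoid d hd, hdk]
      simp [quadMask, term_zero]
    rw [h0, qCoef_spec (by norm_num) hk]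
  have hbent : ∀ a ∈ K, ∀ i j, i ≠ j → a ∩ O = {i, j} → Φ a ∈ bentList := by
    intro a ha i j hij haO
    obtain ⟨e1, q1, k1⟩ := hquad a ha
    refine mem_bentList q1 fun k hk => ?_
    obtain ⟨d, hd, hdk⟩ := hbw (k ^^^ aCoef (h a)) (Nat.xor_lt_two_pow (n := 5) hk k1)
    have hb : a ∆ d ∈ K := hK.symm_mem a ha d (Finset.mem_filter.1 hd).1
    have hbO : (a ∆ d) ∩ O = {i, j} := by
      rw [symmDiff_inter, (Finset.mem_filter.1 hd).2, haO]; exact symmDiff_bot _
    have hbh : h (a ∆ d) = quadMask (qCoef (h a)) ^^^ affMask k := by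
      rw [hsym, show h d = affMask (k ^^^ aCoef (h a)) by
        show maskOf v 16 (d ∩ Oᶜ) = _; rw [havoid d hd, hdk]]
      conv_lhs => arg 1; rw [← e1]
      rw [aff_xor, Nat.xor_assoc]
      congr 1
      rw [Nat.xor_comm (affMask k), ← Nat.xor_assoc, Nat.xor_self, Nat.zero_xor]
    rw [← hbh, hcard]
    have h2 : ((a ∆ d) ∩ O).card = 2 := by rw [hbO, Finset.card_pair hij]
    have h3 : ((a ∆ d) ∩ O).card + ((a ∆ d) ∩ Oᶜ).card = (a ∆ d).card := by
      rw [← Finset.card_union_of_disjoint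
        (Disjoint.mono Finset.inter_subset_right Finset.inter_subset_right disjoint_compl_right),
        ← Finset.inter_union_distrib_left, Finset.union_compl, Finset.inter_univ]
    have h4 := weights hK hb
    have h5 := weights hK (hK.symm_mem _ hb O hO)
    have h6 := card_symmDiff_add (a ∆ d) O
    omega
  obtain ⟨i₀, hi₀⟩ := Finset.card_pos.1 (show 0 < O.card by omega)
  choose! P hPK hPO using fun j (hj : j ∈ O.erase i₀) =>
    hlift i₀ hi₀ j (Finset.mem_of_mem_erase hj) (Finset.ne_of_mem_erase hj).symm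
  have hpair : ∀ i ∈ O.erase i₀, ∀ j ∈ O.erase i₀, i ≠ j → Φ (P i) ^^^ Φ (P j) ∈ bentList := by
    intro i hi j hj hij
    rw [← hΦadd _ (hPK i hi) _ (hPK j hj)]
    refine hbent _ (hK.symm_mem _ (hPK i hi) _ (hPK j hj)) i j hij ?_
    rw [symmDiff_inter, hPO i hi, hPO j hj]
    ext y
    have hi' := Finset.ne_of_mem_erase hi
    have hj' := Finset.ne_of_mem_erase hj
    simp only [Finset.mem_symmDiff, Finset.mem_insert, Finset.mem_singleton]
    constructor
    · rintro (⟨h1 | h1, h2⟩ | ⟨h1 | h1, h2⟩)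
      · exact absurd (Or.inl h1) h2
      · exact Or.inl h1
      · exact absurd (Or.inl h1) h2
      · exact Or.inr h1
    · rintro (h1 | h1)
      · exact Or.inl ⟨Or.inr h1, fun h2 => h2.elim (fun h3 => hi' (h1.symm.trans h3))
          (fun h3 => hij (h1.symm.trans h3))⟩
      · exact Or.inr ⟨Or.inr h1, fun h2 => h2.elim (fun h3 => hj' (h1.symm.trans h3))
          (fun h3 => hij (h3.symm.trans h1))⟩
  set S := (O.erase i₀).image (fun j => Φ (P j)) with hS
  have hinjA : Set.InjOn (fun j => Φ (P j)) (O.erase i₀ : Set α) := by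
    intro i hi j hj hij
    by_contra hne
    have h1 := hpair i (Finset.mem_coe.1 hi) j (Finset.mem_coe.1 hj) hne
    simp only at hij
    rw [hij, Nat.xor_self] at h1
    exact absurd h1 (by decide)
  obtain ⟨k₁, hk₁, hstar⟩ := exists_translate S
    (fun q hq => by
      obtain ⟨j, hj, rfl⟩ := Finset.mem_image.1 hq
      exact hbent _ (hPK j hj) i₀ j (Finset.ne_of_mem_erase hj).symm (hPO j hj))
    (fun q hq q' hq' hne => by
      obtain ⟨j, hj, rfl⟩ := Finset.mem_image.1 hq
      obtain ⟨j', hj', rfl⟩ := Finset.mem_image.1 hq'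
      exact hpair j hj j' hj' (fun he => hne (by rw [he])))
    (by rw [hS, Finset.card_image_of_injOn hinjA, Finset.card_erase_of_mem hi₀, hO8])
  have hσex : ∀ j ∈ O, ∃ k < 8, pairVal.getD k 0 =
      (if j = i₀ then 0 else Φ (P j)) ^^^ pairVal.getD k₁ 0 := by
    intro j hj
    by_cases hji : j = i₀
    · exact ⟨k₁, hk₁, by rw [if_pos hji, Nat.zero_xor]⟩
    · rw [if_neg hji]
      obtain ⟨k, hk, hkv⟩ := List.getElem_of_mem
        (hstar _ (Finset.mem_image_of_mem _ (Finset.mem_erase.2 ⟨hji, hj⟩)))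
      exact ⟨k, hk, by rw [List.getD_eq_getElem _ _ hk]; exact hkv⟩
  choose! σ hσlt hσv using hσex
  have hσinj : Set.InjOn σ (O : Set α) := by
    intro i hi j hj hij
    have e : (if i = i₀ then 0 else Φ (P i)) = (if j = i₀ then 0 else Φ (P j)) := by
      have := (hσv i hi).symm.trans ((congrArg (fun k => pairVal.getD k 0) hij).trans (hσv j hj))
      exact Nat.xor_right_injective (by simpa [Nat.xor_comm] using this :
        pairVal.getD k₁ 0 ^^^ _ = pairVal.getD k₁ 0 ^^^ _)
    have hnz : ∀ y ∈ O.erase i₀, Φ (P y) ≠ 0 := fun y hy h0 => by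
      have := hbent _ (hPK y hy) i₀ y (Finset.ne_of_mem_erase hy).symm (hPO y hy)
      rw [h0] at this
      exact absurd this (by decide)
    by_cases hii : i = i₀ <;> by_cases hjj : j = i₀
    · rw [hii, hjj]
    · rw [if_pos hii, if_neg hjj] at e
      exact absurd e.symm (hnz j (Finset.mem_erase.2 ⟨hjj, hj⟩))
    · rw [if_neg hii, if_pos hjj] at e
      exact absurd e (hnz i (Finset.mem_erase.2 ⟨hii, hi⟩))
    · rw [if_neg hii, if_neg hjj] at e
      exact hinjA (Finset.mem_erase.2 ⟨hii, hi⟩) (Finset.mem_erase.2 ⟨hjj, hj⟩) e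
  set s : Finset α → ℕ := fun a => maskOf σ 8 (a ∩ O) with hs
  have hssym : ∀ a b, s (a ∆ b) = s a ^^^ s b := fun a b => by
    show maskOf σ 8 ((a ∆ b) ∩ O) = _
    rw [symmDiff_inter, maskOf_symmDiff hσinj Finset.inter_subset_right Finset.inter_subset_right]
  have hsingle : ∀ j ∈ O, maskOf σ 8 {j} = 2 ^ σ j := fun j hj => Nat.eq_of_testBit_eq fun k => by
    rw [Bool.eq_iff_iff, testBit_maskOf_iff, Nat.testBit_two_pow, decide_eq_true_eq]
    constructor
    · rintro ⟨-, i, hi, rfl⟩; rw [Finset.mem_singleton.1 hi]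
    · intro he; subst he; exact ⟨hσlt j hj, j, Finset.mem_singleton_self j, rfl⟩
  have hmain : ∀ n, ∀ a ∈ K, ((a ∩ O).erase i₀).card = n → Φ a = sVal (s a) := by
    intro n
    induction n using Nat.strong_induction_on with
    | _ n ih =>
      intro a ha hn
      rcases ((a ∩ O).erase i₀).eq_empty_or_nonempty with hempty | ⟨j, hj⟩
      · have hzero : a ∩ O = ∅ := by
          rcases (Finset.erase_eq_empty_iff _ _).1 hempty with h0 | h1
          · exact h0
          · obtain ⟨r, hr⟩ := hK.even_inter a ha O hO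
            rw [h1, Finset.card_singleton] at hr
            omega
        rw [hΦD a (Finset.mem_filter.2 ⟨ha, hzero⟩)]
        show 0 = sVal (maskOf σ 8 (a ∩ O))
        rw [hzero, maskOf_empty]
        rfl
      · have hjO : j ∈ O := (Finset.mem_inter.1 (Finset.mem_of_mem_erase hj)).2
        have hji := Finset.ne_of_mem_erase hj
        have hjE : j ∈ O.erase i₀ := Finset.mem_erase.2 ⟨hji, hjO⟩
        have hb := hK.symm_mem a ha _ (hPK j hjE)
        have hlt : (((a ∆ P j) ∩ O).erase i₀).card < n := by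
          subst hn
          refine Finset.card_lt_card (Finset.ssubset_iff_of_subset ?_ |>.2 ⟨j, hj, ?_⟩)
          · intro y hy
            rw [symmDiff_inter, hPO j hjE] at hy
            simp only [Finset.mem_erase, Finset.mem_symmDiff, Finset.mem_insert,
              Finset.mem_singleton] at hy ⊢
            refine ⟨hy.1, ?_⟩
            rcases hy.2 with ⟨h1, -⟩ | ⟨h1 | h1, h2⟩
            · exact h1
            · exact absurd h1 hy.1
            · exact absurd (h1 ▸ Finset.mem_of_mem_erase hj) h2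
          · rw [symmDiff_inter, hPO j hjE]
            simp [Finset.mem_symmDiff, Finset.mem_of_mem_erase hj]
        have hrec := ih _ hlt _ hb rfl
        rw [hΦadd a ha _ (hPK j hjE), hssym, sVal_xor] at hrec
        have hPj : Φ (P j) = sVal (s (P j)) := by
          have : s (P j) = 2 ^ σ i₀ ^^^ 2 ^ σ j := by
            show maskOf σ 8 (P j ∩ O) = _
            rw [hPO j hjE, show ({i₀, j} : Finset α) = {i₀} ∆ {j} by
              ext y; simp only [Finset.mem_symmDiff, Finset.mem_insert, Finset.mem_singleton]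
              constructor
              · rintro (rfl | rfl)
                · exact Or.inl ⟨rfl, hji.symm⟩
                · exact Or.inr ⟨rfl, hji⟩
              · rintro (⟨h1, -⟩ | ⟨h1, -⟩)
                · exact Or.inl h1
                · exact Or.inr h1,
              maskOf_symmDiff hσinj (Finset.singleton_subset_iff.2 hi₀)
                (Finset.singleton_subset_iff.2 hjO), hsingle _ hi₀, hsingle _ hjO]
          rw [this, sVal_xor, sVal_two_pow _ (hσlt _ hi₀), sVal_two_pow _ (hσlt _ hjO),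
            hσv _ hi₀, hσv _ hjO, if_pos rfl, if_neg hji, Nat.zero_xor,
            Nat.xor_comm (Φ (P j)), ← Nat.xor_assoc, Nat.xor_self, Nat.zero_xor]
        rw [← hPj] at hrec
        exact Nat.xor_right_injective (by simpa [Nat.xor_comm] using hrec :
          Φ (P j) ^^^ _ = Φ (P j) ^^^ _)
  have hmask : ∀ a ∈ K, memb (spreadMask (s a) (h a)) = true := by
    intro a ha
    obtain ⟨e1, -, k1⟩ := hquad a ha
    rw [← e1, show qCoef (h a) = sVal (s a) from hmain _ a ha rfl]
    refine spread_mem (bitsOf_lt _ 8) ?_ k1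
    rw [pc_maskOf hσinj (fun i hi => hσlt i hi) (by norm_num) Finset.inter_subset_right]
    exact Nat.even_iff.1 (hK.even_inter a ha O hO)
  set f : α → GolayPt := fun i =>
    if i ∈ O then pt (posO.getD (σ i) 0) else pt (posR.getD (v i) 0) with hf
  have hfspec : ∀ i, (i ∈ O → bit (f i) = posO.getD (σ i) 0) ∧
      (i ∉ O → bit (f i) = posR.getD (v i) 0) := fun i =>
    ⟨fun hi => by
        simp only [hf, if_pos hi]
        exact bit_pt (pos_checks.1 _ (hσlt i hi)).1,
      fun hi => by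
        simp only [hf, if_neg hi]
        exact bit_pt (pos_checks.2 _ (hvlt i (Finset.mem_compl.2 hi))).1⟩
  have hfinj : Function.Injective f := by
    intro i j hij
    have hb := congrArg bit hij
    by_cases hi : i ∈ O <;> by_cases hj : j ∈ O
    · rw [(hfspec i).1 hi, (hfspec j).1 hj] at hb
      have := congrArg (fun n => posIdx.getD n 0) hb
      simp only [(pos_checks.1 _ (hσlt i hi)).2.2, (pos_checks.1 _ (hσlt j hj)).2.2] at this
      exact hσinj hi hj this
    · rw [(hfspec i).1 hi, (hfspec j).2 hj] at hb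
      have := congrArg (fun n => (8536111 : ℕ).testBit n) hb
      simp only [(pos_checks.1 _ (hσlt i hi)).2.1,
        (pos_checks.2 _ (hvlt j (Finset.mem_compl.2 hj))).2.1] at this
      exact absurd this (by simp)
    · rw [(hfspec i).2 hi, (hfspec j).1 hj] at hb
      have := congrArg (fun n => (8536111 : ℕ).testBit n) hb
      simp only [(pos_checks.1 _ (hσlt j hj)).2.1,
        (pos_checks.2 _ (hvlt i (Finset.mem_compl.2 hi))).2.1] at this
      exact absurd this (by simp)
    · rw [(hfspec i).2 hi, (hfspec j).2 hj] at hb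
      have := congrArg (fun n => posIdx.getD n 0) hb
      simp only [(pos_checks.2 _ (hvlt i (Finset.mem_compl.2 hi))).2.2,
        (pos_checks.2 _ (hvlt j (Finset.mem_compl.2 hj))).2.2] at this
      exact hvinj (Finset.mem_coe.2 (Finset.mem_compl.2 hi))
        (Finset.mem_coe.2 (Finset.mem_compl.2 hj)) this
  have hfbij : Function.Bijective f :=
    (Fintype.bijective_iff_injective_and_card f).2 ⟨hfinj, by simp [hK.points, ZMod.card]⟩
  refine ⟨Equiv.ofBijective f hfbij, ?_⟩
  set e := Equiv.ofBijective f hfbij with he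
  have himage : ∀ a, a.map e.toEmbedding = toSet (spreadMask (s a) (h a)) := by
    intro a
    ext p
    obtain ⟨i, rfl⟩ := e.surjective p
    rw [Finset.mem_map_equiv, Equiv.symm_apply_apply, mem_toSet]
    show i ∈ a ↔ _
    have hbit : bit (e i) = bit (f i) := rfl
    rw [hbit, spreadMask, testBit_bitsOf]
    by_cases hi : i ∈ O
    · rw [(hfspec i).1 hi]
      simp only [(pos_checks.1 _ (hσlt i hi)).1, (pos_checks.1 _ (hσlt i hi)).2.1,
        (pos_checks.1 _ (hσlt i hi)).2.2, decide_true, Bool.true_and, cond_true]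
      show _ ↔ (maskOf σ 8 (a ∩ O)).testBit (σ i) = true
      rw [testBit_maskOf hσinj (fun i hi => hσlt i hi) Finset.inter_subset_right hi]
      simp [hi]
    · have hiC := Finset.mem_compl.2 hi
      rw [(hfspec i).2 hi]
      simp only [(pos_checks.2 _ (hvlt i hiC)).1, (pos_checks.2 _ (hvlt i hiC)).2.1,
        (pos_checks.2 _ (hvlt i hiC)).2.2, decide_true, Bool.true_and, cond_false]
      show _ ↔ (maskOf v 16 (a ∩ Oᶜ)).testBit (v i) = true
      rw [testBit_maskOf hvinj hvlt Finset.inter_subset_right hiC]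
      simp [hi]
  intro a
  constructor
  · intro ha
    rw [himage a]
    exact (toSet_mem_supports (bitsOf_lt _ 24)).2 (hmask a ha)
  · intro ha
    obtain ⟨x, hx, hxe⟩ := mem_supports_iff.1 ha
    have hsub : K.image (fun b => b.map e.toEmbedding) ⊆
        (Finset.range (2 ^ 12)).image (fun x => toSet (comb x)) := by
      intro t ht
      obtain ⟨b, hb, rfl⟩ := Finset.mem_image.1 ht
      have hm : toSet (spreadMask (s b) (h b)) ∈ supports (golayCode : Set (GolayPt → ZMod 2)) :=
        (toSet_mem_supports (bitsOf_lt _ 24)).2 (hmask b hb)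
      obtain ⟨y, hy, hye⟩ := mem_supports_iff.1 hm
      exact Finset.mem_image.2 ⟨y, Finset.mem_range.2 hy, by rw [hye, himage b]⟩
    have heq := Finset.eq_of_subset_of_card_le hsub (by
      rw [Finset.card_image_of_injective _ (Finset.map_injective _), hK.size]
      exact Finset.card_image_le.trans (by simp))
    obtain ⟨b, hb, hbe⟩ := Finset.mem_image.1
      (heq ▸ Finset.mem_image_of_mem _ (Finset.mem_range.2 hx) :
        toSet (comb x) ∈ K.image (fun b => b.map e.toEmbedding))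
    rw [hxe] at hbe
    exact Finset.map_injective _ hbe ▸ hb

end CfsgLib.Golay.Unique
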