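import Cfsg.Agent.Lib.Golay.Unique
import Cfsg.Agent.Lib.Golay.OctadAut
import Cfsg.Agent.Lib.Golay.Simple
import Cfsg.Agent.Lib.Steiner.Basic
import Cfsg.Prelude.Def_Sporadic

/-!
Consequences of the uniqueness of the code: uniqueness of the Steiner system S(5,8,24), and its
automorphism group.
-/

set_option autoImplicit false

namespace CfsgLib.Golay.Unique

open Cfsg CfsgLib.Sporadic.AbstractGolay
open scoped symmDiff Pointwise

variable {α : Type*} [Fintype α] [DecidableEq α]

omit [DecidableEq α] in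
theorem supp_zero : supp (0 : α → ZMod 2) = ∅ := by simp [supp]

theorem wordOf_ne_zero {s : Finset α} (hs : s.Nonempty) : wordOf s ≠ 0 := fun h =>
  hs.ne_empty (by rw [← supp_wordOf s, h, supp_zero])

/-- The code spanned by the blocks. -/
def blockSpan (B : Set (Finset α)) : Submodule (ZMod 2) (α → ZMod 2) :=
  Submodule.span (ZMod 2) (wordOf '' B)

/-- The words orthogonal to a code. -/
noncomputable def dualCode (C : Submodule (ZMod 2) (α → ZMod 2)) : Submodule (ZMod 2) (α → ZMod 2) :=
  C.dualAnnihilator.comap (dotProductEquiv (ZMod 2) α).toLinearMap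

theorem mem_dualCode {C : Submodule (ZMod 2) (α → ZMod 2)} {v : α → ZMod 2} :
    v ∈ dualCode C ↔ ∀ w ∈ C, ∑ i, v i * w i = 0 := by
  rw [dualCode, Submodule.mem_comap, Submodule.mem_dualAnnihilator]
  rfl

theorem finrank_add_dualCode (C : Submodule (ZMod 2) (α → ZMod 2)) :
    Module.finrank (ZMod 2) C + Module.finrank (ZMod 2) (dualCode C) = Fintype.card α := by
  have e : dualCode C ≃ₗ[ZMod 2] C.dualAnnihilator :=
    (dotProductEquiv (ZMod 2) α).ofSubmodule' C.dualAnnihilator
  rw [e.finrank_eq, Subspace.finrank_add_finrank_dualAnnihilator_eq,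
    Module.finrank_fintype_fun_eq_card]

theorem even_block_inter {B : Set (Finset α)} (hα : Fintype.card α = 24)
    (hB : IsSteinerSystem 5 8 B) {b c : Finset α} (hb : b ∈ B) (hc : c ∈ B) :
    Even (b ∩ c).card := by
  rcases eq_or_ne b c with rfl | hne
  · rw [Finset.inter_self, hB.1 b hb]; decide
  · rcases Steiner.inter_5_8_24 hα hB hb hc hne with h | h | h <;> rw [h] <;> decide

theorem no_small_dual {B : Set (Finset α)} (hα : Fintype.card α = 24)
    (hB : IsSteinerSystem 5 8 B) {x : Finset α} (hx : ∀ o ∈ B, Even (x ∩ o).card)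
    (hne : x.Nonempty) : 8 ≤ x.card := by
  by_contra h
  push Not at h
  rcases le_or_gt x.card 4 with h4 | h4
  · obtain ⟨o, ho, hodd⟩ := exists_odd_block hα hB hne h4
    exact hodd (hx o ho)
  obtain ⟨s, hs, hsc⟩ := Finset.exists_subset_card_eq (s := x) (n := 5) (by omega)
  obtain ⟨g, ⟨hg, hsg⟩, -⟩ := hB.2 s hsc
  have h5 : 5 ≤ (x ∩ g).card := hsc ▸ Finset.card_le_card (Finset.subset_inter hs hsg)
  obtain ⟨r, hr⟩ := hx g hg
  have hd := card_symmDiff_add x g
  rw [hB.1 g hg] at hd
  have hne' : (x ∆ g).Nonempty := by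
    rw [Finset.nonempty_iff_ne_empty]
    intro h0
    have : x = g := symmDiff_eq_bot.1 h0
    rw [this, hB.1 g hg] at h
    omega
  obtain ⟨o, ho, hodd⟩ := exists_odd_block hα hB hne' (by omega)
  refine hodd ?_
  obtain ⟨a, ha⟩ := hx o ho
  obtain ⟨b, hb⟩ := even_block_inter hα hB hg ho
  rw [symmDiff_inter]
  have := card_symmDiff_add (x ∩ o) (g ∩ o)
  exact ⟨a + b - ((x ∩ o) ∩ (g ∩ o)).card, by omega⟩

theorem finrank_le_twelve (hα : Fintype.card α = 24) (M : Submodule (ZMod 2) (α → ZMod 2))
    (hM : ∀ w ∈ M, w ≠ 0 → 8 ≤ hammingNorm w) : Module.finrank (ZMod 2) M ≤ 12 := by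
  classical
  set S := (Finset.univ : Finset (Finset α)).filter fun a => a.card ≤ 3 with hS
  have hScard : S.card = 2325 := by
    rw [hS, Finset.card_filter, ← Finset.powerset_univ,
      Finset.sum_powerset_apply_card (fun n => if n ≤ 3 then 1 else 0), Finset.card_univ, hα]
    decide +kernel
  have hinj : Function.Injective fun q : M × {a // a ∈ S} => supp q.1.1 ∆ q.2.1 := by
    rintro ⟨⟨v, hv⟩, ⟨a, ha⟩⟩ ⟨⟨w, hw⟩, ⟨b, hb⟩⟩ h
    simp only at h
    have hab : supp (v + w) = a ∆ b := by
      rw [supp_add]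
      ext i
      have hi := Finset.ext_iff.1 h i
      simp only [Finset.mem_symmDiff] at hi ⊢
      tauto
    have hvw : v + w = 0 := by
      by_contra hne
      have h8 := hM _ (M.add_mem hv hw) hne
      rw [← card_supp, hab] at h8
      have := card_symmDiff_add a b
      rw [hS, Finset.mem_filter] at ha hb
      omega
    obtain rfl : v = w := by
      funext i
      have := congrFun hvw i
      simp only [Pi.add_apply, Pi.zero_apply] at this
      revert this
      generalize v i = p; generalize w i = q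
      revert p q; decide
    obtain rfl : a = b := symmDiff_right_injective _ h
    rfl
  have h1 := Nat.card_le_card_of_injective _ hinj
  rw [Nat.card_prod, Module.natCard_eq_pow_finrank (K := ZMod 2) (V := M), Nat.card_zmod,
    Nat.card_eq_finsetCard, hScard, Nat.card_eq_fintype_card (α := Finset α), Fintype.card_finset,
    hα] at h1
  by_contra hcon
  push Not at hcon
  have h2 : 2 ^ 13 ≤ 2 ^ Module.finrank (ZMod 2) M := Nat.pow_le_pow_right two_pos hcon
  omega

theorem isGolay_blockSpan {B : Set (Finset α)} (hα : Fintype.card α = 24)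
    (hB : IsSteinerSystem 5 8 B) : IsGolay (family (blockSpan B)) := by
  have horth : blockSpan B ≤ dualCode (blockSpan B) := by
    rw [blockSpan, Submodule.span_le]
    rintro _ ⟨b, hb, rfl⟩
    rw [SetLike.mem_coe, mem_dualCode]
    intro w hw
    induction hw using Submodule.span_induction with
    | mem u hu =>
      obtain ⟨c, hc, rfl⟩ := hu
      rw [dot_eq_card_inter, supp_wordOf, supp_wordOf, ZMod.natCast_eq_zero_iff_even]
      exact even_block_inter hα hB hb hc
    | zero => simp
    | add u v _ _ ihu ihv => simp [mul_add, Finset.sum_add_distrib, ihu, ihv]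
    | smul k u _ ih => simp [mul_left_comm, ← Finset.mul_sum, ih]
  have hmin : ∀ w ∈ dualCode (blockSpan B), w ≠ 0 → 8 ≤ hammingNorm w := by
    intro w hw hne
    rw [← card_supp]
    refine no_small_dual hα hB (fun o ho => ?_) (Finset.nonempty_iff_ne_empty.2 fun h0 =>
      hne (supp_injective (h0.trans supp_zero.symm)))
    have h := mem_dualCode.1 hw (wordOf o) (Submodule.subset_span ⟨o, ho, rfl⟩)
    rwa [dot_eq_card_inter, supp_wordOf, ZMod.natCast_eq_zero_iff_even] at h
  have hle := Submodule.finrank_mono horth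
  have h12 := finrank_le_twelve hα _ hmin
  have hsum := finrank_add_dualCode (blockSpan B)
  rw [hα] at hsum
  exact isGolay_family hα _ (by omega) (fun v hv w hw => mem_dualCode.1 (horth hv) w hw)
    fun w hw => hmin w (horth hw)

theorem mem_iff_octad {B : Set (Finset α)} (hα : Fintype.card α = 24)
    (hB : IsSteinerSystem 5 8 B) (o : Finset α) :
    o ∈ B ↔ o ∈ family (blockSpan B) ∧ o.card = 8 := by
  have hfw : ∀ b ∈ B, b ∈ family (blockSpan B) ∧ b.card = 8 := fun b hb =>
    ⟨mem_family.2 (Submodule.subset_span ⟨b, hb, rfl⟩), hB.1 b hb⟩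
  refine ⟨hfw o, fun ho => ?_⟩
  obtain ⟨s, hs, hsc⟩ := Finset.exists_subset_card_eq (s := o) (n := 5) (by omega)
  obtain ⟨b, ⟨hb, hsb⟩, -⟩ := hB.2 s hsc
  exact (octad_existsUnique (isGolay_blockSpan hα hB) hsc).unique ⟨hfw b hb, hsb⟩ ⟨ho, hs⟩ ▸ hb

/-- Every S(5,8,24) is carried to the octads by some bijection. -/
theorem exists_equiv_octads {B : Set (Finset α)} (hα : Fintype.card α = 24)
    (hB : IsSteinerSystem 5 8 B) :
    ∃ e : α ≃ GolayPt, ∀ o : Finset α, o.map e.toEmbedding ∈ octads ↔ o ∈ B := by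
  obtain ⟨e, he⟩ := exists_equiv (isGolay_blockSpan hα hB)
  refine ⟨e, fun o => ?_⟩
  rw [mem_iff_octad hα hB o, mem_octads, Finset.card_map, ← he o]

theorem setSystemIso {β : Type*} [Fintype β] [DecidableEq β] {B : Set (Finset α)}
    {B' : Set (Finset β)} (hα : Fintype.card α = 24) (hβ : Fintype.card β = 24)
    (hB : IsSteinerSystem 5 8 B) (hB' : IsSteinerSystem 5 8 B') : SetSystemIso B B' := by
  obtain ⟨e, he⟩ := exists_equiv_octads hα hB
  obtain ⟨f, hf⟩ := exists_equiv_octads hβ hB'
  refine ⟨e.trans f.symm, Set.ext fun c => ?_⟩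
  constructor
  · rintro ⟨b, hb, rfl⟩
    rw [← hf]
    have h : (b.image (e.trans f.symm)).map f.toEmbedding = b.map e.toEmbedding := by
      rw [Finset.map_eq_image, Finset.map_eq_image, Finset.image_image]
      exact Finset.image_congr fun x _ => by simp
    rw [h, he]
    exact hb
  · intro hc
    refine ⟨(c.map f.toEmbedding).map e.symm.toEmbedding, ?_, ?_⟩
    · rw [← he]
      have h : ((c.map f.toEmbedding).map e.symm.toEmbedding).map e.toEmbedding =
          c.map f.toEmbedding := by
        ext p; simp [Finset.mem_map_equiv]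
      rw [h, hf]
      exact hc
    · simp only [Finset.map_eq_image, Finset.image_image]
      conv_rhs => rw [← Finset.image_id (s := c)]
      exact Finset.image_congr fun x _ => by simp

/-- The automorphism group of an S(5,8,24), carried to `M24`. -/
theorem exists_aut_equiv {B : Set (Finset α)} (hα : Fintype.card α = 24)
    (hB : IsSteinerSystem 5 8 B) :
    ∃ (e : α ≃ GolayPt) (φ : setSystemAut B ≃* M24), ∀ g x, (φ g : Equiv.Perm GolayPt) (e x) =
      e ((g : Equiv.Perm α) x) := by
  obtain ⟨e, he⟩ := exists_equiv_octads hα hB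
  have hmap : ∀ (g : Equiv.Perm α) (o : Finset α),
      (g • o).map e.toEmbedding = e.permCongr g • o.map e.toEmbedding := by
    intro g o
    simp only [Finset.map_eq_image, Finset.smul_finset_def, Finset.image_image]
    exact Finset.image_congr fun x _ => by simp [Equiv.permCongr_apply]
  have hiff : ∀ g : Equiv.Perm α, e.permCongr g ∈ M24 ↔ g ∈ setSystemAut B := by
    intro g
    rw [M24_eq_setSystemAut_octads, MulAction.mem_stabilizer_set, MulAction.mem_stabilizer_set]
    constructor
    · intro h o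
      rw [← he, hmap, h, he]
    · intro h o
      obtain ⟨o', rfl⟩ : ∃ o' : Finset α, o'.map e.toEmbedding = o :=
        ⟨o.map e.symm.toEmbedding, by ext p; simp [Finset.mem_map_equiv]⟩
      rw [← hmap, he, he, h]
  refine ⟨e,
    { toFun := fun g => ⟨e.permCongr g, (hiff g).2 g.2⟩
      invFun := fun h => ⟨e.symm.permCongr h, (hiff _).1 (by
        have : e.permCongr (e.symm.permCongr (h : Equiv.Perm GolayPt)) = h := by
          ext p; simp [Equiv.permCongr_apply]
        rw [this]; exact h.2)⟩
      left_inv := fun g => Subtype.ext (Equiv.ext fun x => by simp [Equiv.permCongr_apply])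
      right_inv := fun g => Subtype.ext (Equiv.ext fun x => by simp [Equiv.permCongr_apply])
      map_mul' := fun g h => Subtype.ext (Equiv.ext fun x => by simp [Equiv.permCongr_apply]) },
    fun g x => by simp [Equiv.permCongr_apply]⟩

theorem aut_isM24 {B : Set (Finset α)} (hα : Fintype.card α = 24) (hB : IsSteinerSystem 5 8 B) :
    IsM24 (setSystemAut B) ∧ MulAction.IsMultiplyPretransitive (setSystemAut B) α 5 := by
  obtain ⟨e, φ, hφ⟩ := exists_aut_equiv hα hB
  have hs := isSimple_M24
  refine ⟨⟨MulEquiv.isSimpleGroup φ, ?_⟩, ?_⟩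
  · rw [Nat.card_congr φ.toEquiv, card_M24]
  rw [MulAction.isMultiplyPretransitive_iff]
  intro x y
  have := MulAction.isMultiplyPretransitive_iff.1 isMultiplyPretransitive_five
  obtain ⟨g, hg⟩ := this (x := x.trans e.toEmbedding) (y := y.trans e.toEmbedding)
  refine ⟨φ.symm g, DFunLike.ext _ _ fun i => e.injective ?_⟩
  have h := DFunLike.congr_fun hg i
  show e ((φ.symm g : Equiv.Perm α) (x i)) = _
  rw [← hφ, MulEquiv.apply_symm_apply]
  exact h

theorem code_unique (C : Submodule (ZMod 2) (Fin 24 → ZMod 2))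
    (hdim : Module.finrank (ZMod 2) C = 12) (horth : ∀ v ∈ C, ∀ w ∈ C, ∑ i, v i * w i = 0)
    (h4 : ∀ w ∈ C, 4 ∣ hammingNorm w) (hno4 : ∀ w ∈ C, hammingNorm w ≠ 4) :
    ∃ e : Fin 24 ≃ GolayPt, ∀ w : GolayPt → ZMod 2,
      w ∈ golayCode ↔ (fun i => w (e i)) ∈ C := by
  have hmin : ∀ w ∈ C, w ≠ 0 → 8 ≤ hammingNorm w := fun w hw hne => by
    have h1 := h4 w hw
    have h2 := hno4 w hw
    have h3 : 0 < hammingNorm w := hammingNorm_pos_iff.2 hne
    omega
  obtain ⟨e, he⟩ := exists_equiv (isGolay_family (by simp) C hdim horth hmin)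
  refine ⟨e, fun w => ?_⟩
  rw [← supp_mem_family (C := C), he, ← support₂_mem_supports]
  have : (supp fun i => w (e i)).map e.toEmbedding = support₂ w := by
    ext p; simp [supp, support₂, Finset.mem_map_equiv]
  rw [this]

end CfsgLib.Golay.Unique
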